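import Cfsg.Agent.H158.Pencil_mg
import Cfsg.Agent.H166.Cov.Defs
import Cfsg.Agent.H152.Blocks
import Cfsg.Agent.H513.ThreeOrbBwdLA
import Cfsg.Agent.H953.Rcf
import Cfsg.Agent.H171.ElemDiv
import Cfsg.Agent.H71.CovFull
import Cfsg.Agent.H166.Cov.Basic
set_option linter.all false

-- part: H560/CovD
section
/-!
# Block triangular endomorphisms (task D of S2483)
-/

set_option autoImplicit false

namespace Cfsg.Agent.H560.CovD

open Module Polynomial Cfsg.Agent.H166.Cov Cfsg.Agent.H560.CovC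

universe u

variable {F : Type u} [Field F] {V W U : Type u} [AddCommGroup V] [Module F V]
  [AddCommGroup W] [Module F W] [AddCommGroup U] [Module F U]

theorem charpoly_up [FiniteDimensional F U] [FiniteDimensional F W] (P : End F U) (R : W →ₗ[F] U)
    (T : End F W) :
    LinearMap.charpoly (up P R T) = LinearMap.charpoly P * LinearMap.charpoly T := by
  classical
  let b₁ := Module.finBasis F U
  let b₂ := Module.finBasis F W
  rw [← LinearMap.charpoly_toMatrix P b₁, ← LinearMap.charpoly_toMatrix T b₂,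
    ← LinearMap.charpoly_toMatrix (up P R T) (b₁.prod b₂)]
  have h : LinearMap.toMatrix (b₁.prod b₂) (b₁.prod b₂) (up P R T) =
      Matrix.fromBlocks (LinearMap.toMatrix b₁ b₁ P) (LinearMap.toMatrix b₂ b₁ R) 0
        (LinearMap.toMatrix b₂ b₂ T) := by
    ext i j
    rcases i with i | i <;> rcases j with j | j <;>
      simp [LinearMap.toMatrix_apply, up_apply]
  rw [h, Matrix.charpoly_fromBlocks_zero₂₁]

/-- powers of `up` on the first factor -/
theorem aeval_up_fst (P : End F U) (R : W →ₗ[F] U) (T : End F W) (p : F[X]) (x : U) :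
    aeval (up P R T) p (x, 0) = (aeval P p x, 0) := by
  have h := aeval_apply_of_comm (S := P) (T := up P R T) (LinearMap.inl F U W)
    (fun x => by simp) p x
  simpa using h.symm

theorem aeval_up_snd (P : End F U) (R : W →ₗ[F] U) (T : End F W) (p : F[X]) (x : U × W) :
    (aeval (up P R T) p x).2 = aeval T p x.2 := by
  have h := aeval_apply_of_comm (S := up P R T) (T := T) (LinearMap.snd F U W)
    (fun x => by simp) p x
  simpa using h

/-- a vector generating the first factor and projecting to a cyclic vector is cyclic -/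
theorem cyc_up {P : End F U} {R : W →ₗ[F] U} {T : End F W} {u : U} {w : W} (hu : Cyc P u)
    (hw : Cyc T w) {v : U × W} {p q : F[X]} (h1 : aeval (up P R T) p v = (u, 0))
    (h2 : (aeval (up P R T) q v).2 = w) : Cyc (up P R T) v := by
  rintro ⟨x, y⟩
  obtain ⟨r, hr⟩ := hw y
  obtain ⟨s, hs⟩ := hu (x - (aeval (up P R T) (r * q) v).1)
  refine ⟨r * q + s * p, ?_⟩
  rw [map_add, LinearMap.add_apply, map_mul (aeval (up P R T)) s p, Module.End.mul_apply, h1,
    aeval_up_fst, hs]
  have h3 : (aeval (up P R T) (r * q) v).2 = y := by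
    rw [map_mul, Module.End.mul_apply, aeval_up_snd, h2, hr]
  ext
  · simp
  · simpa using h3

theorem Coc.up [FiniteDimensional F U] [FiniteDimensional F W] {P : End F U} (R : W →ₗ[F] U)
    {T : End F W} (hP : Coc P) (hT : Coc T)
    (h : IsCoprime (LinearMap.charpoly P) (LinearMap.charpoly T)) :
    Coc (Cfsg.Agent.H166.Cov.up P R T) := by
  obtain ⟨u, hu⟩ := (coc_iff P).mp hP
  obtain ⟨w, hw⟩ := (coc_iff T).mp hT
  obtain ⟨a, b, hab⟩ := h
  -- `b χ_T` is the identity on `U`
  have hid : ∀ x : U, aeval P (b * LinearMap.charpoly T) x = x := by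
    intro x
    have h1 : b * LinearMap.charpoly T = 1 - a * LinearMap.charpoly P := by
      rw [← hab]; ring
    rw [h1, map_sub, map_one, map_mul, LinearMap.aeval_self_charpoly, mul_zero, sub_zero]
    rfl
  -- correct `(0, w)` to an element killed by `χ_T`
  have hχ : (aeval (Cfsg.Agent.H166.Cov.up P R T) (LinearMap.charpoly T) (0, w)).2 = 0 := by
    rw [aeval_up_snd, LinearMap.aeval_self_charpoly]; rfl
  obtain ⟨c, hc⟩ : ∃ c : U,
      aeval (Cfsg.Agent.H166.Cov.up P R T) (LinearMap.charpoly T) (0, w) = (c, 0) :=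
    ⟨_, Prod.ext rfl hχ⟩
  let y : U := - aeval P b c
  have hy : aeval (Cfsg.Agent.H166.Cov.up P R T) (LinearMap.charpoly T) (y, w) = 0 := by
    have h1 : ((y, w) : U × W) = (y, 0) + (0, w) := by simp
    rw [h1, map_add, hc, aeval_up_fst]
    have h2 : aeval P (LinearMap.charpoly T) y = - c := by
      rw [map_neg, neg_inj]
      rw [← Module.End.mul_apply, ← map_mul, mul_comm]
      exact hid c
    rw [h2]; simp
  refine (coc_iff _).mpr ⟨(u, 0) + (y, w), ?_⟩
  refine cyc_up (p := b * LinearMap.charpoly T) (q := 1) hu hw ?_ ?_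
  · rw [map_add, aeval_up_fst, hid, map_mul (aeval (Cfsg.Agent.H166.Cov.up P R T)),
      Module.End.mul_apply, hy, map_zero, add_zero]
  · simp

theorem topCoeff_root_pow {g : F[X]} (hg : g.Monic) {i : ℕ} (hi : i < g.natDegree) :
    topCoeff hg (AdjoinRoot.root g ^ i) = if i = g.natDegree - 1 then 1 else 0 := by
  rw [← AdjoinRoot.mk_X, ← map_pow, topCoeff_mk]
  rw [(Polynomial.modByMonic_eq_self_iff hg).mpr]
  · rw [coeff_X_pow]
    simp [eq_comm]
  · rw [degree_X_pow, degree_eq_natDegree hg.ne_zero]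
    exact_mod_cast hi

/-- the model of `F[X]/(f g)` as an extension of `F[X]/(g)` by `F[X]/(f)` -/
noncomputable def glue {f g : F[X]} (hg : g.Monic) : AdjoinRoot g →ₗ[F] AdjoinRoot f :=
  (topCoeff hg).smulRight (1 : AdjoinRoot f)

theorem coc_glue {f g : F[X]} (hf : f.Monic) (hg : g.Monic) :
    Coc (up (rootMul f) (glue (f := f) hg) (rootMul g)) := by
  have : FiniteDimensional F (AdjoinRoot f) := finiteDimensional_adjoinRoot hf
  have : FiniteDimensional F (AdjoinRoot g) := finiteDimensional_adjoinRoot hg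
  rw [coc_iff]
  set M := up (rootMul f) (glue (f := f) hg) (rootMul g) with hM
  rcases Nat.eq_zero_or_pos g.natDegree with h0 | hpos
  · -- `g = 1`
    have hsub : Subsingleton (AdjoinRoot g) := by
      have : finrank F (AdjoinRoot g) = 0 := by rw [finrank_adjoinRoot hg, h0]
      exact Module.finrank_zero_iff.mp this
    refine ⟨(1, 0), cyc_up (u := 1) (w := 1) (p := 1) (q := 1) (cyc_rootMul f) (cyc_rootMul g) ?_ ?_⟩
    · simp
    · exact Subsingleton.elim _ _
  · refine ⟨(0, 1), cyc_up (u := 1) (w := 1) (p := g) (q := 1) (cyc_rootMul f) (cyc_rootMul g)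
      ?_ (by simp)⟩
    have hpow : ∀ i, i < g.natDegree →
        (M ^ i) (0, 1) = ((0 : AdjoinRoot f), AdjoinRoot.root g ^ i) := by
      intro i
      induction i with
      | zero => intro _; simp
      | succ i ih =>
        intro hi
        rw [pow_succ', Module.End.mul_apply, ih (by omega), hM, up_apply]
        ext
        · simp only [map_zero, zero_add]
          rw [glue, LinearMap.smulRight_apply, topCoeff_root_pow hg (by omega),
            if_neg (by omega), zero_smul]
        · simp only [rootMul, LinearMap.mulLeft_apply]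
          rw [pow_succ']
    have htop : (M ^ g.natDegree) (0, 1) = ((1 : AdjoinRoot f), AdjoinRoot.root g ^ g.natDegree) := by
      obtain ⟨n, hn⟩ : ∃ n, g.natDegree = n + 1 := ⟨g.natDegree - 1, by omega⟩
      rw [hn, pow_succ', Module.End.mul_apply, hpow n (by omega), hM, up_apply]
      ext
      · simp only [map_zero, zero_add]
        rw [glue, LinearMap.smulRight_apply, topCoeff_root_pow hg (by omega),
          if_pos (by omega), one_smul]
      · simp only [rootMul, LinearMap.mulLeft_apply]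
        rw [pow_succ']
    have hsum : ∀ (h : F[X]), h.natDegree < g.natDegree →
        aeval M h ((0 : AdjoinRoot f), (1 : AdjoinRoot g)) = (0, aeval (AdjoinRoot.root g) h) := by
      intro h hh
      rw [Polynomial.aeval_eq_sum_range, Polynomial.aeval_eq_sum_range, LinearMap.sum_apply]
      have : ∀ i ∈ Finset.range (h.natDegree + 1), (h.coeff i • M ^ i) (0, 1) =
          ((0 : AdjoinRoot f), h.coeff i • AdjoinRoot.root g ^ i) := by
        intro i hi
        rw [Finset.mem_range] at hi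
        rw [LinearMap.smul_apply, hpow i (by omega)]
        simp
      rw [Finset.sum_congr rfl this]
      ext
      · simp [Prod.fst_sum]
      · simp [Prod.snd_sum]
    -- split off the leading term
    have hsplit : g = X ^ g.natDegree + (g - X ^ g.natDegree) := by ring
    have hroot : aeval (AdjoinRoot.root g) g = 0 := by
      rw [AdjoinRoot.aeval_eq, AdjoinRoot.mk_self]
    have hlt : (g - X ^ g.natDegree).natDegree < g.natDegree := by
      by_cases hz : g - X ^ g.natDegree = 0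
      · rw [hz]; simpa using hpos
      · refine Polynomial.natDegree_lt_natDegree hz ?_
        have h1 : (g - X ^ g.natDegree).degree < g.degree := by
          refine Polynomial.degree_sub_lt_left ?_ hg.ne_zero ?_
          · rw [degree_X_pow, degree_eq_natDegree hg.ne_zero]
          · rw [leadingCoeff_X_pow, hg.leadingCoeff]
        exact h1
    have h2 : aeval M g ((0 : AdjoinRoot f), (1 : AdjoinRoot g)) =
        aeval M (X ^ g.natDegree : F[X]) (0, 1) + aeval M (g - X ^ g.natDegree : F[X]) (0, 1) := by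
      have h4 : aeval M g = aeval M (X ^ g.natDegree : F[X]) + aeval M (g - X ^ g.natDegree : F[X]) := by
        exact (congrArg (aeval M) hsplit).trans (map_add (aeval M) _ _)
      rw [h4, LinearMap.add_apply]
    rw [h2, hsum _ hlt, map_pow, aeval_X, htop]
    ext
    · simp
    · simp only [Prod.snd_add]
      have h3 : aeval (AdjoinRoot.root g) g = AdjoinRoot.root g ^ g.natDegree +
          aeval (AdjoinRoot.root g) (g - X ^ g.natDegree) := by
        refine (congrArg (aeval (AdjoinRoot.root g)) hsplit).trans ?_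
        rw [map_add, map_pow, aeval_X]
      rw [← h3, hroot]

theorem exists_up [FiniteDimensional F V] {T : End F V} (hT : Coc T) {f g : F[X]} (hf : f.Monic)
    (hg : g.Monic) (h : LinearMap.charpoly T = f * g) :
    ∃ (P : End F (Fin f.natDegree → F)) (R : (Fin g.natDegree → F) →ₗ[F] (Fin f.natDegree → F))
      (T' : End F (Fin g.natDegree → F)), Sim T (Cfsg.Agent.H166.Cov.up P R T') ∧ Coc P ∧
      LinearMap.charpoly P = f ∧ Coc T' ∧ LinearMap.charpoly T' = g := by
  have : FiniteDimensional F (AdjoinRoot f) := finiteDimensional_adjoinRoot hf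
  have : FiniteDimensional F (AdjoinRoot g) := finiteDimensional_adjoinRoot hg
  let e₁ : AdjoinRoot f ≃ₗ[F] (Fin f.natDegree → F) :=
    LinearEquiv.ofFinrankEq _ _ (by rw [finrank_adjoinRoot hf, Module.finrank_fin_fun])
  let e₂ : AdjoinRoot g ≃ₗ[F] (Fin g.natDegree → F) :=
    LinearEquiv.ofFinrankEq _ _ (by rw [finrank_adjoinRoot hg, Module.finrank_fin_fun])
  let P := e₁.conj (rootMul f)
  let T' := e₂.conj (rootMul g)
  let R : (Fin g.natDegree → F) →ₗ[F] (Fin f.natDegree → F) :=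
    (e₁ : AdjoinRoot f →ₗ[F] _) ∘ₗ (glue (f := f) hg) ∘ₗ (e₂.symm : _ →ₗ[F] AdjoinRoot g)
  have hPs : SimG (rootMul f) P :=
    ⟨e₁, fun x => by simp [P, LinearEquiv.conj_apply_apply]⟩
  have hTs : SimG (rootMul g) T' :=
    ⟨e₂, fun x => by simp [T', LinearEquiv.conj_apply_apply]⟩
  have hM : SimG (up (rootMul f) (glue (f := f) hg) (rootMul g)) (up P R T') := by
    refine ⟨e₁.prodCongr e₂, fun x => ?_⟩
    ext1
    · simp [P, R, LinearEquiv.conj_apply_apply]
    · simp [T', LinearEquiv.conj_apply_apply]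
  refine ⟨P, R, T', ?_, Coc.of_simG (coc_rootMul hf) hPs, ?_, Coc.of_simG (coc_rootMul hg) hTs, ?_⟩
  · refine Sim.of_coc hT (Coc.of_simG (coc_glue hf hg) hM) ?_
    rw [h, charpoly_up, LinearEquiv.charpoly_conj, LinearEquiv.charpoly_conj, charpoly_rootMul hf,
      charpoly_rootMul hg]
  · rw [LinearEquiv.charpoly_conj, charpoly_rootMul hf]
  · rw [LinearEquiv.charpoly_conj, charpoly_rootMul hg]

end Cfsg.Agent.H560.CovD
end

-- part: H151/Cov/Poly
section
/-!
# Polynomials over a finite field with prescribed constant term (task E of S2483)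
-/

set_option autoImplicit false

namespace Cfsg.Agent.H151.Cov.Poly

open Module Polynomial Cfsg.Agent.H166.Cov

universe u

variable {F : Type u} [Field F]

omit [Field F] in
/-- few values can be avoided -/
theorem exists_avoid [Finite F] (s : Finset F) (h : s.card < Nat.card F) : ∃ x : F, x ∉ s := by
  classical
  have := Fintype.ofFinite F
  by_contra hc
  push Not at hc
  have h1 : s = Finset.univ := Finset.eq_univ_of_forall hc
  rw [h1, Finset.card_univ, Nat.card_eq_fintype_card] at h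
  exact lt_irrefl _ h

theorem isCoprime_unit {a b : F[X]} (h : IsUnit b) : IsCoprime a b := by
  obtain ⟨u, rfl⟩ := h
  exact ⟨0, ↑(u⁻¹), by simp⟩

theorem deg_lin (c e : F) {d : ℕ} (hd : 2 ≤ d) : (C c * X + C e : F[X]).degree < (d : ℕ) :=
  lt_of_le_of_lt degree_linear_le (by exact_mod_cast (show 1 < d by omega))

/-- a monic polynomial without roots, with prescribed degree at least 2 and constant term -/
theorem exists_rootless [Finite F] {d : ℕ} (hd : 2 ≤ d) {e : F} (he : e ≠ 0) :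
    ∃ p : F[X], p.Monic ∧ p.natDegree = d ∧ p.coeff 0 = e ∧ ∀ x, p.eval x ≠ 0 := by
  classical
  have := Fintype.ofFinite F
  obtain ⟨c, hc⟩ := exists_avoid (((Finset.univ : Finset F).erase 0).image (fun x => -(x ^ d + e) / x)) (by
    refine lt_of_le_of_lt Finset.card_image_le ?_
    rw [Finset.card_erase_of_mem (Finset.mem_univ _), Finset.card_univ, Nat.card_eq_fintype_card]
    have : 0 < Fintype.card F := Fintype.card_pos
    omega)
  refine ⟨X ^ d + (C c * X + C e), monic_X_pow_add (deg_lin c e hd), ?_, ?_, ?_⟩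
  · rw [natDegree_add_eq_left_of_degree_lt (by rw [degree_X_pow]; exact deg_lin c e hd), natDegree_X_pow]
  · simp [coeff_X_pow, show (0 : ℕ) ≠ d by omega]
  · intro x hx
    have hx' : x ^ d + (c * x + e) = 0 := by simpa using hx
    by_cases h0 : x = 0
    · rw [h0, zero_pow (by omega)] at hx'
      apply he
      simpa using hx'
    · apply hc
      refine Finset.mem_image.2 ⟨x, Finset.mem_erase.2 ⟨h0, Finset.mem_univ _⟩, ?_⟩
      rw [div_eq_iff h0]
      linear_combination -hx'

theorem coprime_lin {a : F} {p : F[X]} (h : p.eval a ≠ 0) : IsCoprime (X - C a) p :=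
  (irreducible_X_sub_C a).coprime_iff_not_dvd.2 fun hd => h (dvd_iff_isRoot.1 hd)

theorem coprime_lin_lin {a b : F} (h : a ≠ b) : IsCoprime (X - C a) (X - C b) :=
  coprime_lin (by simpa using sub_ne_zero.2 h)

/-- two nonzero elements with different squares, different from a given one -/
theorem exists_two [Finite F] (hq : 4 ≤ Nat.card F) (ξ : F) :
    ∃ a b : F, a ≠ 0 ∧ b ≠ 0 ∧ a ≠ ξ ∧ b ≠ ξ ∧ a ^ 2 ≠ b ^ 2 := by
  classical
  have := Fintype.ofFinite F
  obtain ⟨a, ha⟩ := exists_avoid ({0, ξ} : Finset F) (lt_of_le_of_lt Finset.card_le_two (by omega))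
  obtain ⟨b, hb⟩ := exists_avoid ({0, ξ, a} : Finset F) (lt_of_le_of_lt Finset.card_le_three (by omega))
  simp only [Finset.mem_insert, Finset.mem_singleton, not_or] at ha hb
  by_cases hab : a ^ 2 = b ^ 2
  · rcases sq_eq_sq_iff_eq_or_eq_neg.1 hab with h | h
    · exact absurd h.symm hb.2.2
    · by_cases h2 : ringChar F = 2
      · have : CharP F 2 := by rw [← h2]; exact ringChar.charP F
        rw [CharTwo.neg_eq] at h
        exact absurd h.symm hb.2.2
      · have h5 : 5 ≤ Nat.card F := by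
          have h3 := FiniteField.odd_card_of_char_ne_two h2
          rw [Nat.card_eq_fintype_card] at hq ⊢
          omega
        obtain ⟨c, hc⟩ := exists_avoid ({0, ξ, a, b} : Finset F) (lt_of_le_of_lt Finset.card_le_four (by omega))
        simp only [Finset.mem_insert, Finset.mem_singleton, not_or] at hc
        refine ⟨a, c, ha.1, hc.1, ha.2, hc.2.1, fun hac => ?_⟩
        rcases sq_eq_sq_iff_eq_or_eq_neg.1 hac with h' | h'
        · exact hc.2.2.1 h'.symm
        · apply hc.2.2.2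
          rw [h] at h'
          exact (neg_injective h').symm
  · exact ⟨a, b, ha.1, hb.1, ha.2, hb.2.1, hab⟩

theorem exists_nice [Finite F] (hq : 4 ≤ Nat.card F) {n : ℕ} (hn : 2 ≤ n) {δ : F} (hδ : δ ≠ 0) (ξ : F) :
    ∃ (ν : F) (p : F[X]), ν ≠ 0 ∧ ν ≠ ξ ∧ p.Monic ∧ p.natDegree = n - 1 ∧ p.eval ν ≠ 0 ∧
      ((X - C ν) * p).coeff 0 = (-1) ^ n * δ ∧
      ∀ r : F[X], (∀ x, r.eval x ≠ 0) → IsCoprime ((X - C ν) * p) r := by
  classical
  obtain ⟨k, rfl⟩ := Nat.exists_eq_add_of_le hn
  obtain ⟨a, b, ha0, hb0, haξ, hbξ, hab⟩ := exists_two hq ξ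
  obtain ⟨μ, hμ⟩ := exists_avoid ({0, a, b} : Finset F) (lt_of_le_of_lt Finset.card_le_three (by omega))
  simp only [Finset.mem_insert, Finset.mem_singleton, not_or] at hμ
  obtain ⟨hμ0, hμa, hμb⟩ := hμ
  obtain ⟨ν, hν0, hνξ, hνμ, hν⟩ : ∃ ν : F, ν ≠ 0 ∧ ν ≠ ξ ∧ ν ≠ μ ∧ ν ^ 2 * μ ^ k ≠ δ := by
    by_cases h : a ^ 2 * μ ^ k = δ
    · refine ⟨b, hb0, hbξ, fun h => hμb h.symm, fun h' => hab ?_⟩
      exact mul_right_cancel₀ (pow_ne_zero k hμ0) (h.trans h'.symm)
    · exact ⟨a, ha0, haξ, fun h => hμa h.symm, h⟩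
  have hk : ν * μ ^ k ≠ 0 := mul_ne_zero hν0 (pow_ne_zero k hμ0)
  refine ⟨ν, (X - C μ) ^ k * (X - C (δ / (ν * μ ^ k))), hν0, hνξ,
    ((monic_X_sub_C μ).pow k).mul (monic_X_sub_C _), ?_, ?_, ?_, ?_⟩
  · rw [((monic_X_sub_C μ).pow k).natDegree_mul (monic_X_sub_C _), natDegree_X_sub_C,
      (monic_X_sub_C μ).natDegree_pow, natDegree_X_sub_C]
    omega
  · rw [eval_mul, eval_pow, eval_sub, eval_X, eval_C, eval_sub, eval_X, eval_C]
    refine mul_ne_zero (pow_ne_zero _ (sub_ne_zero.2 hνμ)) (sub_ne_zero.2 fun h => hν ?_)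
    rw [eq_div_iff hk] at h
    rw [← h]
    ring
  · rw [coeff_zero_eq_eval_zero]
    simp only [eval_mul, eval_pow, eval_sub, eval_X, eval_C, zero_sub]
    rw [neg_pow μ k]
    field_simp
    ring
  · intro r hr
    exact (coprime_lin (hr ν)).mul_left ((coprime_lin (hr μ)).pow_left.mul_left (coprime_lin (hr _)))

/-- a rootless polynomial is coprime to every nonzero polynomial of degree at most one -/
theorem coprime_of_rootless {p : F[X]} (hp : ∀ x, p.eval x ≠ 0) {b e : F} (h : b ≠ 0 ∨ e ≠ 0) :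
    IsCoprime p (C b * X + C e) := by
  by_cases hb : b = 0
  · have he : e ≠ 0 := h.resolve_left (not_not.2 hb)
    rw [hb, C_0, zero_mul, zero_add]
    exact isCoprime_unit ((isUnit_C).2 (isUnit_iff_ne_zero.2 he))
  · have h1 : (C b * X + C e : F[X]) = C b * (X - C (-e / b)) := by
      rw [mul_sub, ← C_mul, mul_div_cancel₀ _ hb, C_neg]
      ring
    rw [h1]
    exact (isCoprime_unit ((isUnit_C).2 (isUnit_iff_ne_zero.2 hb))).mul_right (coprime_lin (hp _)).symm

/-- the case `n₁ = 2` -/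
theorem pair_two [Finite F] (hq : 4 ≤ Nat.card F) {n₂ : ℕ} (h₂ : 3 ≤ n₂) {δ₁ δ₂ : F} (hδ₁ : δ₁ ≠ 0) (hδ₂ : δ₂ ≠ 0) :
    ∃ (ν₁ ν₂ : F) (p₁ p₂ : F[X]), ν₁ ≠ ν₂ ∧ p₁.Monic ∧ p₁.natDegree = 1 ∧ p₁.eval ν₁ ≠ 0 ∧
      ((X - C ν₁) * p₁).coeff 0 = δ₁ ∧ p₂.Monic ∧ p₂.natDegree = n₂ - 1 ∧ p₂.eval ν₂ ≠ 0 ∧
      ((X - C ν₂) * p₂).coeff 0 = δ₂ ∧ IsCoprime ((X - C ν₁) * p₁) ((X - C ν₂) * p₂) := by
  classical
  obtain ⟨a, b, ha0, hb0, -, -, hab⟩ := exists_two hq (0 : F)
  obtain ⟨ν, hν0, hν⟩ : ∃ ν : F, ν ≠ 0 ∧ ν ^ 2 ≠ δ₁ := by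
    by_cases h : a ^ 2 = δ₁
    · exact ⟨b, hb0, fun h' => hab (h.trans h'.symm)⟩
    · exact ⟨a, ha0, h⟩
  obtain ⟨ν₂, h⟩ := exists_avoid ({0, ν, δ₁ / ν} : Finset F) (lt_of_le_of_lt Finset.card_le_three (by omega))
  simp only [Finset.mem_insert, Finset.mem_singleton, not_or] at h
  obtain ⟨h0, h1, h2⟩ := h
  obtain ⟨p, hp1, hp2, hp3, hp4⟩ := exists_rootless (F := F) (d := n₂ - 1) (by omega) (e := - δ₂ / ν₂)
    (div_ne_zero (neg_ne_zero.2 hδ₂) h0)
  refine ⟨ν, ν₂, X - C (δ₁ / ν), p, fun h => h1 h.symm, monic_X_sub_C _, natDegree_X_sub_C _, ?_, ?_, hp1, hp2,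
    hp4 _, ?_, ?_⟩
  · rw [eval_sub, eval_X, eval_C, sub_ne_zero]
    intro h
    apply hν
    rw [eq_div_iff hν0] at h
    rw [← h, sq]
  · rw [coeff_zero_eq_eval_zero]
    simp only [eval_mul, eval_sub, eval_X, eval_C, zero_sub]
    field_simp
  · rw [mul_coeff_zero, hp3]
    simp only [coeff_sub, coeff_X_zero, coeff_C_zero, zero_sub]
    field_simp
  · exact IsCoprime.mul_left ((coprime_lin_lin fun h => h1 h.symm).mul_right (coprime_lin (hp4 _)))
      ((coprime_lin_lin fun h => h2 h.symm).mul_right (coprime_lin (hp4 _)))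

/-- the case `3 ≤ n₁ ≤ n₂` -/
theorem pair_three [Finite F] (hq : 4 ≤ Nat.card F) {n₁ n₂ : ℕ} (h₁ : 3 ≤ n₁) (h₂ : n₁ ≤ n₂) {δ₁ δ₂ : F}
    (hδ₁ : δ₁ ≠ 0) :
    ∃ (ν₁ ν₂ : F) (p₁ p₂ : F[X]), ν₁ ≠ ν₂ ∧ p₁.Monic ∧ p₁.natDegree = n₁ - 1 ∧ p₁.eval ν₁ ≠ 0 ∧
      ((X - C ν₁) * p₁).coeff 0 = δ₁ ∧ p₂.Monic ∧ p₂.natDegree = n₂ - 1 ∧ p₂.eval ν₂ ≠ 0 ∧
      ((X - C ν₂) * p₂).coeff 0 = δ₂ ∧ IsCoprime ((X - C ν₁) * p₁) ((X - C ν₂) * p₂) := by
  classical
  obtain ⟨ν₁, ν₂, ha0, hb0, -, -, hab⟩ := exists_two hq (0 : F)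
  have hν : ν₁ ≠ ν₂ := fun h => hab (by rw [h])
  obtain ⟨p, hp1, hp2, hp3, hp4⟩ := exists_rootless (F := F) (d := n₁ - 1) (by omega) (e := - δ₁ / ν₁)
    (div_ne_zero (neg_ne_zero.2 hδ₁) ha0)
  obtain ⟨k, hk⟩ := Nat.exists_eq_add_of_le (show n₁ - 1 ≤ n₂ - 1 by omega)
  obtain ⟨e₀, he₀⟩ : ∃ e₀ : F, e₀ = (X ^ k * p).eval 0 := ⟨_, rfl⟩
  obtain ⟨e, he⟩ : ∃ e : F, e = -δ₂ / ν₂ - e₀ := ⟨_, rfl⟩
  obtain ⟨b, hb⟩ := exists_avoid ({0, -((X ^ k * p).eval ν₁ + e) / ν₁, -((X ^ k * p).eval ν₂ + e) / ν₂} : Finset F)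
    (lt_of_le_of_lt Finset.card_le_three (by omega))
  simp only [Finset.mem_insert, Finset.mem_singleton, not_or] at hb
  obtain ⟨hb0', hb1, hb2⟩ := hb
  have hdeg : (C b * X + C e : F[X]).degree < (X ^ k * p).degree := by
    rw [degree_mul, degree_X_pow, degree_eq_natDegree hp1.ne_zero, hp2]
    refine lt_of_le_of_lt degree_linear_le ?_
    have : 1 < k + (n₁ - 1) := by omega
    exact_mod_cast this
  have hmon : (X ^ k * p).Monic := (monic_X_pow k).mul hp1
  have hcop : IsCoprime p (X ^ k * p + (C b * X + C e)) := by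
    have := (coprime_of_rootless hp4 (e := e) (Or.inl hb0')).add_mul_right_right (X ^ k)
    rwa [add_comm] at this
  have hev : ∀ ν : F, ν ≠ 0 → b ≠ -((X ^ k * p).eval ν + e) / ν → (X ^ k * p + (C b * X + C e)).eval ν ≠ 0 := by
    intro ν hν0 hbν h
    apply hbν
    rw [eq_div_iff hν0]
    rw [eval_add, eval_add, eval_mul (p := C b), eval_C, eval_C, eval_X] at h
    linear_combination h
  have hev1 := hev ν₁ ha0 hb1
  have hev2 := hev ν₂ hb0 hb2
  refine ⟨ν₁, ν₂, p, X ^ k * p + (C b * X + C e), hν, hp1, hp2, hp4 _, ?_, hmon.add_of_left hdeg, ?_, hev2, ?_, ?_⟩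
  · rw [mul_coeff_zero, hp3]
    simp only [coeff_sub, coeff_X_zero, coeff_C_zero, zero_sub]
    field_simp
  · rw [natDegree_add_eq_left_of_degree_lt hdeg, (monic_X_pow k).natDegree_mul hp1, natDegree_X_pow, hp2]
    omega
  · rw [coeff_zero_eq_eval_zero]
    rw [eval_mul, eval_add, ← he₀, eval_sub, eval_X, eval_C, eval_add, eval_mul, eval_C, eval_C, eval_X, he]
    field_simp
    ring
  · exact IsCoprime.mul_left ((coprime_lin_lin hν).mul_right (coprime_lin hev1))
      ((coprime_lin (hp4 _)).symm.mul_right hcop)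

theorem exists_pair [Finite F] (hq : 4 ≤ Nat.card F) {n₁ n₂ : ℕ} (h₁ : 2 ≤ n₁) (h₂ : 2 ≤ n₂)
    (h : ¬ (n₁ = 2 ∧ n₂ = 2)) {δ₁ δ₂ : F} (hδ₁ : δ₁ ≠ 0) (hδ₂ : δ₂ ≠ 0) :
    ∃ (ν₁ ν₂ : F) (p₁ p₂ : F[X]), ν₁ ≠ ν₂ ∧ p₁.Monic ∧ p₁.natDegree = n₁ - 1 ∧ p₁.eval ν₁ ≠ 0 ∧
      ((X - C ν₁) * p₁).coeff 0 = (-1) ^ n₁ * δ₁ ∧ p₂.Monic ∧ p₂.natDegree = n₂ - 1 ∧ p₂.eval ν₂ ≠ 0 ∧
      ((X - C ν₂) * p₂).coeff 0 = (-1) ^ n₂ * δ₂ ∧ IsCoprime ((X - C ν₁) * p₁) ((X - C ν₂) * p₂) := by
  have hδ₁' : (-1) ^ n₁ * δ₁ ≠ 0 := mul_ne_zero (pow_ne_zero _ (neg_ne_zero.2 one_ne_zero)) hδ₁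
  have hδ₂' : (-1) ^ n₂ * δ₂ ≠ 0 := mul_ne_zero (pow_ne_zero _ (neg_ne_zero.2 one_ne_zero)) hδ₂
  rcases le_total n₁ n₂ with hle | hle
  · by_cases h3 : 3 ≤ n₁
    · exact pair_three hq h3 hle hδ₁'
    · obtain rfl : n₁ = 2 := by omega
      exact pair_two hq (by omega) hδ₁' hδ₂'
  · by_cases h3 : 3 ≤ n₂
    · obtain ⟨a, b, p, r, c1, c2, c3, c4, c5, c6, c7, c8, c9, c10⟩ := pair_three hq h3 hle hδ₂'
      exact ⟨b, a, r, p, c1.symm, c6, c7, c8, c9, c2, c3, c4, c5, c10.symm⟩
    · obtain rfl : n₂ = 2 := by omega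
      obtain ⟨a, b, p, r, c1, c2, c3, c4, c5, c6, c7, c8, c9, c10⟩ :=
        pair_two hq (show 3 ≤ n₁ by omega) hδ₂' hδ₁'
      exact ⟨b, a, r, p, c1.symm, c6, c7, c8, c9, c2, c3, c4, c5, c10.symm⟩

end Cfsg.Agent.H151.Cov.Poly
end

-- part: H151/Cov/Nilp
section
/-!
# `1` as a product of conjugates of a unipotent map (task M of S2483)
-/

set_option autoImplicit false

namespace Cfsg.Agent.H151.Cov.Nilp

open Module Polynomial Cfsg.Agent.H166.Cov

universe u

variable {F : Type u} [Field F] {V : Type u} [AddCommGroup V] [Module F V]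

theorem ker_bot {M : End F V} (hM : IsNilpotent M) {p : F[X]} (hp : IsCoprime p X) :
    LinearMap.ker (aeval M p) = ⊥ := by
  obtain ⟨k, hk⟩ := hM
  obtain ⟨a, b, hab⟩ := hp.pow_right (n := k)
  have h1 : aeval M a * aeval M p = 1 := by
    have := congrArg (aeval M) hab
    rw [map_add, map_mul, map_mul, map_pow, aeval_X, hk, mul_zero, add_zero, map_one] at this
    exact this
  rw [LinearMap.ker_eq_bot']
  intro x hx
  have := congrArg (fun T : End F V => T x) h1
  simpa [hx] using this.symm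

/-- a nilpotent map times a commuting unit -/
theorem sim_mul [FiniteDimensional F V] {N w : End F V} (hN : IsNilpotent N) (h : Commute N w) (hw : IsUnit w) :
    Sim N (N * w) := by
  have hNw : IsNilpotent (N * w) := h.isNilpotent_mul_right hN
  refine Cfsg.Agent.H152.exists_equiv_of_finrank N (N * w) fun φ hφ hirr j => ?_
  by_cases hX : φ = X
  · subst hX
    rw [map_pow, map_pow, aeval_X, aeval_X]
    have hk : LinearMap.ker (N ^ j) = LinearMap.ker ((N * w) ^ j) := ?_
    · rw [hk]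
    ext x
    rw [LinearMap.mem_ker, LinearMap.mem_ker, h.mul_pow, (h.pow_pow j j).eq, Module.End.mul_apply]
    constructor
    · intro hx
      rw [hx, map_zero]
    · intro hx
      have h2 : Function.Injective (w ^ j) := ((Module.End.isUnit_iff _).1 (hw.pow j)).1
      exact h2 (by rw [hx, map_zero])
  · have hc : IsCoprime φ X := by
      refine (hirr.coprime_iff_not_dvd).2 fun hd => hX ?_
      exact Polynomial.eq_of_monic_of_associated hφ monic_X (hirr.associated_of_dvd irreducible_X hd)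
    rw [ker_bot hN hc.pow_left, ker_bot hNw hc.pow_left]

theorem sim_one_add [FiniteDimensional F V] {N w : End F V} (hN : IsNilpotent N) (h : Commute N w) (hw : IsUnit w) :
    Sim (1 + N) (1 + N * w) := by
  obtain ⟨e, he⟩ := sim_mul hN h hw
  refine ⟨e, fun x => ?_⟩
  rw [LinearMap.add_apply, LinearMap.add_apply, map_add, he x]
  rfl

theorem isUnit_aux {N v : End F V} (hN : IsNilpotent N) (h : Commute N v) {s : F} (hs : s ≠ 0) :
    IsUnit (s • (1 : End F V) + N * v) := by
  have h1 : IsNilpotent (N * v) := h.isNilpotent_mul_right hN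
  refine IsNilpotent.isUnit_add_left_of_commute h1 ?_ ?_
  · refine ⟨⟨s • 1, s⁻¹ • 1, ?_, ?_⟩, rfl⟩ <;> simp [hs]
  · exact (Commute.one_right _).smul_right s

theorem exists_avoid [Finite F] (hq : 3 ≤ Nat.card F) (s : F) : ∃ r : F, r ≠ 0 ∧ r ≠ s := by
  classical
  have := Fintype.ofFinite F
  by_contra hc
  push Not at hc
  have h1 : (Finset.univ : Finset F) ⊆ {0, s} := by
    intro x _
    rw [Finset.mem_insert, Finset.mem_singleton]
    by_cases hx : x = 0
    · exact Or.inl hx
    · exact Or.inr (hc x hx)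
  have h2 := Finset.card_le_card h1
  rw [Finset.card_univ] at h2
  rw [Nat.card_eq_fintype_card] at hq
  have := Finset.card_le_two (a := (0 : F)) (b := s)
  omega

theorem exists_list [Finite F] (hq : 3 ≤ Nat.card F) [FiniteDimensional F V] {N : End F V} (hN : IsNilpotent N)
    (m : ℕ) : ∀ s : F, s ≠ 0 → ∃ L : List (End F V), L.length = m + 1 ∧ (∀ A ∈ L, Sim (1 + N) A) ∧
      ∃ v : End F V, Commute N v ∧ L.prod = 1 + N * (s • 1 + N * v) := by
  have key : ∀ r : F, r ≠ 0 → Sim (1 + N) (1 + N * (r • (1 : End F V))) := by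
    intro r hr
    refine sim_one_add hN ((Commute.one_right _).smul_right r) ?_
    have := isUnit_aux hN (Commute.zero_right N) hr
    rwa [mul_zero, add_zero] at this
  induction m with
  | zero =>
    intro s hs
    refine ⟨[1 + N * (s • 1)], rfl, ?_, 0, Commute.zero_right _, ?_⟩
    · intro A hA
      rw [List.mem_singleton] at hA
      rw [hA]
      exact key s hs
    · rw [List.prod_singleton, mul_zero, add_zero]
  | succ m ih =>
    intro s hs
    obtain ⟨r, hr0, hrs⟩ := exists_avoid hq s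
    obtain ⟨L, h1, h2, v, hv, h3⟩ := ih (s - r) (sub_ne_zero.2 (Ne.symm hrs))
    refine ⟨(1 + N * (r • 1)) :: L, by rw [List.length_cons, h1], ?_, v + r • ((s - r) • 1 + N * v), ?_, ?_⟩
    · intro A hA
      rcases List.mem_cons.1 hA with rfl | hA
      · exact key r hr0
      · exact h2 A hA
    · refine hv.add_right (Commute.smul_right ?_ r)
      exact ((Commute.one_right _).smul_right _).add_right ((Commute.refl N).mul_right hv)
    · rw [List.prod_cons, h3]
      simp only [mul_add, add_mul, mul_smul_comm, smul_mul_assoc, mul_one, one_mul, ← mul_assoc]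
      module

theorem scalar_of_nilp [Finite F] (hq : 4 ≤ Nat.card F) [FiniteDimensional F V] {N : End F V} (hN : IsNilpotent N)
    {n : ℕ} (hn : 2 ≤ n) : HP (1 + N) n (1 : End F V) := by
  obtain ⟨m, rfl⟩ := Nat.exists_eq_add_of_le hn
  obtain ⟨L, h1, h2, v, hv, h3⟩ := exists_list (by omega : 3 ≤ Nat.card F) hN m 1 one_ne_zero
  obtain ⟨u, hu⟩ : ∃ u : End F V, u = (1 : F) • 1 + N * v := ⟨_, rfl⟩
  have hcu : Commute N u := by
    rw [hu]
    exact ((Commute.one_right _).smul_right _).add_right ((Commute.refl N).mul_right hv)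
  have hu1 : IsUnit u := by rw [hu]; exact isUnit_aux hN hv one_ne_zero
  rw [← hu] at h3
  have hB : IsUnit (1 + N * u) := (hcu.isNilpotent_mul_right hN).isUnit_one_add
  obtain ⟨B, hB'⟩ := hB
  have hcB : Commute N ((B⁻¹ : (End F V)ˣ) : End F V) := by
    refine Commute.units_inv_right ?_
    rw [hB']
    exact (Commute.one_right _).add_right ((Commute.refl N).mul_right hcu)
  have h4 : ((B⁻¹ : (End F V)ˣ) : End F V) = 1 + N * (-(u * ((B⁻¹ : (End F V)ˣ) : End F V))) := by
    have h5 : (B : End F V) * ((B⁻¹ : (End F V)ˣ) : End F V) = 1 := Units.mul_inv B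
    rw [hB', add_mul, one_mul] at h5
    rw [mul_neg, ← mul_assoc, ← sub_eq_add_neg, eq_sub_iff_add_eq]
    exact h5
  refine ⟨L ++ [((B⁻¹ : (End F V)ˣ) : End F V)], ?_, ?_, ?_⟩
  · rw [List.length_append, h1, List.length_singleton]
    omega
  · intro A hA
    rcases List.mem_append.1 hA with hA | hA
    · exact h2 A hA
    · rw [List.mem_singleton] at hA
      rw [hA, h4]
      exact sim_one_add hN (hcu.mul_right hcB).neg_right ((hu1.mul (B⁻¹).isUnit).neg)
  · rw [List.prod_append, List.prod_singleton, h3, ← hB']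
    exact Units.mul_inv B

end Cfsg.Agent.H151.Cov.Nilp
end

-- part: H131/CovElliptic
section
/-!
# The elliptic case in dimension two (helper131, task F of S2483)
-/

set_option autoImplicit false

namespace Cfsg.Agent.H131.CovElliptic

open Module Polynomial Cfsg.Agent.H166.Cov

universe u

variable {F : Type u} [Field F] {V W U : Type u} [AddCommGroup V] [Module F V]
  [AddCommGroup W] [Module F W] [AddCommGroup U] [Module F U]

/-- a non-scalar endomorphism of a plane is a companion matrix -/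
theorem comp_basis [FiniteDimensional F V] (hV : finrank F V = 2) {S : End F V} (hS : NS S) :
    ∃ c : Basis (Fin 2) F V, LinearMap.toMatrix c c S = !![0, -LinearMap.det S; 1, LinearMap.trace F V S] := by
  obtain ⟨x, hx⟩ : ∃ x, LinearIndependent F ![x, S x] := by
    by_contra hcon
    push Not at hcon
    obtain ⟨a, ha⟩ := LinearMap.exists_eq_smul_id_of_forall_notLinearIndependent hcon
    exact hS a ha
  let c : Basis (Fin 2) F V := basisOfLinearIndependentOfCardEqFinrank hx (by rw [Fintype.card_fin, hV])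
  have hc : ⇑c = ![x, S x] := coe_basisOfLinearIndependentOfCardEqFinrank _ _
  have h0 : c 0 = x := by rw [hc]; rfl
  have h1 : c 1 = S x := by rw [hc]; rfl
  have hm : ∀ i j, LinearMap.toMatrix c c S i j = c.repr (S (c j)) i := fun i j => LinearMap.toMatrix_apply _ _ _ _ _
  have e00 : LinearMap.toMatrix c c S 0 0 = 0 := by
    rw [hm, h0, ← h1, Basis.repr_self]
    simp
  have e10 : LinearMap.toMatrix c c S 1 0 = 1 := by
    rw [hm, h0, ← h1, Basis.repr_self]
    simp
  have hdet := LinearMap.det_toMatrix c S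
  have htr := LinearMap.trace_eq_matrix_trace F c S
  rw [Matrix.det_fin_two, e00, e10] at hdet
  rw [Matrix.trace_fin_two, e00] at htr
  refine ⟨c, ?_⟩
  ext i j
  fin_cases i <;> fin_cases j
  · exact e00
  · show LinearMap.toMatrix c c S 0 1 = - LinearMap.det S
    linear_combination (-1 : F) * hdet
  · exact e10
  · show LinearMap.toMatrix c c S 1 1 = LinearMap.trace F V S
    linear_combination (-1 : F) * htr

/-- non-scalar endomorphisms of planes with the same trace and determinant are similar -/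
theorem sim_of [FiniteDimensional F V] [FiniteDimensional F W] (hV : finrank F V = 2) (hW : finrank F W = 2)
    {S : End F V} {T : End F W} (hS : NS S) (hT : NS T) (ht : LinearMap.trace F V S = LinearMap.trace F W T)
    (hd : LinearMap.det S = LinearMap.det T) : Sim S T := by
  obtain ⟨c, hc⟩ := comp_basis hV hS
  obtain ⟨d, hd'⟩ := comp_basis hW hT
  rw [ht, hd, ← hd'] at hc
  let e : V ≃ₗ[F] W := c.equiv d (Equiv.refl _)
  refine ⟨e, ?_⟩
  have key : (e : V →ₗ[F] W) ∘ₗ S = T ∘ₗ (e : V →ₗ[F] W) := by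
    apply c.ext
    intro j
    have h1 : S (c j) = ∑ i, LinearMap.toMatrix c c S i j • c i := by
      rw [← c.sum_repr (S (c j))]
      simp [LinearMap.toMatrix_apply]
    have h2 : T (d j) = ∑ i, LinearMap.toMatrix d d T i j • d i := by
      rw [← d.sum_repr (T (d j))]
      simp [LinearMap.toMatrix_apply]
    have h3 : ∀ i, e (c i) = d i := fun i => by simp [e]
    show e (S (c j)) = T (e (c j))
    rw [h3, h2, h1, map_sum, hc]
    exact Finset.sum_congr rfl fun i _ => by rw [map_smul, h3]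
  intro x
  exact LinearMap.congr_fun key x

theorem charpoly_two [FiniteDimensional F V] (hV : finrank F V = 2) (S : End F V) :
    LinearMap.charpoly S = X ^ 2 - C (LinearMap.trace F V S) * X + C (LinearMap.det S) := by
  let c : Basis (Fin 2) F V := finBasisOfFinrankEq F V hV
  rw [← LinearMap.charpoly_toMatrix S c, Matrix.charpoly_fin_two, LinearMap.det_toMatrix,
    LinearMap.trace_eq_matrix_trace F c S]

theorem trace_smul_one [FiniteDimensional F V] (hV : finrank F V = 2) (c : F) :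
    LinearMap.trace F V (c • (1 : End F V)) = 2 * c := by
  rw [map_smul, LinearMap.trace_one, hV, smul_eq_mul]
  push_cast
  ring

theorem det_smul_one [FiniteDimensional F V] (hV : finrank F V = 2) (c : F) :
    LinearMap.det (c • (1 : End F V)) = c ^ 2 := by
  rw [LinearMap.det_smul, hV, map_one, mul_one]

/-- the conic has a point -/
theorem conic [Finite F] {τ δ a b : F} (hroot : ∀ x : F, x ^ 2 - τ * x + δ ≠ 0) :
    ∃ s r : F, s ^ 2 - τ * s * r + δ * r ^ 2 - a * s + a * (τ - b) * r + b = 0 := by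
  classical
  have : Fintype F := Fintype.ofFinite F
  by_cases h2 : (2 : F) = 0
  · have hsq : ∀ x : F, ∃ y : F, y ^ 2 = x := by
      intro x
      have hch : ringChar F = 2 := by
        have h3 : ringChar F ∣ 2 := ringChar.dvd (by exact_mod_cast h2)
        rcases (Nat.dvd_prime Nat.prime_two).1 h3 with h | h
        · exfalso
          have := CharP.ringChar_ne_one (R := F)
          exact this h
        · exact h
      obtain ⟨y, hy⟩ := FiniteField.isSquare_of_char_two hch x
      exact ⟨y, by rw [hy]; ring⟩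
    have hτ : τ ≠ 0 := by
      rintro rfl
      obtain ⟨y, hy⟩ := hsq (-δ)
      exact hroot y (by rw [hy]; ring)
    obtain ⟨s, hs⟩ := hsq (-(δ * (-a / τ) ^ 2 + a * (τ - b) * (-a / τ) + b))
    refine ⟨s, -a / τ, ?_⟩
    have h4 : τ * s * (-a / τ) = -a * s := by field_simp
    rw [hs, h4]
    linear_combination (0 : F) * h2
  · obtain ⟨h, hh⟩ : ∃ h : F, 2 * h = 1 := ⟨2⁻¹, mul_inv_cancel₀ h2⟩
    have hD : δ - τ ^ 2 * h ^ 2 ≠ 0 := by
      intro h0
      apply hroot (τ * h)
      linear_combination h0 + (τ ^ 2 * h) * hh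
    have hodd : Fintype.card F % 2 = 1 := by
      have h3 : ringChar F ≠ 2 := by
        intro h
        apply h2
        have := ringChar.Nat.cast_ringChar (R := F)
        rw [h] at this
        exact_mod_cast this
      exact FiniteField.odd_card_of_char_ne_two h3
    let f : F[X] := X ^ 2 - C a * X
    let g : F[X] := C (δ - τ ^ 2 * h ^ 2) * X ^ 2 + C (a * (τ - b) - a * τ * h) * X + C b
    have hf : f.degree = 2 := by
      have : f = C 1 * X ^ 2 + C (-a) * X + C 0 := by
        simp only [f, map_neg, map_one, map_zero]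
        ring
      rw [this]
      exact degree_quadratic one_ne_zero
    have hg : g.degree = 2 := degree_quadratic hD
    obtain ⟨s, r, hsr⟩ := FiniteField.exists_root_sum_quadratic hf hg hodd
    refine ⟨s + τ * h * r, r, ?_⟩
    simp only [f, g, eval_add, eval_sub, eval_mul, eval_pow, eval_X, eval_C] at hsr
    linear_combination hsr + (τ * s * r + τ ^ 2 * h * r ^ 2) * hh

/-- **task F of S2483 (742): `elliptic`** -/
theorem elliptic [Finite F] [FiniteDimensional F V] (hV : finrank F V = 2) {M T : End F V}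
    (hM : ∀ x, (LinearMap.charpoly M).eval x ≠ 0) (hT : NS T) (hdet : LinearMap.det M = LinearMap.det T ^ 2) :
    HP T 2 M := by
  obtain ⟨τ, hτ⟩ : ∃ τ, τ = LinearMap.trace F V M := ⟨_, rfl⟩
  obtain ⟨δ, hδ⟩ : ∃ δ, δ = LinearMap.det M := ⟨_, rfl⟩
  obtain ⟨a, ha⟩ : ∃ a, a = LinearMap.trace F V T := ⟨_, rfl⟩
  obtain ⟨b, hb⟩ : ∃ b, b = LinearMap.det T := ⟨_, rfl⟩
  have hroot : ∀ x : F, x ^ 2 - τ * x + δ ≠ 0 := by
    intro x
    have h := hM x
    rw [charpoly_two hV M, ← hτ, ← hδ] at h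
    simpa using h
  rw [← hδ, ← hb] at hdet
  have hNM : NS M := by
    intro c hc
    have h1 : τ = 2 * c := by rw [hτ, hc, trace_smul_one hV]
    have h2 : δ = c ^ 2 := by rw [hδ, hc, det_smul_one hV]
    apply hroot c
    rw [h1, h2]
    ring
  have hb0 : b ≠ 0 := by
    intro h0
    apply hroot 0
    rw [hdet, h0]
    ring
  obtain ⟨c, hc⟩ := comp_basis hV hNM
  rw [← hτ, ← hδ] at hc
  obtain ⟨s, r, hsr⟩ := conic (a := a) (b := b) hroot
  -- the matrices
  obtain ⟨Mm, hMm⟩ : ∃ Mm : Matrix (Fin 2) (Fin 2) F, Mm = !![0, -δ; 1, τ] := ⟨_, rfl⟩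
  obtain ⟨Ym, hYm⟩ : ∃ Ym : Matrix (Fin 2) (Fin 2) F,
    Ym = !![a - s, a * (τ - b) + δ * r - τ * s; r, s] := ⟨_, rfl⟩
  obtain ⟨Am, hAm⟩ : ∃ Am : Matrix (Fin 2) (Fin 2) F, Am = b⁻¹ • (Mm * (a • (1 : Matrix (Fin 2) (Fin 2) F) - Ym)) := ⟨_, rfl⟩
  have hYdet : Ym.det = b := by
    rw [hYm, Matrix.det_fin_two_of]
    linear_combination (-1 : F) * hsr
  have hYtr : Ym.trace = a := by
    rw [hYm, Matrix.trace_fin_two_of]
    ring
  have hYY : (a • (1 : Matrix (Fin 2) (Fin 2) F) - Ym) * Ym = b • 1 := by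
    ext i j
    rw [hYm]
    fin_cases i <;> fin_cases j <;> simp [Matrix.mul_apply, Fin.sum_univ_two]
    · linear_combination (-1 : F) * hsr
    · ring
    · ring
    · linear_combination (-1 : F) * hsr
  have hprod : Am * Ym = Mm := by
    rw [hAm, Matrix.smul_mul, mul_assoc, hYY, Matrix.mul_smul, mul_one, smul_smul, inv_mul_cancel₀ hb0, one_smul]
  have hMdet : Mm.det = δ := by
    rw [hMm, Matrix.det_fin_two_of]
    ring
  have hAdet : Am.det = b := by
    have h1 : Am.det * Ym.det = Mm.det := by rw [← Matrix.det_mul, hprod]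
    rw [hYdet, hMdet, hdet] at h1
    have h2 : Am.det * b = b * b := by rw [h1]; ring
    exact mul_right_cancel₀ hb0 h2
  have hAtr : Am.trace = a := by
    have h1 : (Mm * (a • (1 : Matrix (Fin 2) (Fin 2) F) - Ym)).trace = a * b := by
      rw [hMm, hYm, Matrix.trace_fin_two]
      simp [Matrix.mul_apply, Fin.sum_univ_two]
      ring
    rw [hAm, Matrix.trace_smul, h1, smul_eq_mul]
    field_simp
  -- the linear maps
  obtain ⟨A, hA⟩ : ∃ A : End F V, LinearMap.toMatrix c c A = Am := ⟨Matrix.toLin c c Am, LinearMap.toMatrix_toLin _ _ _⟩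
  obtain ⟨Y, hY⟩ : ∃ Y : End F V, LinearMap.toMatrix c c Y = Ym := ⟨Matrix.toLin c c Ym, LinearMap.toMatrix_toLin _ _ _⟩
  have hAY : A * Y = M := by
    apply (LinearMap.toMatrix c c).injective
    rw [LinearMap.toMatrix_mul, hA, hY, hprod, hc, hMm]
  have dA : LinearMap.det A = b := by rw [← LinearMap.det_toMatrix c A, hA, hAdet]
  have dY : LinearMap.det Y = b := by rw [← LinearMap.det_toMatrix c Y, hY, hYdet]
  have tA : LinearMap.trace F V A = a := by rw [LinearMap.trace_eq_matrix_trace F c A, hA, hAtr]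
  have tY : LinearMap.trace F V Y = a := by rw [LinearMap.trace_eq_matrix_trace F c Y, hY, hYtr]
  have key : ∀ (y : F) (Z : End F V), M = y • Z → LinearMap.trace F V Z = a → a = 2 * y → b = y ^ 2 → False := by
    intro y Z hZ hZt h1 h2
    apply hroot (y ^ 2)
    have h3 : τ = 2 * y ^ 2 := by
      rw [hτ, hZ, map_smul, hZt, h1, smul_eq_mul]
      ring
    rw [h3, hdet, h2]
    ring
  have nA : NS A := by
    intro y hy
    refine key y Y ?_ tY ?_ ?_
    · rw [← hAY, hy, smul_mul_assoc, one_mul]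
    · rw [← tA, hy, trace_smul_one hV]
    · rw [← dA, hy, det_smul_one hV]
  have nY : NS Y := by
    intro y hy
    refine key y A ?_ tA ?_ ?_
    · rw [← hAY, hy, mul_smul_comm, mul_one]
    · rw [← tY, hy, trace_smul_one hV]
    · rw [← dY, hy, det_smul_one hV]
  refine ⟨[A, Y], rfl, ?_, ?_⟩
  · intro Z hZ
    rw [List.mem_cons, List.mem_singleton] at hZ
    rcases hZ with rfl | rfl
    · exact sim_of hV hV hT nA (by rw [← ha, tA]) (by rw [← hb, dA])
    · exact sim_of hV hV hT nY (by rw [← ha, tY]) (by rw [← hb, dY])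
  · rw [List.prod_cons, List.prod_singleton, hAY]

end Cfsg.Agent.H131.CovElliptic
end

-- part: H783/CovG
section
/-!
# Products of transvections (helper783, for helper166, S2483, part G)

`transvections`: for `|F| ≥ 4`, `dim V ≥ 3`, every nonscalar `g` of determinant one is a product of exactly `dim V`
maps similar to a given transvection.
-/

set_option autoImplicit false

namespace Cfsg.Agent.H783.CovG

open Module Polynomial Cfsg.Agent.H166.Cov

universe u

variable {F : Type u} [Field F] {V : Type u} [AddCommGroup V] [Module F V]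

/-- two transvections are similar -/
theorem sim_tv [FiniteDimensional F V] {φ φ' : V →ₗ[F] F} {z z' : V} (hφ : φ ≠ 0) (hφ' : φ' ≠ 0) (hz : z ≠ 0)
    (hz' : z' ≠ 0) (h : φ z = 0) (h' : φ' z' = 0) : Sim (1 + φ.smulRight z) (1 + φ'.smulRight z') := by
  have key : ∀ ψ : V →ₗ[F] F, ψ ≠ 0 → ∃ x, ψ x = 1 := by
    intro ψ hψ
    obtain ⟨x, hx⟩ : ∃ x, ψ x ≠ 0 := by
      by_contra hcon
      push Not at hcon
      exact hψ (LinearMap.ext hcon)
    exact ⟨(ψ x)⁻¹ • x, by rw [map_smul, smul_eq_mul, inv_mul_cancel₀ hx]⟩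
  have hrk : ∀ ψ : V →ₗ[F] F, ψ ≠ 0 → finrank F (LinearMap.ker ψ) + 1 = finrank F V := by
    intro ψ hψ
    obtain ⟨x, hx⟩ := key ψ hψ
    have h1 := LinearMap.finrank_range_add_finrank_ker ψ
    have h2 : LinearMap.range ψ = ⊤ := by
      rw [LinearMap.range_eq_top]
      intro c
      exact ⟨c • x, by rw [map_smul, hx, smul_eq_mul, mul_one]⟩
    rw [h2, finrank_top, finrank_self] at h1
    omega
  obtain ⟨x, hx⟩ := key φ hφ
  obtain ⟨x', hx'⟩ := key φ' hφ'
  have e0 : LinearMap.ker φ ≃ₗ[F] LinearMap.ker φ' :=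
    LinearEquiv.ofFinrankEq _ _ (by have := hrk φ hφ; have := hrk φ' hφ'; omega)
  have hz0 : (⟨z, h⟩ : LinearMap.ker φ) ≠ 0 := by
    intro h0
    exact hz (congrArg Subtype.val h0)
  have hz0' : (⟨z', h'⟩ : LinearMap.ker φ') ≠ 0 := by
    intro h0
    exact hz' (congrArg Subtype.val h0)
  obtain ⟨e1, he1⟩ := Cfsg.Agent.H513.ThreeOrb.exists_equiv_apply (K := F) (v := e0 ⟨z, h⟩) (w := ⟨z', h'⟩)
    (by rw [Ne, LinearEquiv.map_eq_zero_iff]; exact hz0) hz0'
  let e2 : LinearMap.ker φ ≃ₗ[F] LinearMap.ker φ' := e0.trans e1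
  have he2 : e2 ⟨z, h⟩ = ⟨z', h'⟩ := he1
  -- projections
  let pr : V →ₗ[F] LinearMap.ker φ := (LinearMap.id - φ.smulRight x).codRestrict (LinearMap.ker φ) (by
    intro v
    rw [LinearMap.mem_ker, LinearMap.sub_apply, LinearMap.id_apply, LinearMap.smulRight_apply, map_sub, map_smul, hx,
      smul_eq_mul, mul_one, sub_self])
  let pr' : V →ₗ[F] LinearMap.ker φ' := (LinearMap.id - φ'.smulRight x').codRestrict (LinearMap.ker φ') (by
    intro v
    rw [LinearMap.mem_ker, LinearMap.sub_apply, LinearMap.id_apply, LinearMap.smulRight_apply, map_sub, map_smul, hx',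
      smul_eq_mul, mul_one, sub_self])
  have hpr : ∀ v, ((pr v : LinearMap.ker φ) : V) = v - φ v • x := fun v => rfl
  have hpr' : ∀ v, ((pr' v : LinearMap.ker φ') : V) = v - φ' v • x' := fun v => rfl
  let E : V →ₗ[F] V := (LinearMap.ker φ').subtype ∘ₗ e2.toLinearMap ∘ₗ pr + φ.smulRight x'
  let E' : V →ₗ[F] V := (LinearMap.ker φ).subtype ∘ₗ e2.symm.toLinearMap ∘ₗ pr' + φ'.smulRight x
  have hE : ∀ v, E v = (e2 (pr v) : V) + φ v • x' := fun v => rfl
  have hE' : ∀ v, E' v = (e2.symm (pr' v) : V) + φ' v • x := fun v => rfl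
  have hφE : ∀ v, φ' (E v) = φ v := by
    intro v
    rw [hE, map_add, map_smul, hx', (e2 (pr v)).2, zero_add, smul_eq_mul, mul_one]
  have hφE' : ∀ v, φ (E' v) = φ' v := by
    intro v
    rw [hE', map_add, map_smul, hx, (e2.symm (pr' v)).2, zero_add, smul_eq_mul, mul_one]
  have h1 : ∀ v, E' (E v) = v := by
    intro v
    have h2 : pr' (E v) = e2 (pr v) := by
      apply Subtype.ext
      rw [hpr', hφE, hE, add_sub_cancel_right]
    rw [hE', h2, e2.symm_apply_apply, hφE, hpr, sub_add_cancel]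
  have h2 : ∀ v, E (E' v) = v := by
    intro v
    have h2 : pr (E' v) = e2.symm (pr' v) := by
      apply Subtype.ext
      rw [hpr, hφE', hE', add_sub_cancel_right]
    rw [hE, h2, e2.apply_symm_apply, hφE', hpr', sub_add_cancel]
  refine ⟨LinearEquiv.ofLinearMap E E' (LinearMap.ext h2) (LinearMap.ext h1), fun v => ?_⟩
  change E ((1 + φ.smulRight z) v) = (1 + φ'.smulRight z') (E v)
  have hEz : E z = z' := by
    have h3 : pr z = ⟨z, h⟩ := by
      apply Subtype.ext
      rw [hpr, h, zero_smul, sub_zero]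
    rw [hE, h3, he2, h, zero_smul, add_zero]
  have h4 : (1 + φ.smulRight z) v = v + φ v • z := rfl
  have h5 : (1 + φ'.smulRight z') (E v) = E v + φ' (E v) • z' := rfl
  rw [h4, h5, E.map_add, E.map_smul, hEz, hφE]

/-- nontrivial transvections -/
def NT (A : End F V) : Prop := ∃ (f : V →ₗ[F] F) (v : V), f ≠ 0 ∧ v ≠ 0 ∧ f v = 0 ∧ A = 1 + f.smulRight v

theorem exists_scalar [Finite F] (hq : 4 ≤ Nat.card F) : ∃ a : F, a ≠ 0 ∧ a ≠ 1 := by
  classical
  let _ : Fintype F := Fintype.ofFinite F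
  by_contra hcon
  push Not at hcon
  have h1 : (Finset.univ : Finset F) ⊆ {0, 1} := by
    intro a _
    by_cases h : a = 0
    · simp [h]
    · simp [hcon a h]
  have h2 := Finset.card_le_card h1
  rw [Finset.card_univ, ← Nat.card_eq_fintype_card] at h2
  have h3 : ({0, 1} : Finset F).card ≤ 2 := Finset.card_le_two
  omega

theorem pad [Finite F] (hq : 4 ≤ Nat.card F) {g : End F V} {k m : ℕ} (hk : 1 ≤ k) (hkm : k ≤ m)
    (h : ∃ L : List (End F V), L.length = k ∧ (∀ A ∈ L, NT A) ∧ L.prod = g) :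
    ∃ L : List (End F V), L.length = m ∧ (∀ A ∈ L, NT A) ∧ L.prod = g := by
  induction m, hkm using Nat.le_induction with
  | base => exact h
  | succ m hm ih =>
    obtain ⟨L, hL, hN, hp⟩ := ih
    obtain ⟨a, ha0, ha1⟩ := exists_scalar hq
    match L, hL with
    | [], hL =>
      simp only [List.length_nil] at hL
      omega
    | A :: L', hL =>
      obtain ⟨f, v, hf, hv, hfv, hA⟩ := hN A (List.mem_cons_self ..)
      refine ⟨(1 + (a • f).smulRight v) :: (1 + ((1 - a) • f).smulRight v) :: L', ?_, ?_, ?_⟩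
      · simp only [List.length_cons] at hL ⊢
        omega
      · intro B hB
        rcases List.mem_cons.1 hB with rfl | hB
        · exact ⟨a • f, v, smul_ne_zero ha0 hf, hv, by rw [LinearMap.smul_apply, hfv, smul_zero], rfl⟩
        rcases List.mem_cons.1 hB with rfl | hB
        · exact ⟨(1 - a) • f, v, smul_ne_zero (sub_ne_zero.2 (Ne.symm ha1)) hf, hv,
            by rw [LinearMap.smul_apply, hfv, smul_zero], rfl⟩
        · exact hN B (List.mem_cons_of_mem _ hB)
      · rw [List.prod_cons, List.prod_cons, ← mul_assoc, ← hp, List.prod_cons, hA]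
        congr 1
        ext x
        simp only [End.mul_apply, LinearMap.add_apply, End.one_apply, LinearMap.smulRight_apply,
          LinearMap.smul_apply, map_add, map_smul, hfv, smul_eq_mul, mul_zero, add_zero, zero_smul]
        rw [sub_mul, one_mul, sub_smul]
        abel

open scoped Pointwise in
theorem exists_list [FiniteDimensional F V] {e : V ≃ₗ[F] V} {k : ℕ}
    (he : e ∈ LinearEquiv.transvections F V ^ k * LinearEquiv.dilatransvections F V) (hdet : LinearEquiv.det e = 1) :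
    ∃ L : List (V ≃ₗ[F] V), L.length = k + 1 ∧ (∀ A ∈ L, A ∈ LinearEquiv.transvections F V) ∧ L.prod = e := by
  obtain ⟨a, ha, b, hb, rfl⟩ := Set.mem_mul.1 he
  obtain ⟨f, hf⟩ := Set.mem_pow.1 ha
  have hda : LinearEquiv.det a = 1 := by
    rw [← hf, map_list_prod]
    apply List.prod_eq_one
    intro c hc
    obtain ⟨t, ht, rfl⟩ := List.mem_map.1 hc
    obtain ⟨i, rfl⟩ := (List.mem_ofFn' _ _).1 ht
    obtain ⟨φ, v, hφv, h⟩ := (f i).2
    change LinearEquiv.det (f i : V ≃ₗ[F] V) = 1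
    rw [h, LinearEquiv.transvection.det_eq_one]
  have hdb : LinearEquiv.det b = 1 := by
    rwa [map_mul, hda, one_mul] at hdet
  obtain ⟨φ, v, hφv⟩ := hb
  have h0 : φ v = 0 := by
    have h1 : LinearMap.det (b : V →ₗ[F] V) = 1 := by
      rw [← LinearEquiv.coe_det, hdb, Units.val_one]
    rw [hφv, LinearMap.transvection.det] at h1
    exact left_eq_add.1 h1.symm
  have hbt : b = LinearEquiv.transvection h0 := by
    apply LinearEquiv.toLinearMap_injective
    rw [hφv, LinearEquiv.transvection.coe_toLinearMap]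
  refine ⟨(List.ofFn fun i => (f i : V ≃ₗ[F] V)) ++ [b], ?_, ?_, ?_⟩
  · rw [List.length_append, List.length_ofFn, List.length_singleton]
  · intro A hA
    rcases List.mem_append.1 hA with hA | hA
    · obtain ⟨i, rfl⟩ := (List.mem_ofFn' _ _).1 hA
      exact (f i).2
    · rw [List.mem_singleton.1 hA]
      exact ⟨φ, v, h0, hbt⟩
  · rw [List.prod_append, List.prod_singleton, hf]

/-- drop the trivial factors and pad -/
theorem of_list [Finite F] (hq : 4 ≤ Nat.card F) {e : V ≃ₗ[F] V} (he : e ≠ 1) {m : ℕ} (L : List (V ≃ₗ[F] V))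
    (hL : L.length ≤ m) (hT : ∀ A ∈ L, A ∈ LinearEquiv.transvections F V) (hp : L.prod = e) :
    ∃ L : List (End F V), L.length = m ∧ (∀ A ∈ L, NT A) ∧ L.prod = (e : V →ₗ[F] V) := by
  classical
  have hp' : (L.filter fun A => A ≠ 1).prod = e := by
    rw [← hp]
    clear hp hT hL
    induction L with
    | nil => rfl
    | cons A L ih =>
      by_cases hA : A = 1
      · rw [List.filter_cons_of_neg (by simpa using hA), ih, List.prod_cons, hA, one_mul]
      · rw [List.filter_cons_of_pos (by simpa using hA), List.prod_cons, List.prod_cons, ih]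
  have hlen : (L.filter fun A => A ≠ 1).length ≤ m := (List.length_filter_le _ _).trans hL
  have h1 : 1 ≤ (L.filter fun A => A ≠ 1).length := by
    rw [Nat.one_le_iff_ne_zero]
    intro h0
    rw [List.length_eq_zero_iff] at h0
    rw [h0, List.prod_nil] at hp'
    exact he hp'.symm
  apply pad hq h1 hlen
  refine ⟨(L.filter fun A => A ≠ 1).map (LinearEquiv.automorphismGroup.toLinearMapMonoidHom (R := F) (M := V)), ?_,
    ?_, ?_⟩
  · rw [List.length_map]
  · intro A hA
    obtain ⟨B, hB, rfl⟩ := List.mem_map.1 hA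
    obtain ⟨hB1, hB2⟩ := List.mem_filter.1 hB
    obtain ⟨f, v, hfv, hBt⟩ := hT B hB1
    have hB3 : B ≠ 1 := by simpa using hB2
    have hval : ((LinearEquiv.automorphismGroup.toLinearMapMonoidHom (R := F) (M := V)) B : End F V) =
        1 + f.smulRight v := by
      rw [hBt]
      ext x
      change LinearEquiv.transvection hfv x = _
      rw [LinearEquiv.transvection.apply]
      rfl
    refine ⟨f, v, ?_, ?_, hfv, hval⟩
    · rintro rfl
      apply hB3
      apply LinearEquiv.toLinearMap_injective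
      refine Eq.trans hval ?_
      ext x
      simp
    · rintro rfl
      apply hB3
      apply LinearEquiv.toLinearMap_injective
      refine Eq.trans hval ?_
      ext x
      simp
  · rw [← map_list_prod, hp']
    rfl

theorem finrank_quot_le [FiniteDimensional F V] {A B : Submodule F V} (h : A ≤ B) :
    finrank F (V ⧸ B) ≤ finrank F (V ⧸ A) := by
  have h1 := Submodule.finrank_quotient_add_finrank A
  have h2 := Submodule.finrank_quotient_add_finrank B
  have h3 := Submodule.finrank_mono h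
  omega

/-- a nonscalar automorphism of determinant one is a product of at most `dim V` transvections -/
theorem exists_list_of_ns [FiniteDimensional F V] (hn : 1 ≤ finrank F V) {e : V ≃ₗ[F] V}
    (hns : ∀ c : F, ∃ x, e x ≠ c • x) (hdet : LinearEquiv.det e = 1) :
    ∃ L : List (V ≃ₗ[F] V), L.length ≤ finrank F V ∧ (∀ A ∈ L, A ∈ LinearEquiv.transvections F V) ∧ L.prod = e := by
  have hle : ∀ A : Submodule F V, finrank F (V ⧸ A) ≤ finrank F V := by
    intro A
    have := Submodule.finrank_quotient_add_finrank A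
    omega
  by_cases hex : LinearEquiv.IsExceptional e
  swap
  · obtain ⟨L, h1, h2, h3⟩ :=
      exists_list (LinearEquiv.mem_transvections_pow_mul_dilatransvections_of_not_isExceptional hex) hdet
    have := hle e.fixedSubmodule
    exact ⟨L, by omega, h2, h3⟩
  obtain ⟨hr, h1, a, ha⟩ := hex
  rw [LinearEquiv.fixedReduce_eq_smul_iff] at ha
  have ha1 : a ≠ 1 := by
    rintro rfl
    apply h1
    change e.fixedReduce = LinearEquiv.refl F _
    rw [LinearEquiv.fixedReduce_eq_one]
    intro v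
    have := ha v
    rwa [one_smul] at this
  have hmem : ∀ {v : V}, v ∈ e.fixedSubmodule ↔ e v = v := fun {v} => Iff.rfl
  have hbot : e.fixedSubmodule ≠ ⊥ := by
    intro h0
    obtain ⟨x, hx⟩ := hns a
    apply hx
    have := ha x
    rw [h0, Submodule.mem_bot, sub_eq_zero] at this
    exact this
  have hfix := Submodule.finrank_quotient_add_finrank e.fixedSubmodule
  have hfix1 : 1 ≤ finrank F e.fixedSubmodule := by
    rw [Nat.one_le_iff_ne_zero, Ne, Submodule.finrank_eq_zero]
    exact hbot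
  -- `p`, `u`
  obtain ⟨p, hp⟩ : ∃ p : V, p ∉ e.fixedSubmodule := by
    by_contra hcon
    push Not at hcon
    have h0 : e.fixedSubmodule = ⊤ := by
      rw [eq_top_iff]
      exact fun x _ => hcon x
    rw [h0] at hr
    rw [h0, finrank_top] at hfix
    omega
  obtain ⟨u, hu⟩ : ∃ u, u = e p - p := ⟨_, rfl⟩
  have hu0 : u ≠ 0 := by
    rw [hu, Ne, sub_eq_zero]
    exact hp
  have heu : e u = a • u := by
    have h2 : e (e p - a • p) = e p - a • p := ha p
    rw [map_sub, map_smul] at h2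
    rw [hu, map_sub, smul_sub]
    have h3 : e (e p) = e p - a • p + a • e p := by rw [← h2]; abel
    rw [h3]
    abel
  have ha0 : a ≠ 0 := by
    rintro rfl
    rw [zero_smul, LinearEquiv.map_eq_zero_iff] at heu
    exact hu0 heu
  obtain ⟨q, hq⟩ : ∃ q : V, q ∉ e.fixedSubmodule ⊔ Submodule.span F {u} := by
    by_contra hcon
    push Not at hcon
    have h0 : e.fixedSubmodule ⊔ Submodule.span F {u} = ⊤ := by
      rw [eq_top_iff]
      exact fun x _ => hcon x
    have h2 := Submodule.finrank_add_le_finrank_add_finrank e.fixedSubmodule (Submodule.span F {u})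
    rw [h0, finrank_top, finrank_span_singleton hu0] at h2
    omega
  obtain ⟨f, hfq, hf⟩ := Submodule.exists_le_ker_of_notMem hq
  have hfix0 : ∀ w, e w = w → f w = 0 := fun w hw => hf (Submodule.mem_sup_left (hmem.2 hw))
  have hfu : f u = 0 := hf (Submodule.mem_sup_right (Submodule.mem_span_singleton_self u))
  obtain ⟨t, ht⟩ : ∃ t : V ≃ₗ[F] V, t = LinearEquiv.transvection hfu := ⟨_, rfl⟩
  have htt : t ∈ LinearEquiv.transvections F V := by
    rw [ht]
    exact LinearEquiv.mem_transvections hfu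
  have hfe : ∀ x, f (e x) = a * f x := by
    intro x
    have h2 := hfix0 _ (ha x)
    rw [map_sub, map_smul, sub_eq_zero, smul_eq_mul] at h2
    exact h2
  have hte : ∀ x, (t * e) x = e x + (a * f x) • u := by
    intro x
    change t (e x) = _
    rw [ht, LinearEquiv.transvection.apply, hfe]
  have hmem' : ∀ {v : V}, v ∈ (t * e).fixedSubmodule ↔ (t * e) v = v := fun {v} => Iff.rfl
  have hle2 : e.fixedSubmodule ≤ (t * e).fixedSubmodule := by
    intro w hw
    rw [hmem', hte, hmem.1 hw, hfix0 w (hmem.1 hw), mul_zero, zero_smul, add_zero]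
  have hteu : (t * e) u = a • u := by
    rw [hte, hfu, mul_zero, zero_smul, add_zero, heu]
  have hau : ∀ c : F, c • u ∈ (t * e).fixedSubmodule → c = 0 := by
    intro c hc
    rw [hmem', map_smul, hteu, smul_smul, ← sub_eq_zero, ← sub_smul, smul_eq_zero] at hc
    rcases hc with hc | hc
    · have h2 : c * (a - 1) = 0 := by rw [← hc]; ring
      rcases mul_eq_zero.1 h2 with h3 | h3
      · exact h3
      · exact absurd (sub_eq_zero.1 h3) ha1
    · exact absurd hc hu0
  have hnex : ¬ LinearEquiv.IsExceptional (t * e) := by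
    rintro ⟨-, -, b, hb⟩
    rw [LinearEquiv.fixedReduce_eq_smul_iff] at hb
    have hba : b = a := by
      have h2 := hb u
      rw [hteu, ← sub_smul] at h2
      exact (sub_eq_zero.1 (hau _ h2)).symm
    have h2 := hb q
    rw [hba, hte, add_sub_right_comm] at h2
    have h3 : (a * f q) • u ∈ (t * e).fixedSubmodule := by
      have h4 := Submodule.sub_mem _ h2 (hle2 (ha q))
      rwa [add_sub_cancel_left] at h4
    rcases mul_eq_zero.1 (hau _ h3) with h4 | h4
    · exact ha0 h4
    · exact hfq h4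
  have hdt : LinearEquiv.det (t * e) = 1 := by
    rw [map_mul, hdet, mul_one, ht, LinearEquiv.transvection.det_eq_one]
  obtain ⟨L, h2, h3, h4⟩ :=
    exists_list (LinearEquiv.mem_transvections_pow_mul_dilatransvections_of_not_isExceptional hnex) hdt
  have h5 := finrank_quot_le hle2
  refine ⟨t⁻¹ :: L, ?_, ?_, ?_⟩
  · rw [List.length_cons]
    omega
  · intro A hA
    rcases List.mem_cons.1 hA with rfl | hA
    · exact LinearEquiv.inv_mem_transvections_iff.2 htt
    · exact h3 A hA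
  · rw [List.prod_cons, h4, inv_mul_cancel_left]

/-- **Products of transvections.** -/
theorem transvections [Finite F] (hq : 4 ≤ Nat.card F) [FiniteDimensional F V] (hn : 3 ≤ finrank F V)
    {φ : V →ₗ[F] F} {z : V} (hφ : φ ≠ 0) (hz : z ≠ 0) (hφz : φ z = 0) {g : End F V} (hg : NS g)
    (hdet : LinearMap.det g = 1) : HP (1 + φ.smulRight z) (finrank F V) g := by
  have hu : IsUnit (LinearMap.det g) := by rw [hdet]; exact isUnit_one
  let e : V ≃ₗ[F] V := LinearEquiv.ofIsUnitDet (v := finBasis F V) (v' := finBasis F V) (f := g)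
    (by rw [LinearMap.det_toMatrix]; exact hu)
  have he : (e : V →ₗ[F] V) = g := LinearMap.ext fun x => rfl
  have hex : ∀ x, e x = g x := fun x => rfl
  have hde : LinearEquiv.det e = 1 := by
    apply Units.ext
    rw [LinearEquiv.coe_det, he, hdet, Units.val_one]
  have hns : ∀ c : F, ∃ x, e x ≠ c • x := by
    intro c
    by_contra hcon
    push Not at hcon
    exact hg c (LinearMap.ext fun x => hcon x)
  have he1 : e ≠ 1 := by
    intro h
    obtain ⟨x, hx⟩ := hns 1
    rw [h, one_smul] at hx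
    exact hx rfl
  obtain ⟨L, h1, h2, h3⟩ := exists_list_of_ns (by omega) hns hde
  obtain ⟨L', h4, h5, h6⟩ := of_list hq he1 L h1 h2 h3
  refine ⟨L', h4, fun A hA => ?_, by rw [h6, he]⟩
  obtain ⟨f, v, hf, hv, hfv, rfl⟩ := h5 A hA
  exact sim_tv hφ hf hz hv hφz hfv

end Cfsg.Agent.H783.CovG
end

-- part: H956/CovLower
section
/-!
# The covering number of `PSL(n,q)` is at least `n` (helper956, task 744 [H] of S2483)
-/

set_option autoImplicit false

namespace Cfsg.Agent.H956.CovLower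

open Matrix Polynomial

variable {F : Type*} [Field F]

/-- a polynomial `X ^ n + c X + (-1) ^ n` without roots -/
theorem exists_rootless [Finite F] {n : ℕ} (hn : 2 ≤ n) : ∃ p : F[X], p.Monic ∧ p.natDegree = n ∧
    p.coeff 0 = (-1) ^ n ∧ ∀ x, p.eval x ≠ 0 := by
  classical
  have : Fintype F := Fintype.ofFinite F
  -- choose `c`
  obtain ⟨c, hc⟩ : ∃ c : F, ∀ x : F, x ≠ 0 → c ≠ -(x ^ n + (-1) ^ n) / x := by
    by_contra h
    push Not at h
    choose g hg0 hg using h
    have hinj : Function.Injective g := by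
      intro a b hab
      rw [hg a, hg b, hab]
    have hsurj := Finite.injective_iff_surjective.1 hinj
    obtain ⟨a, ha⟩ := hsurj 0
    exact hg0 a ha
  have hdeg : (C c * X + C ((-1) ^ n) : F[X]).degree < ((n : ℕ) : WithBot ℕ) :=
    lt_of_le_of_lt degree_linear_le (by exact_mod_cast (by omega : 1 < n))
  refine ⟨X ^ n + (C c * X + C ((-1) ^ n)), monic_X_pow_add hdeg, ?_, ?_, ?_⟩
  · rw [natDegree_add_eq_left_of_degree_lt (by rwa [degree_X_pow]), natDegree_X_pow]
  · have h0 : ¬ (0 = n) := by omega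
    rw [coeff_add, coeff_X_pow, if_neg h0, coeff_add, coeff_C_mul, coeff_X_zero, coeff_C_zero]
    ring
  · intro x hx
    rcases eq_or_ne x 0 with rfl | hx0
    · have h0 : n ≠ 0 := by omega
      simp [h0] at hx
    · apply hc x hx0
      rw [eq_div_iff hx0]
      simp only [eval_add, eval_pow, eval_X, eval_mul, eval_C] at hx
      linear_combination hx

theorem exists_matrix {p : F[X]} (hp : p.Monic) {n : ℕ} (h : p.natDegree = n) :
    ∃ A : Matrix (Fin n) (Fin n) F, A.charpoly = p := by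
  subst h
  exact ⟨Cfsg.Agent.H953.comp p, Cfsg.Agent.H953.charpoly_comp hp⟩

theorem transvection_fix {n : ℕ} {i j : Fin n} {a : F} {w : Fin n → F} (hw : w j = 0) :
    Matrix.transvection i j a *ᵥ w = w := by
  rw [Matrix.transvection, Matrix.add_mulVec, Matrix.one_mulVec, add_eq_left]
  ext k
  rw [Matrix.single_mulVec]
  simp [hw]

theorem prod_fix {n : ℕ} {v : Fin n → F} (l : List (Matrix.SpecialLinearGroup (Fin n) F))
    (h : ∀ A ∈ l, (A : Matrix (Fin n) (Fin n) F) *ᵥ v = v) : (l.prod : Matrix (Fin n) (Fin n) F) *ᵥ v = v := by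
  induction l with
  | nil => simp
  | cons A l ih =>
    rw [List.prod_cons, Matrix.SpecialLinearGroup.coe_mul, ← Matrix.mulVec_mulVec,
      ih fun B hB => h B (List.mem_cons_of_mem A hB)]
    exact h A List.mem_cons_self

/-- **Task H.** -/
theorem lower {F : Type*} [Field F] [Fintype F] (n : ℕ) (hn : 3 ≤ n) :
    ∃ x : Matrix.ProjectiveSpecialLinearGroup (Fin n) F, x ≠ 1 ∧
      ∃ g : Matrix.ProjectiveSpecialLinearGroup (Fin n) F,
        ∀ f : Fin (n - 1) → Matrix.ProjectiveSpecialLinearGroup (Fin n) F,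
          g ≠ (List.ofFn fun i => f i * x * (f i)⁻¹).prod := by
  classical
  let i0 : Fin n := ⟨0, by omega⟩
  let i1 : Fin n := ⟨1, by omega⟩
  have h01 : i0 ≠ i1 := by simp [i0, i1]
  let t : Matrix.SpecialLinearGroup (Fin n) F := ⟨Matrix.transvection i0 i1 1, Matrix.det_transvection_of_ne _ _ h01 _⟩
  let π : Matrix.SpecialLinearGroup (Fin n) F →* Matrix.ProjectiveSpecialLinearGroup (Fin n) F :=
    QuotientGroup.mk' (Subgroup.center _)
  have hπs : Function.Surjective π := QuotientGroup.mk'_surjective _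
  obtain ⟨p, hp, hpn, hp0, hproot⟩ := exists_rootless (F := F) (n := n) (by omega)
  obtain ⟨A, hA⟩ := exists_matrix hp hpn
  have hdet : A.det = 1 := by
    rw [Matrix.det_eq_sign_charpoly_coeff, hA, hp0, Fintype.card_fin, ← mul_pow]
    simp
  let c : Matrix.SpecialLinearGroup (Fin n) F := ⟨A, hdet⟩
  refine ⟨π t, ?_, π c, ?_⟩
  · intro h
    have h1 : t ∈ Subgroup.center (Matrix.SpecialLinearGroup (Fin n) F) := (QuotientGroup.eq_one_iff t).1 h
    obtain ⟨r, -, hr⟩ := Matrix.SpecialLinearGroup.mem_center_iff.1 h1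
    have h2 := congrFun (congrFun hr i0) i1
    have h3 : (t : Matrix (Fin n) (Fin n) F) i0 i1 = 1 := by
      show Matrix.transvection i0 i1 (1 : F) i0 i1 = 1
      simp [Matrix.transvection, h01]
    rw [h3, Matrix.scalar_apply, Matrix.diagonal_apply_ne _ h01] at h2
    exact zero_ne_one h2
  · intro f hf
    choose G hG using fun i => hπs (f i)
    let l : List (Matrix.SpecialLinearGroup (Fin n) F) := List.ofFn fun i => G i * t * (G i)⁻¹
    have hl : π c = π l.prod := by
      rw [hf, map_list_prod, List.map_ofFn]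
      congr 2
      funext i
      simp [hG]
    -- the common fixed vector
    let Φ : (Fin n → F) →ₗ[F] (Fin (n - 1) → F) :=
      LinearMap.pi fun i => (LinearMap.proj i1).comp
        (Matrix.mulVecLin (((G i)⁻¹ : Matrix.SpecialLinearGroup (Fin n) F) : Matrix (Fin n) (Fin n) F))
    have hker : LinearMap.ker Φ ≠ ⊥ := by
      apply LinearMap.ker_ne_bot_of_finrank_lt
      simp only [Module.finrank_fintype_fun_eq_card, Fintype.card_fin]
      omega
    obtain ⟨v, hv, hv0⟩ := Submodule.exists_mem_ne_zero_of_ne_bot hker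
    have hv1 : ∀ i, ((((G i)⁻¹ : Matrix.SpecialLinearGroup (Fin n) F) : Matrix (Fin n) (Fin n) F) *ᵥ v) i1 = 0 := by
      intro i
      exact congrFun (LinearMap.mem_ker.1 hv) i
    have hfix : (l.prod : Matrix (Fin n) (Fin n) F) *ᵥ v = v := by
      apply prod_fix
      intro B hB
      obtain ⟨i, rfl⟩ := List.mem_ofFn.1 hB
      rw [Matrix.SpecialLinearGroup.coe_mul, Matrix.SpecialLinearGroup.coe_mul, ← Matrix.mulVec_mulVec,
        ← Matrix.mulVec_mulVec]
      have h1 : (t : Matrix (Fin n) (Fin n) F) *ᵥ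
          ((((G i)⁻¹ : Matrix.SpecialLinearGroup (Fin n) F) : Matrix (Fin n) (Fin n) F) *ᵥ v) =
          (((G i)⁻¹ : Matrix.SpecialLinearGroup (Fin n) F) : Matrix (Fin n) (Fin n) F) *ᵥ v := by
        exact transvection_fix (hv1 i)
      rw [h1, Matrix.mulVec_mulVec, ← Matrix.SpecialLinearGroup.coe_mul, mul_inv_cancel]
      simp
    -- the scalar
    have hz : c⁻¹ * l.prod ∈ Subgroup.center (Matrix.SpecialLinearGroup (Fin n) F) := QuotientGroup.eq.1 hl
    obtain ⟨r, hr1, hr⟩ := Matrix.SpecialLinearGroup.mem_center_iff.1 hz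
    have hr0 : r ≠ 0 := by
      rintro rfl
      rw [Fintype.card_fin, zero_pow (by omega)] at hr1
      exact zero_ne_one hr1
    have h1 : (l.prod : Matrix (Fin n) (Fin n) F) = A * Matrix.scalar (Fin n) r := by
      have h2 : (l.prod : Matrix (Fin n) (Fin n) F) = (c : Matrix (Fin n) (Fin n) F) *
          ((c⁻¹ * l.prod : Matrix.SpecialLinearGroup (Fin n) F) : Matrix (Fin n) (Fin n) F) := by
        rw [← Matrix.SpecialLinearGroup.coe_mul, mul_inv_cancel_left]
      rw [h2, ← hr]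
    have h2 : r • (A *ᵥ v) = v := by
      have h3 := hfix
      rw [h1, ← Matrix.mulVec_mulVec, Matrix.scalar_apply, ← Matrix.smul_one_eq_diagonal, Matrix.smul_mulVec,
        Matrix.one_mulVec, Matrix.mulVec_smul] at h3
      exact h3
    have h3 : A *ᵥ v = r⁻¹ • v := by
      conv_rhs => rw [← h2]
      rw [smul_smul, inv_mul_cancel₀ hr0, one_smul]
    apply hproot r⁻¹
    rw [← hA, Matrix.eval_charpoly, ← Matrix.exists_mulVec_eq_zero_iff]
    refine ⟨v, hv0, ?_⟩
    rw [Matrix.sub_mulVec, h3, Matrix.scalar_apply, ← Matrix.smul_one_eq_diagonal, Matrix.smul_mulVec,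
      Matrix.one_mulVec, sub_self]

end Cfsg.Agent.H956.CovLower
end

-- part: H269/CovDec
section
/-!
# Decompositions into cyclic maps (helper269, for S2483, helper166)
-/

set_option autoImplicit false

namespace Cfsg.Agent.H269.CovDec

open Module Polynomial Cfsg.Agent.H166.Cov

universe u

variable {F : Type u} [Field F] {V W U : Type u} [AddCommGroup V] [Module F V] [AddCommGroup W] [Module F W]
  [AddCommGroup U] [Module F U]

/-! ### similarity -/

theorem sim_refl (T : End F V) : Sim T T := ⟨LinearEquiv.refl F V, fun _ => rfl⟩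

theorem sim_symm {S : End F V} {T : End F W} (h : Sim S T) : Sim T S := by
  obtain ⟨e, he⟩ := h
  exact ⟨e.symm, fun x => by rw [e.symm_apply_eq, he, e.apply_symm_apply]⟩

theorem sim_trans {S : End F V} {T : End F W} {R : End F U} (h : Sim S T) (h' : Sim T R) : Sim S R := by
  obtain ⟨e, he⟩ := h
  obtain ⟨e', he'⟩ := h'
  exact ⟨e.trans e', fun x => by rw [LinearEquiv.trans_apply, LinearEquiv.trans_apply, he, he']⟩

theorem sim_prod {V' W' : Type u} [AddCommGroup V'] [Module F V'] [AddCommGroup W'] [Module F W']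
    {S : End F V} {T : End F W} {S' : End F V'} {T' : End F W'} (h : Sim S T) (h' : Sim S' T') :
    Sim (S.prodMap S') (T.prodMap T') := by
  obtain ⟨e, he⟩ := h
  obtain ⟨e', he'⟩ := h'
  exact ⟨e.prodCongr e', fun x => Prod.ext (he _) (he' _)⟩

theorem sim_prodComm (S : End F V) (T : End F W) : Sim (S.prodMap T) (T.prodMap S) :=
  ⟨LinearEquiv.prodComm F V W, fun _ => rfl⟩

theorem sim_prodAssoc (S : End F V) (T : End F W) (R : End F U) :
    Sim ((S.prodMap T).prodMap R) (S.prodMap (T.prodMap R)) :=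
  ⟨LinearEquiv.prodAssoc F V W U, fun _ => rfl⟩

theorem sim_conj (T : End F V) (e : V ≃ₗ[F] W) : Sim T (e.conj T) :=
  ⟨e, fun x => by rw [LinearEquiv.conj_apply_apply, e.symm_apply_apply]⟩

theorem sim_fin [FiniteDimensional F V] (T : End F V) {m : ℕ} (hm : finrank F V = m) :
    ∃ T' : End F (Fin m → F), Sim T T' :=
  ⟨_, sim_conj T (LinearEquiv.ofFinrankEq V (Fin m → F) (by rw [hm, finrank_fin_fun]))⟩

theorem sim_charpoly [FiniteDimensional F V] [FiniteDimensional F W] {S : End F V} {T : End F W} (h : Sim S T) :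
    LinearMap.charpoly S = LinearMap.charpoly T := by
  obtain ⟨e, he⟩ := h
  have h1 : T = e.conj S := by
    ext x
    rw [LinearEquiv.conj_apply_apply, he, e.apply_symm_apply]
  rw [h1, LinearEquiv.charpoly_conj]

theorem sim_coc {S : End F V} {T : End F W} (h : Sim S T) (hS : Coc S) : Coc T := by
  obtain ⟨e, he⟩ := h
  obtain ⟨φ, hφ⟩ := hS
  refine ⟨φ ∘ₗ e.symm.toLinearMap, fun K hK hT => ?_⟩
  have h1 := hφ (K.comap e.toLinearMap) (fun x hx => ?_) (fun x hx => ?_)
  · rw [eq_bot_iff]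
    intro x hx
    have h2 : e.symm x ∈ K.comap e.toLinearMap := by
      rw [Submodule.mem_comap]
      simpa using hx
    rw [h1, Submodule.mem_bot] at h2
    rw [Submodule.mem_bot]
    simpa using h2
  · have := hK (e x) hx
    simpa using this
  · rw [Submodule.mem_comap] at hx ⊢
    have := hT _ hx
    simpa [he] using this

/-! ### permutations -/

theorem Dec.sim {L : List F[X]} {m : ℕ} {S T : End F (Fin m → F)} (h : Sim S T) (hS : Dec L S) : Dec L T := by
  cases L with
  | nil => exact hS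
  | cons f L =>
    obtain ⟨m₁, m₂, T₁, T₂, h1, h2, h3, h4⟩ := hS
    exact ⟨m₁, m₂, T₁, T₂, h1, h2, h3, sim_trans (sim_symm h) h4⟩

/-- decomposition of an endomorphism of any space -/
def DecV (L : List F[X]) (T : End F V) : Prop := ∃ (m : ℕ) (T' : End F (Fin m → F)), Sim T T' ∧ Dec L T'

theorem DecV.sim {L : List F[X]} {S : End F V} {T : End F W} (h : Sim S T) (hS : DecV L S) : DecV L T := by
  obtain ⟨m, T', h1, h2⟩ := hS
  exact ⟨m, T', sim_trans (sim_symm h) h1, h2⟩

theorem sim_fin_eq {m m' : ℕ} {S : End F (Fin m → F)} {T : End F (Fin m' → F)} (h : Sim S T) : m = m' := by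
  obtain ⟨e, -⟩ := h
  have := e.finrank_eq
  rwa [finrank_fin_fun, finrank_fin_fun] at this

theorem DecV.dec {L : List F[X]} {m : ℕ} {T : End F (Fin m → F)} (h : DecV L T) : Dec L T := by
  obtain ⟨m', T', h1, h2⟩ := h
  obtain rfl := sim_fin_eq h1
  exact Dec.sim (sim_symm h1) h2

theorem Dec.decV {L : List F[X]} {m : ℕ} {T : End F (Fin m → F)} (h : Dec L T) : DecV L T :=
  ⟨m, T, sim_refl _, h⟩

theorem decV_cons [FiniteDimensional F V] {f : F[X]} {L : List F[X]} {T : End F V} :
    DecV (f :: L) T ↔ ∃ (m₁ m₂ : ℕ) (T₁ : End F (Fin m₁ → F)) (T₂ : End F (Fin m₂ → F)),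
      Coc T₁ ∧ LinearMap.charpoly T₁ = f ∧ Dec L T₂ ∧ Sim T (T₁.prodMap T₂) := by
  constructor
  · rintro ⟨m, T', h1, m₁, m₂, T₁, T₂, h2, h3, h4, h5⟩
    exact ⟨m₁, m₂, T₁, T₂, h2, h3, h4, sim_trans h1 h5⟩
  · rintro ⟨m₁, m₂, T₁, T₂, h2, h3, h4, h5⟩
    obtain ⟨T', hT'⟩ := sim_fin T rfl
    exact ⟨_, T', hT', m₁, m₂, T₁, T₂, h2, h3, h4, sim_trans (sim_symm hT') h5⟩

theorem decV_prod [FiniteDimensional F V] [FiniteDimensional F W] {f : F[X]} {L : List F[X]} {S : End F V}
    {T : End F W} (hS : Coc S) (hf : LinearMap.charpoly S = f) (hT : DecV L T) : DecV (f :: L) (S.prodMap T) := by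
  obtain ⟨S', hS'⟩ := sim_fin S rfl
  obtain ⟨m, T', h1, h2⟩ := hT
  exact decV_cons.2 ⟨_, _, S', T', sim_coc hS' hS, by rw [← sim_charpoly hS', hf], h2, sim_prod hS' h1⟩

theorem Dec.perm {L L' : List F[X]} (h : L.Perm L') {m : ℕ} {T : End F (Fin m → F)} (hT : Dec L T) : Dec L' T := by
  induction h generalizing m with
  | nil => exact hT
  | cons f _ ih =>
    obtain ⟨m₁, m₂, T₁, T₂, h1, h2, h3, h4⟩ := hT
    exact ⟨m₁, m₂, T₁, T₂, h1, h2, ih h3, h4⟩
  | swap f g L =>
    obtain ⟨m₁, m₂, T₁, T₂, h1, h2, ⟨m₃, m₄, T₃, T₄, h3, h4, h5, h6⟩, h7⟩ := hT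
    refine DecV.dec (DecV.sim (S := T₃.prodMap (T₁.prodMap T₄)) ?_ (decV_prod h3 h4 (decV_prod h1 h2 (Dec.decV h5))))
    refine sim_trans (sim_symm (sim_prodAssoc _ _ _)) ?_
    refine sim_trans (sim_prod (sim_prodComm _ _) (sim_refl _)) ?_
    refine sim_trans (sim_prodAssoc _ _ _) ?_
    exact sim_trans (sim_prod (sim_refl _) (sim_symm h6)) (sim_symm h7)
  | trans _ _ ih1 ih2 => exact ih2 (ih1 hT)

/-! ### cocyclic maps -/

theorem aeval_prodMap (S : End F V) (T : End F W) (p : F[X]) (x : V × W) :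
    aeval (S.prodMap T) p x = (aeval S p x.1, aeval T p x.2) := by
  induction p using Polynomial.induction_on' with
  | add p q hp hq =>
    rw [map_add, LinearMap.add_apply, hp, hq, map_add, map_add, LinearMap.add_apply, LinearMap.add_apply]
    rfl
  | monomial n a =>
    have h1 : ∀ n : ℕ, ∀ x : V × W, ((S.prodMap T) ^ n) x = ((S ^ n) x.1, (T ^ n) x.2) := by
      intro n
      induction n with
      | zero => intro x; rfl
      | succ n ih => intro x; rw [pow_succ, pow_succ, pow_succ]; exact ih _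
    rw [aeval_monomial, aeval_monomial, aeval_monomial]
    simp [Module.algebraMap_end_apply, h1, Prod.smul_mk]

theorem aeval_mem {T : End F V} {K : Submodule F V} (hK : ∀ x ∈ K, T x ∈ K) (p : F[X]) {x : V} (hx : x ∈ K) :
    aeval T p x ∈ K := by
  have h1 : ∀ n : ℕ, ∀ x ∈ K, (T ^ n) x ∈ K := by
    intro n
    induction n with
    | zero => intro x hx; exact hx
    | succ n ih => intro x hx; rw [pow_succ]; exact ih _ (hK _ hx)
  induction p using Polynomial.induction_on' with
  | add p q hp hq =>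
    rw [map_add, LinearMap.add_apply]
    exact K.add_mem hp hq
  | monomial n a =>
    rw [aeval_monomial]
    exact K.smul_mem _ (h1 n x hx)

theorem coc_prod [FiniteDimensional F V] [FiniteDimensional F W] {S : End F V} {T : End F W} (hS : Coc S)
    (hT : Coc T) (h : IsCoprime (LinearMap.charpoly S) (LinearMap.charpoly T)) : Coc (S.prodMap T) := by
  obtain ⟨φ, hφ⟩ := hS
  obtain ⟨ψ, hψ⟩ := hT
  refine ⟨φ.coprod ψ, fun K hK hi => ?_⟩
  have k1 : K.comap (LinearMap.inl F V W) = ⊥ := by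
    refine hφ _ (fun x hx => ?_) (fun x hx => ?_)
    · have := hK _ hx
      simpa using this
    · have := hi _ hx
      simpa using this
  have k2 : K.comap (LinearMap.inr F V W) = ⊥ := by
    refine hψ _ (fun x hx => ?_) (fun x hx => ?_)
    · have := hK _ hx
      simpa using this
    · have := hi _ hx
      simpa using this
  obtain ⟨a, b, hab⟩ := h
  rw [eq_bot_iff]
  rintro ⟨x, y⟩ hxy
  have c1 : aeval T (LinearMap.charpoly S) y = 0 := by
    have h1 := aeval_mem hi (LinearMap.charpoly S) hxy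
    rw [aeval_prodMap, LinearMap.aeval_self_charpoly] at h1
    have h2 : aeval T (LinearMap.charpoly S) y ∈ K.comap (LinearMap.inr F V W) := h1
    rw [k2] at h2
    exact h2
  have c2 : aeval S (LinearMap.charpoly T) x = 0 := by
    have h1 := aeval_mem hi (LinearMap.charpoly T) hxy
    rw [aeval_prodMap, LinearMap.aeval_self_charpoly] at h1
    have h2 : aeval S (LinearMap.charpoly T) x ∈ K.comap (LinearMap.inl F V W) := h1
    rw [k1] at h2
    exact h2
  have d1 : y = 0 := by
    have := congrArg (fun p : F[X] => aeval T p y) hab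
    simp only [map_add, map_mul, LinearMap.add_apply, Module.End.mul_apply, LinearMap.aeval_self_charpoly, map_one,
      Module.End.one_apply] at this
    rw [c1, LinearMap.zero_apply, map_zero, map_zero, add_zero] at this
    exact this.symm
  have d2 : x = 0 := by
    have := congrArg (fun p : F[X] => aeval S p x) hab
    simp only [map_add, map_mul, LinearMap.add_apply, Module.End.mul_apply, LinearMap.aeval_self_charpoly, map_one,
      Module.End.one_apply] at this
    rw [c2, LinearMap.zero_apply, map_zero, map_zero, add_zero] at this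
    exact this.symm
  rw [d1, d2]
  exact Submodule.zero_mem _

/-- linear recurrences -/
theorem rec_zero {p : F[X]} (hp : p.Monic) {a : ℕ → F}
    (ha : ∀ i, ∑ j ∈ Finset.range (p.natDegree + 1), p.coeff j * a (i + j) = 0) (h0 : ∀ i < p.natDegree, a i = 0) :
    ∀ i, a i = 0 := by
  intro i
  induction i using Nat.strong_induction_on with
  | _ i ih =>
    by_cases hi : i < p.natDegree
    · exact h0 i hi
    · have h1 := ha (i - p.natDegree)
      rw [Finset.sum_range_succ, hp.coeff_natDegree, one_mul, Nat.sub_add_cancel (not_lt.1 hi)] at h1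
      rw [Finset.sum_eq_zero, zero_add] at h1
      · exact h1
      · intro j hj
        rw [ih _ (by have := Finset.mem_range.1 hj; omega), mul_zero]

theorem rec_of_charpoly [FiniteDimensional F V] (T : End F V) (φ : V →ₗ[F] F) (x : V) (i : ℕ) :
    ∑ j ∈ Finset.range ((LinearMap.charpoly T).natDegree + 1), (LinearMap.charpoly T).coeff j * φ ((T ^ (i + j)) x) = 0 := by
  have h1 := LinearMap.aeval_self_charpoly T
  rw [aeval_eq_sum_range] at h1
  have h2 := congrArg (fun A : End F V => φ (A ((T ^ i) x))) h1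
  simp only [LinearMap.sum_apply, map_sum, LinearMap.smul_apply, map_smul, smul_eq_mul, LinearMap.zero_apply,
    map_zero] at h2
  rw [← h2]
  refine Finset.sum_congr rfl fun j _ => ?_
  rw [add_comm i j, pow_add]
  rfl

theorem Obs.eq_zero {φ : V →ₗ[F] F} {T : End F V} (h : Obs φ T) {x : V} (hx : ∀ i : ℕ, φ ((T ^ i) x) = 0) : x = 0 := by
  let K : Submodule F V :=
    { carrier := {x | ∀ i : ℕ, φ ((T ^ i) x) = 0}
      add_mem' := fun {a b} ha hb i => by rw [map_add, map_add, ha, hb, add_zero]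
      zero_mem' := fun i => by rw [map_zero, map_zero]
      smul_mem' := fun c a ha i => by rw [map_smul, map_smul, ha, smul_zero] }
  have h1 : K = ⊥ := by
    refine h K (fun y hy => hy 0) (fun y hy i => ?_)
    have := hy (i + 1)
    rw [pow_succ] at this
    exact this
  have h2 : x ∈ K := hx
  rw [h1] at h2
  exact h2

theorem sim_of_coc [FiniteDimensional F V] [FiniteDimensional F W] {S : End F V} {T : End F W} (hS : Coc S)
    (hT : Coc T) (h : LinearMap.charpoly S = LinearMap.charpoly T) : Sim S T := by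
  obtain ⟨φ, hφ⟩ := hS
  obtain ⟨ψ, hψ⟩ := hT
  set p := LinearMap.charpoly S with hp
  set n := p.natDegree with hn
  have hm : p.Monic := LinearMap.charpoly_monic S
  have hV : finrank F V = n := (LinearMap.charpoly_natDegree S).symm
  have hW : finrank F W = n := by rw [hn, h]; exact (LinearMap.charpoly_natDegree T).symm
  let A : V →ₗ[F] (Fin n → F) := LinearMap.pi fun i => φ ∘ₗ (S ^ (i : ℕ))
  let B : W →ₗ[F] (Fin n → F) := LinearMap.pi fun i => ψ ∘ₗ (T ^ (i : ℕ))
  have hA : ∀ x i, A x i = φ ((S ^ (i : ℕ)) x) := fun _ _ => rfl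
  have hB : ∀ x i, B x i = ψ ((T ^ (i : ℕ)) x) := fun _ _ => rfl
  have hAi : Function.Injective A := by
    rw [injective_iff_map_eq_zero]
    intro x hx
    refine Obs.eq_zero hφ (rec_zero hm (rec_of_charpoly S φ x) fun i hi => ?_)
    rw [← hA x ⟨i, hi⟩, hx]
    rfl
  have hBi : Function.Injective B := by
    rw [injective_iff_map_eq_zero]
    intro x hx
    refine Obs.eq_zero hψ (rec_zero hm (p := p) ?_ fun i hi => ?_)
    · rw [h]; exact rec_of_charpoly T ψ x
    · rw [← hB x ⟨i, hi⟩, hx]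
      rfl
  let eA : V ≃ₗ[F] (Fin n → F) := LinearEquiv.ofInjectiveOfFinrankEq A hAi (by rw [hV, finrank_fin_fun])
  let eB : W ≃ₗ[F] (Fin n → F) := LinearEquiv.ofInjectiveOfFinrankEq B hBi (by rw [hW, finrank_fin_fun])
  have key : ∀ x y, A x = B y → ∀ i : ℕ, φ ((S ^ i) x) = ψ ((T ^ i) y) := by
    intro x y hxy
    have h1 : ∀ i, φ ((S ^ i) x) - ψ ((T ^ i) y) = 0 := by
      refine rec_zero hm (a := fun i => φ ((S ^ i) x) - ψ ((T ^ i) y)) (fun i => ?_) (fun i hi => ?_)
      · simp only [mul_sub, Finset.sum_sub_distrib]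
        rw [rec_of_charpoly S φ x i]
        have := rec_of_charpoly T ψ y i
        rw [← h] at this
        rw [this, sub_zero]
      · have := congrFun hxy ⟨i, hi⟩
        rw [hA, hB] at this
        exact sub_eq_zero.2 this
    exact fun i => sub_eq_zero.1 (h1 i)
  refine ⟨eA.trans eB.symm, fun x => ?_⟩
  have e1 : ∀ x, A x = B ((eA.trans eB.symm) x) := by
    intro x
    have : eB ((eA.trans eB.symm) x) = eA x := by
      rw [LinearEquiv.trans_apply, LinearEquiv.apply_symm_apply]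
    exact this.symm
  rw [← sub_eq_zero]
  refine Obs.eq_zero hψ fun i => ?_
  rw [map_sub, map_sub, ← key _ _ (e1 (S x)) i, sub_eq_zero]
  have h2 := key _ _ (e1 x) (i + 1)
  rw [pow_succ, pow_succ] at h2
  exact h2

/-! ### the cyclic blocks -/

/-- multiplication by the root -/
noncomputable def blk (f : F[X]) : End F (AdjoinRoot f) := LinearMap.mulLeft F (AdjoinRoot.root f)

theorem blk_pow (f : F[X]) (n : ℕ) (x : AdjoinRoot f) : (blk f ^ n) x = AdjoinRoot.root f ^ n * x := by
  induction n generalizing x with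
  | zero => rw [pow_zero, pow_zero, one_mul]; rfl
  | succ n ih =>
    rw [pow_succ, Module.End.mul_apply, ih, pow_succ, mul_assoc]
    rfl

theorem pow_mem {T : End F V} {K : Submodule F V} (hK : ∀ x ∈ K, T x ∈ K) (n : ℕ) {x : V} (hx : x ∈ K) :
    (T ^ n) x ∈ K := by
  induction n generalizing x with
  | zero => exact hx
  | succ n ih => rw [pow_succ]; exact ih (hK _ hx)

theorem coc_blk {f : F[X]} (hf : f.Monic) : Coc (blk f) := by
  refine ⟨(lcoeff F (f.natDegree - 1)) ∘ₗ AdjoinRoot.modByMonicHom hf, fun K hK hi => ?_⟩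
  by_contra hne
  obtain ⟨x, hx, hx0⟩ := K.exists_mem_ne_zero_of_ne_bot hne
  obtain ⟨p, rfl⟩ := AdjoinRoot.mk_surjective x
  set q := p %ₘ f with hq
  have h1 : AdjoinRoot.mk f q = AdjoinRoot.mk f p := by
    rw [AdjoinRoot.mk_eq_mk, hq]
    exact ⟨-(p /ₘ f), by linear_combination modByMonic_add_div p f⟩
  have hq0 : q ≠ 0 := by
    intro e
    rw [e, map_zero] at h1
    exact hx0 h1.symm
  have hf1 : f ≠ 1 := by
    rintro rfl
    exact hq0 (by rw [hq, modByMonic_one])
  have hd : q.natDegree < f.natDegree := natDegree_modByMonic_lt p hf hf1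
  have h2 := pow_mem hi (f.natDegree - 1 - q.natDegree) hx
  rw [blk_pow, ← h1] at h2
  have h3 := hK _ h2
  have h4 : AdjoinRoot.root f ^ (f.natDegree - 1 - q.natDegree) * AdjoinRoot.mk f q =
      AdjoinRoot.mk f (X ^ (f.natDegree - 1 - q.natDegree) * q) := by
    rw [map_mul, map_pow]; rfl
  rw [h4, LinearMap.comp_apply, AdjoinRoot.modByMonicHom_mk, lcoeff_apply] at h3
  have h5 : (X ^ (f.natDegree - 1 - q.natDegree) * q).natDegree = f.natDegree - 1 := by
    rw [natDegree_mul (pow_ne_zero _ X_ne_zero) hq0, natDegree_X_pow]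
    omega
  have h6 : (X ^ (f.natDegree - 1 - q.natDegree) * q) %ₘ f = X ^ (f.natDegree - 1 - q.natDegree) * q := by
    rw [modByMonic_eq_self_iff hf]
    exact degree_lt_degree (by rw [h5]; omega)
  have h7 := coeff_natDegree (p := X ^ (f.natDegree - 1 - q.natDegree) * q)
  rw [h5] at h7
  rw [h6, h7, leadingCoeff_eq_zero] at h3
  exact mul_ne_zero (pow_ne_zero _ X_ne_zero) hq0 h3

theorem finite_blk {f : F[X]} (hf : f.Monic) : Module.Finite F (AdjoinRoot f) :=
  (AdjoinRoot.powerBasis' hf).finite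

theorem charpoly_blk {f : F[X]} (hf : f.Monic) [Module.Finite F (AdjoinRoot f)] :
    LinearMap.charpoly (blk f) = f := by
  rw [← LinearMap.charpoly_toMatrix (blk f) (AdjoinRoot.powerBasisAux' hf)]
  have h1 : LinearMap.toMatrix (AdjoinRoot.powerBasisAux' hf) (AdjoinRoot.powerBasisAux' hf) (blk f) =
      Algebra.leftMulMatrix (AdjoinRoot.powerBasisAux' hf) (AdjoinRoot.root f) := rfl
  rw [h1, ← Cfsg.Agent.H953.comp_eq_leftMulMatrix hf, Cfsg.Agent.H953.charpoly_comp hf]

theorem exists_coc {f : F[X]} (hf : f.Monic) {m : ℕ} (hd : f.natDegree = m) :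
    ∃ T : End F (Fin m → F), Coc T ∧ LinearMap.charpoly T = f := by
  have := finite_blk hf
  have h1 : finrank F (AdjoinRoot f) = m := by
    rw [(AdjoinRoot.powerBasis' hf).finrank, ← hd]
    rfl
  obtain ⟨T, hT⟩ := sim_fin (blk f) h1
  exact ⟨T, sim_coc hT (coc_blk hf), by rw [← sim_charpoly hT, charpoly_blk hf]⟩

/-- the quotient module as `AdjoinRoot` -/
noncomputable def eps (f : F[X]) : (F[X] ⧸ (Submodule.span F[X] {f})) ≃ₗ[F] AdjoinRoot f := LinearEquiv.refl F _

theorem eps_smul (f : F[X]) (x : F[X] ⧸ (Submodule.span F[X] {f})) :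
    eps f ((X : F[X]) • x) = AdjoinRoot.root f * eps f x := by
  induction x using Submodule.Quotient.induction_on with
  | H p => rfl

theorem exists_split {d : ℕ} (M : Fin (d + 1) → Type u) [∀ i, AddCommGroup (M i)] [∀ i, Module F (M i)]
    (ψ : V ≃ₗ[F] ∀ i, M i) {A : Type u} [AddCommGroup A] [Module F A] (ε : M 0 ≃ₗ[F] A) :
    ∃ e : V ≃ₗ[F] A × (∀ i : Fin d, M i.succ), ∀ v, e v = (ε (ψ v 0), fun i : Fin d => ψ v i.succ) :=
  ⟨ψ.trans ((Fin.consLinearEquiv F M).symm.trans (ε.prodCongr (LinearEquiv.refl F _))), fun _ => rfl⟩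

open Cfsg.Agent.H171.ElemDiv in
theorem decV_family : ∀ (d : ℕ) (c : Fin d → F[X] × ℕ), (∀ i, (c i).1.Monic) → ∀ {V : Type u} [AddCommGroup V]
    [Module F V] (T : End F V) (ψ : V ≃ₗ[F] (∀ i, Cyc (c i))), (∀ v, ψ (T v) = (X : F[X]) • ψ v) →
    DecV (List.ofFn fun i => (c i).1 ^ (c i).2) T := by
  intro d
  induction d with
  | zero =>
    intro c _ V _ _ T ψ _
    let e : V ≃ₗ[F] (Fin 0 → F) :=
      { toFun := fun _ => 0
        map_add' := fun _ _ => by simp
        map_smul' := fun _ _ => by simp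
        invFun := fun _ => 0
        left_inv := fun v => ψ.injective (Subsingleton.elim _ _)
        right_inv := fun v => Subsingleton.elim _ _ }
    rw [List.ofFn_zero]
    exact ⟨0, 0, ⟨e, fun x => Subsingleton.elim _ _⟩, rfl⟩
  | succ d ih =>
    intro c hc V _ _ T ψ hψ
    have hf : ((c 0).1 ^ (c 0).2).Monic := (hc 0).pow _
    have := finite_blk hf
    let W := ∀ i : Fin d, Cyc (c i.succ)
    let TW : End F W :=
      { toFun := fun w => (X : F[X]) • w
        map_add' := fun _ _ => smul_add _ _ _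
        map_smul' := fun a w => by rw [RingHom.id_apply, smul_comm] }
    have hW := ih (fun i => c i.succ) (fun i => hc _) TW (LinearEquiv.refl F W) (fun _ => rfl)
    have : FiniteDimensional F W := by
      obtain ⟨m, T', ⟨e, -⟩, -⟩ := hW
      exact e.symm.finiteDimensional
    rw [List.ofFn_succ]
    have h5 : Coc (blk ((c 0).1 ^ (c 0).2)) := coc_blk hf
    have h6 : LinearMap.charpoly (blk ((c 0).1 ^ (c 0).2)) = (c 0).1 ^ (c 0).2 := charpoly_blk hf
    have h7 := decV_prod h5 h6 hW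
    refine DecV.sim (sim_symm ?_) h7
    obtain ⟨e, he⟩ := exists_split (fun i => Cyc (c i)) ψ (eps ((c 0).1 ^ (c 0).2))
    refine ⟨e, fun v => ?_⟩
    rw [he, he, hψ]
    refine Prod.ext ?_ ?_
    · exact eps_smul _ _
    · rfl

/-! ### merging and splitting -/

theorem dec_merge {f g : F[X]} (h : IsCoprime f g) {L : List F[X]} {m : ℕ} {T : End F (Fin m → F)}
    (hT : Dec (f :: g :: L) T) : Dec (f * g :: L) T := by
  obtain ⟨m₁, m₂, T₁, T₂, h1, h2, ⟨m₃, m₄, T₃, T₄, h3, h4, h5, h6⟩, h7⟩ := hT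
  have hc : Coc (T₁.prodMap T₃) := coc_prod h1 h3 (by rw [h2, h4]; exact h)
  have hp : LinearMap.charpoly (T₁.prodMap T₃) = f * g := by rw [LinearMap.charpoly_prodMap, h2, h4]
  refine DecV.dec (DecV.sim (sim_symm ?_) (decV_prod hc hp (Dec.decV h5)))
  exact sim_trans h7 (sim_trans (sim_prod (sim_refl _) h6) (sim_symm (sim_prodAssoc _ _ _)))

theorem dec_split {f g : F[X]} (hf : f.Monic) (hg : g.Monic) (h : IsCoprime f g) {L : List F[X]} {m : ℕ}
    {T : End F (Fin m → F)} (hT : Dec (f * g :: L) T) : Dec (f :: g :: L) T := by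
  obtain ⟨m₁, m₂, T₁, T₂, h1, h2, h3, h4⟩ := hT
  obtain ⟨A, hA, hAc⟩ := exists_coc hf rfl
  obtain ⟨B, hB, hBc⟩ := exists_coc hg rfl
  have hc : Coc (A.prodMap B) := coc_prod hA hB (by rw [hAc, hBc]; exact h)
  have hs : Sim T₁ (A.prodMap B) := sim_of_coc h1 hc (by rw [LinearMap.charpoly_prodMap, hAc, hBc, h2])
  refine DecV.dec (DecV.sim (sim_symm ?_) (decV_prod hA hAc (decV_prod hB hBc (Dec.decV h3))))
  exact sim_trans h4 (sim_trans (sim_prod hs (sim_refl _)) (sim_prodAssoc _ _ _))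

theorem dec_sum {L : List F[X]} {m : ℕ} {T : End F (Fin m → F)} (hT : Dec L T) :
    (L.map natDegree).sum = m := by
  induction L generalizing m with
  | nil => exact hT.symm
  | cons f L ih =>
    obtain ⟨m₁, m₂, T₁, T₂, h1, h2, h3, ⟨e, -⟩⟩ := hT
    have h5 := e.finrank_eq
    rw [finrank_fin_fun, finrank_prod, finrank_fin_fun, finrank_fin_fun] at h5
    rw [List.map_cons, List.sum_cons, ih h3, ← h2, LinearMap.charpoly_natDegree, finrank_fin_fun, h5]

/-- sum of the squares of the degrees -/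
def sq (L : List F[X]) : ℕ := (L.map fun f => f.natDegree ^ 2).sum

theorem sq_le (L : List F[X]) : sq L ≤ (L.map natDegree).sum ^ 2 := by
  induction L with
  | nil => simp [sq]
  | cons f L ih =>
    unfold sq at ih ⊢
    rw [List.map_cons, List.sum_cons, List.map_cons, List.sum_cons]
    nlinarith [Nat.zero_le (f.natDegree * (L.map natDegree).sum)]

theorem sq_cons (f : F[X]) (L : List F[X]) : sq (f :: L) = f.natDegree ^ 2 + sq L := by
  unfold sq
  rw [List.map_cons, List.sum_cons]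

theorem sq_perm {L L' : List F[X]} (h : L.Perm L') : sq L = sq L' := (h.map _).sum_eq

theorem exists_perm_of_mem {α : Type*} {a : α} {L : List α} (h : a ∈ L) : ∃ L', L.Perm (a :: L') := by
  obtain ⟨s, t, rfl⟩ := List.append_of_mem h
  exact ⟨s ++ t, List.perm_middle⟩

theorem exists_of_not_pairwise {α : Type*} {R : α → α → Prop} : ∀ {L : List α}, ¬ L.Pairwise R →
    ∃ a b L', L.Perm (a :: b :: L') ∧ ¬ R a b
  | [], h => absurd List.Pairwise.nil h
  | a :: L, h => by
    by_cases h1 : ∀ b ∈ L, R a b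
    · have h2 : ¬ L.Pairwise R := fun h2 => h (List.pairwise_cons.2 ⟨h1, h2⟩)
      obtain ⟨b, c, L', h3, h4⟩ := exists_of_not_pairwise h2
      refine ⟨b, c, a :: L', ?_, h4⟩
      exact (h3.cons a).trans ((List.Perm.swap _ _ _).trans ((List.Perm.swap _ _ _).cons b))
    · push Not at h1
      obtain ⟨b, hb, hab⟩ := h1
      obtain ⟨L', hL'⟩ := exists_perm_of_mem hb
      exact ⟨a, b, L', hL'.cons a, hab⟩

/-- two different monic quadratic polynomials with a common divisor -/
theorem exists_common_root {f g : F[X]} (hf : f.Monic) (hg : g.Monic) (hf2 : f.natDegree = 2)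
    (hg2 : g.natDegree = 2) (hne : f ≠ g) (hc : ¬ IsCoprime f g) :
    ∃ l a b : F, f = (X - C l) * (X - C a) ∧ g = (X - C l) * (X - C b) ∧ a ≠ b := by
  have h1 : ∃ p : F[X], Prime p ∧ p ∣ f ∧ p ∣ g := by
    by_contra hcon
    push Not at hcon
    exact hc (isCoprime_of_prime_dvd (fun h => hf.ne_zero h.1) hcon)
  obtain ⟨p, hp, hpf, hpg⟩ := h1
  have hp0 := hp.ne_zero
  have hle : p.natDegree ≤ 2 := hf2 ▸ natDegree_le_of_dvd hpf hf.ne_zero
  have hpos : 0 < p.natDegree := hp.irreducible.natDegree_pos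
  have hone : p.natDegree = 1 := by
    by_contra h1
    have h2 : p.natDegree = 2 := by omega
    have e1 : Associated p f := associated_of_dvd_of_natDegree_le hpf hf.ne_zero (by omega)
    have e2 : Associated p g := associated_of_dvd_of_natDegree_le hpg hg.ne_zero (by omega)
    exact hne (eq_of_monic_of_associated hf hg (e1.symm.trans e2))
  obtain ⟨l, hl⟩ := exists_root_of_degree_eq_one (degree_eq_iff_natDegree_eq_of_pos (by norm_num) |>.2 hone)
  have key : ∀ q : F[X], q.Monic → q.natDegree = 2 → p ∣ q → ∃ a : F, q = (X - C l) * (X - C a) := by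
    intro q hq hq2 hpq
    obtain ⟨r, hr⟩ := (dvd_iff_isRoot.2 hl).trans hpq
    have hrm : r.Monic := (monic_X_sub_C l).of_mul_monic_left (hr ▸ hq)
    have hrd : r.natDegree = 1 := by
      have := (monic_X_sub_C l).natDegree_mul hrm
      rw [← hr, hq2, natDegree_X_sub_C] at this
      omega
    refine ⟨-r.coeff 0, ?_⟩
    rw [hr, C_neg, sub_neg_eq_add, ← hrm.eq_X_add_C hrd]
  obtain ⟨a, ha⟩ := key f hf hf2 hpf
  obtain ⟨b, hb⟩ := key g hg hg2 hpg
  refine ⟨l, a, b, ha, hb, ?_⟩
  rintro rfl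
  exact hne (ha.trans hb.symm)

/-- the conditions on the members -/
def Ok (L : List F[X]) : Prop := ∀ f ∈ L, f.Monic ∧ 1 ≤ f.natDegree

theorem Ok.perm {L L' : List F[X]} (h : L.Perm L') (hL : Ok L) : Ok L' := fun f hf => hL f (h.mem_iff.2 hf)

theorem swap_step {f g : F[X]} {L : List F[X]} {m : ℕ} {T : End F (Fin m → F)} (hT : Dec (f :: g :: L) T)
    {l a b : F} (hf : f = (X - C l) * (X - C a)) (hg : g = (X - C l) * (X - C b)) (hab : a ≠ b) (hbl : b ≠ l) :
    Dec (((X - C b) * f) :: (X - C l) :: L) T := by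
  have h1 : Dec (g :: f :: L) T := Dec.perm (List.Perm.swap _ _ _) hT
  rw [hg] at h1
  have h2 : Dec ((X - C l) :: (X - C b) :: f :: L) T :=
    dec_split (monic_X_sub_C l) (monic_X_sub_C b) (isCoprime_X_sub_C_of_isUnit_sub (by
      rw [isUnit_iff_ne_zero, sub_ne_zero]; exact hbl.symm)) h1
  have h3 : Dec ((X - C b) :: f :: (X - C l) :: L) T := by
    refine Dec.perm ?_ h2
    exact (List.Perm.swap _ _ _).trans ((List.Perm.swap _ _ _).cons _)
  refine dec_merge ?_ h3
  rw [hf]
  refine IsCoprime.mul_right ?_ ?_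
  · exact isCoprime_X_sub_C_of_isUnit_sub (by rw [isUnit_iff_ne_zero, sub_ne_zero]; exact hbl)
  · exact isCoprime_X_sub_C_of_isUnit_sub (by rw [isUnit_iff_ne_zero, sub_ne_zero]; exact hab.symm)

theorem exists_best {m : ℕ} {T : End F (Fin m → F)} : ∀ (n : ℕ) (L : List F[X]), Dec L T → Ok L →
    (m ^ 2 + 1) * L.length + (m ^ 2 - sq L) = n →
    ∃ L : List F[X], Dec L T ∧ Ok L ∧ L.Pairwise (fun f g => ¬ IsCoprime f g) ∧
      (∀ f ∈ L, ∀ g ∈ L, f.natDegree = 2 → g.natDegree = 2 → f = g) := by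
  intro n
  induction n using Nat.strong_induction_on with
  | _ n ih =>
    intro L hT hL hn
    by_cases hbad : ∃ f g L', L.Perm (f :: g :: L') ∧ IsCoprime f g
    · obtain ⟨f, g, L', hp, hc⟩ := hbad
      have hT' := dec_merge hc (Dec.perm hp hT)
      have hL' := Ok.perm hp hL
      have hf := hL' f List.mem_cons_self
      have hg := hL' g (List.mem_cons_of_mem _ List.mem_cons_self)
      have hO : Ok (f * g :: L') := by
        intro q hq
        rcases List.mem_cons.1 hq with rfl | hq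
        · exact ⟨hf.1.mul hg.1, by rw [hf.1.natDegree_mul hg.1]; omega⟩
        · exact hL' q (List.mem_cons_of_mem _ (List.mem_cons_of_mem _ hq))
      refine ih _ ?_ (f * g :: L') hT' hO rfl
      rw [← hn, hp.length_eq, List.length_cons, List.length_cons, List.length_cons]
      have : m ^ 2 - sq (f * g :: L') ≤ m ^ 2 := Nat.sub_le _ _
      nlinarith [Nat.zero_le (m ^ 2 - sq L)]
    · have hnc : ∀ f g L', L.Perm (f :: g :: L') → ¬ IsCoprime f g := fun f g L' hp hc => hbad ⟨f, g, L', hp, hc⟩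
      by_cases hbad2 : ∃ f ∈ L, ∃ g ∈ L, f.natDegree = 2 ∧ g.natDegree = 2 ∧ f ≠ g
      · obtain ⟨f, hf, g, hg, hf2, hg2, hne⟩ := hbad2
        obtain ⟨L₁, h1⟩ := exists_perm_of_mem hf
        have hg' : g ∈ L₁ := by
          rcases List.mem_cons.1 (h1.mem_iff.1 hg) with e | h
          · exact absurd e.symm hne
          · exact h
        obtain ⟨L₂, h2⟩ := exists_perm_of_mem hg'
        have hp : L.Perm (f :: g :: L₂) := h1.trans (h2.cons f)
        have hp' : L.Perm (g :: f :: L₂) := hp.trans (List.Perm.swap _ _ _)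
        obtain ⟨l, a, b, hfe, hge, hab⟩ := exists_common_root (hL f hf).1 (hL g hg).1 hf2 hg2 hne (hnc f g L₂ hp)
        have key : ∃ (c : F) (q : F[X]), q.Monic ∧ q.natDegree = 2 ∧ Dec (((X - C c) * q) :: (X - C l) :: L₂) T := by
          by_cases hbl : b = l
          · have hal : a ≠ l := fun e => hab (e.trans hbl.symm)
            exact ⟨a, g, (hL g hg).1, hg2, swap_step (Dec.perm hp' hT) hge hfe hab.symm hal⟩
          · exact ⟨b, f, (hL f hf).1, hf2, swap_step (Dec.perm hp hT) hfe hge hab hbl⟩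
        obtain ⟨c, q, hq, hq2, hT'⟩ := key
        have hd3 : ((X - C c) * q).natDegree = 3 := by
          rw [(monic_X_sub_C c).natDegree_mul hq, natDegree_X_sub_C, hq2]
        have hO : Ok (((X - C c) * q) :: (X - C l) :: L₂) := by
          intro r hr
          rcases List.mem_cons.1 hr with rfl | hr
          · exact ⟨(monic_X_sub_C c).mul hq, by omega⟩
          · rcases List.mem_cons.1 hr with rfl | hr
            · exact ⟨monic_X_sub_C l, by rw [natDegree_X_sub_C]⟩
            · exact (Ok.perm hp hL) r (List.mem_cons_of_mem _ (List.mem_cons_of_mem _ hr))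
        refine ih _ ?_ _ hT' hO rfl
        have e1 := sq_perm hp
        have e2 : sq (((X - C c) * q) :: (X - C l) :: L₂) = sq L + 2 := by
          rw [sq_cons, sq_cons, hd3, natDegree_X_sub_C, e1, sq_cons, sq_cons, hf2, hg2]
          ring
        have e3 : sq (((X - C c) * q) :: (X - C l) :: L₂) ≤ m ^ 2 := by
          have := sq_le (((X - C c) * q) :: (X - C l) :: L₂)
          rwa [dec_sum hT'] at this
        have e4 : (((X - C c) * q) :: (X - C l) :: L₂).length = L.length := by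
          rw [hp.length_eq]
          rfl
        rw [← hn, e4]
        omega
      · refine ⟨L, hT, hL, ?_, ?_⟩
        · by_contra hnp
          obtain ⟨a, b, L', hp, hab⟩ := exists_of_not_pairwise hnp
          exact hnc a b L' hp (not_not.1 hab)
        · intro f hf g hg hf2 hg2
          by_contra hne
          exact hbad2 ⟨f, hf, g, hg, hf2, hg2, hne⟩

theorem exists_dec {m : ℕ} (T : End F (Fin m → F)) : ∃ L : List F[X], Dec L T ∧
    (∀ f ∈ L, f.Monic ∧ 1 ≤ f.natDegree) ∧ L.Pairwise (fun f g => ¬ IsCoprime f g) ∧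
    (∀ f ∈ L, ∀ g ∈ L, f.natDegree = 2 → g.natDegree = 2 → f = g) := by
  obtain ⟨M, hM, n, c, hc, ψ, hψ⟩ := Cfsg.Agent.H171.ElemDiv.exists_isED T
  have hgood : ∀ i, (c i).1.Monic ∧ Irreducible (c i).1 ∧ 1 ≤ (c i).2 := by
    intro i
    refine hM (c i) ?_
    rw [← hc]
    exact Multiset.mem_map_of_mem c (Finset.mem_univ i)
  have h1 := DecV.dec (decV_family n c (fun i => (hgood i).1) T ψ hψ)
  refine exists_best _ _ h1 ?_ rfl
  intro f hf
  obtain ⟨i, rfl⟩ := (List.mem_ofFn' _ _).1 hf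
  obtain ⟨h2, h3, h4⟩ := hgood i
  refine ⟨h2.pow _, ?_⟩
  rw [h2.natDegree_pow]
  exact Nat.mul_pos h4 h3.natDegree_pos

end Cfsg.Agent.H269.CovDec
end

-- part: H446/CovReal
section
/-!
# Real elements of `SL₄`, determinant one (task R of S2483, helper446)
-/

set_option autoImplicit false

namespace Cfsg.Agent.H446.CovReal

open Module Polynomial Cfsg.Agent.H166.Cov

universe u

variable {F : Type u} [Field F] {V W U : Type u} [AddCommGroup V] [Module F V] [AddCommGroup W] [Module F W]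
  [AddCommGroup U] [Module F U]

/-- a recurrence of length 4 -/
def Rec (c₃ c₂ c₁ c₀ : F) (S : End F V) : Prop := S ^ 4 = c₃ • S ^ 3 + c₂ • S ^ 2 + c₁ • S + c₀ • 1

theorem rec_of_charpoly [FiniteDimensional F V] {T : End F V} {a b : F}
    (hc : LinearMap.charpoly T = (X ^ 2 - C a * X + C b) ^ 2) :
    Rec (2 * a) (-(a ^ 2 + 2 * b)) (2 * a * b) (-b ^ 2) T := by
  have h1 := LinearMap.aeval_self_charpoly T
  have key : ∀ c₃ c₂ c₁ c₀ : F, aeval T (X ^ 4 - C c₃ * X ^ 3 - C c₂ * X ^ 2 - C c₁ * X - C c₀ : F[X]) = 0 →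
      Rec c₃ c₂ c₁ c₀ T := by
    intro c₃ c₂ c₁ c₀ h
    simp only [map_sub, map_mul, aeval_X, map_pow, aeval_C, Algebra.algebraMap_eq_smul_one, smul_mul_assoc,
      one_mul] at h
    unfold Rec
    have h3 : T ^ 4 = T ^ 4 - (T ^ 4 - c₃ • T ^ 3 - c₂ • T ^ 2 - c₁ • T - c₀ • 1) := by rw [h, sub_zero]
    rw [h3]
    abel
  apply key
  rw [← h1, hc]
  congr 1
  simp only [map_mul, map_add, map_pow, map_ofNat, map_neg]
  ring

theorem det_eq [FiniteDimensional F V] (hV : finrank F V = 4) {T : End F V} {a b : F}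
    (hc : LinearMap.charpoly T = (X ^ 2 - C a * X + C b) ^ 2) : LinearMap.det T = b ^ 2 := by
  rw [LinearMap.det_eq_sign_charpoly_coeff, hV, hc, coeff_zero_eq_eval_zero]
  simp only [eval_pow, eval_add, eval_sub, eval_mul, eval_X, eval_C]
  ring

/-- the first four values of the sequence `φ (S ^ i x)` -/
def Ph (φ : V →ₗ[F] F) (S : End F V) : V →ₗ[F] (Fin 4 → F) := LinearMap.pi fun i => φ ∘ₗ (S ^ (i : ℕ))

theorem Ph_apply (φ : V →ₗ[F] F) (S : End F V) (x : V) (i : Fin 4) : Ph φ S x i = φ ((S ^ (i : ℕ)) x) := rfl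

theorem Ph_eq {φ : V →ₗ[F] F} {S S' : End F V} {c₃ c₂ c₁ c₀ : F} (h : Rec c₃ c₂ c₁ c₀ S) (h' : Rec c₃ c₂ c₁ c₀ S')
    {x y : V} (hxy : Ph φ S x = Ph φ S' y) : Ph φ S (S x) = Ph φ S' (S' y) := by
  have hi : ∀ i < 4, φ ((S ^ i) x) = φ ((S' ^ i) y) := fun i hi => congrFun hxy ⟨i, hi⟩
  have h0 := hi 0 (by norm_num)
  have h1 := hi 1 (by norm_num)
  have h2 := hi 2 (by norm_num)
  have h3 := hi 3 (by norm_num)
  have h4 : φ ((S ^ 4) x) = φ ((S' ^ 4) y) := by
    rw [h, h']
    simp only [LinearMap.add_apply, LinearMap.smul_apply, map_add, map_smul, Module.End.one_apply]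
    rw [h2, h3]
    simp only [pow_zero, pow_one, Module.End.one_apply] at h0 h1
    rw [h0, h1]
  have hs : ∀ (R : End F V) (k : ℕ) (z : V), (R ^ k) (R z) = (R ^ (k + 1)) z := by
    intro R k z
    rw [pow_succ]
    rfl
  ext i
  rw [Ph_apply, Ph_apply, hs, hs]
  fin_cases i
  · exact h1
  · exact h2
  · exact h3
  · exact h4

theorem ker_Ph_invariant {φ : V →ₗ[F] F} {S : End F V} {c₃ c₂ c₁ c₀ : F} (h : Rec c₃ c₂ c₁ c₀ S) {x : V}
    (hx : Ph φ S x = 0) : Ph φ S (S x) = 0 := by
  have h1 := Ph_eq (x := x) (y := 0) (φ := φ) h h (by rw [hx, map_zero])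
  rw [h1, map_zero, map_zero]

theorem Ph_injective {φ : V →ₗ[F] F} {S T : End F V} (hφ : Obs φ T) {c₃ c₂ c₁ c₀ : F} (h : Rec c₃ c₂ c₁ c₀ S)
    {p : F[X]} (hT : T = aeval S p) : Function.Injective (Ph φ S) := by
  rw [← LinearMap.ker_eq_bot]
  apply hφ
  · intro x hx
    have h1 := congrFun (LinearMap.mem_ker.1 hx) 0
    rwa [Ph_apply] at h1
  · intro x hx
    have key : ∀ q : F[X], ∀ y ∈ LinearMap.ker (Ph φ S), aeval S q y ∈ LinearMap.ker (Ph φ S) := by
      intro q
      induction q using Polynomial.induction_on' with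
      | add q₁ q₂ h₁ h₂ =>
        intro y hy
        rw [map_add]
        exact Submodule.add_mem _ (h₁ y hy) (h₂ y hy)
      | monomial k c =>
        intro y hy
        rw [aeval_monomial, Algebra.algebraMap_eq_smul_one, smul_mul_assoc, one_mul]
        apply Submodule.smul_mem
        induction k with
        | zero => rw [pow_zero]; exact hy
        | succ k ih =>
          rw [pow_succ']
          exact LinearMap.mem_ker.2 (ker_Ph_invariant h (LinearMap.mem_ker.1 ih))
    rw [hT]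
    exact key p x hx

/-- the intertwining map -/
theorem exists_equiv [FiniteDimensional F V] (hV : finrank F V = 4) {φ : V →ₗ[F] F} {T T' : End F V} (hφ : Obs φ T)
    {c₃ c₂ c₁ c₀ : F} (h : Rec c₃ c₂ c₁ c₀ T) (h' : Rec c₃ c₂ c₁ c₀ T') {p : F[X]} (hT : T = aeval T' p) :
    ∃ e : V ≃ₗ[F] V, (∀ x, Ph φ T' (e x) = Ph φ T x) ∧ ∀ x, e (T x) = T' (e x) := by
  have i1 : Function.Injective (Ph φ T) := Ph_injective hφ h (p := X) (by rw [aeval_X])
  have i2 : Function.Injective (Ph φ T') := Ph_injective hφ h' hT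
  have hd : finrank F V = finrank F (Fin 4 → F) := by rw [hV, finrank_fin_fun]
  let e1 := LinearEquiv.ofInjectiveOfFinrankEq (Ph φ T) i1 hd
  let e2 := LinearEquiv.ofInjectiveOfFinrankEq (Ph φ T') i2 hd
  have he : ∀ x, Ph φ T' ((e1.trans e2.symm) x) = Ph φ T x := by
    intro x
    have : e2 (e2.symm (e1 x)) = e1 x := e2.apply_symm_apply _
    exact this
  refine ⟨e1.trans e2.symm, he, ?_⟩
  intro x
  apply i2
  rw [he]
  exact Ph_eq h h' (he x).symm

theorem sims_real [FiniteDimensional F V] (hV : finrank F V = 4) {T : End F V} (hT : Coc T) {a b : F} (hb : b ≠ 0)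
    (hc : LinearMap.charpoly T = (X ^ 2 - C a * X + C b) ^ 2) :
    ∃ T' : End F V, SimS T T' ∧ T * T' = b • (1 : End F V) := by
  obtain ⟨φ, hφ⟩ := hT
  have hrec := rec_of_charpoly hc
  have hdet := det_eq hV hc
  set c₃ := 2 * a with h3
  set c₂ := -(a ^ 2 + 2 * b) with h2
  set c₁ := 2 * a * b with h1
  -- the inverse
  set T' : End F V := -(b⁻¹ • T ^ 3) + (b⁻¹ * c₃) • T ^ 2 + (b⁻¹ * c₂) • T + (b⁻¹ * c₁) • 1 with hT'
  have hTT' : T * T' = b • (1 : End F V) := by
    have e1 : T * T' = b⁻¹ • (-(T ^ 4) + c₃ • T ^ 3 + c₂ • T ^ 2 + c₁ • T) := by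
      rw [hT']
      simp only [mul_add, mul_neg, mul_smul_comm, mul_one, smul_add, smul_neg, ← pow_succ', mul_smul, ← pow_two]
    rw [e1, hrec]
    have e2 : -(c₃ • T ^ 3 + c₂ • T ^ 2 + c₁ • T + (-b ^ 2) • (1 : End F V)) + c₃ • T ^ 3 + c₂ • T ^ 2 + c₁ • T =
        b ^ 2 • 1 := by
      module
    rw [e2, ← mul_smul]
    congr 1
    field_simp
  have hT'T : T' * T = b • (1 : End F V) := by
    rw [← hTT', hT']
    simp only [mul_add, add_mul, mul_neg, neg_mul, mul_smul_comm, smul_mul_assoc, mul_one, one_mul, ← pow_succ',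
      ← pow_succ, ← pow_two]
  have hcomm : Commute T T' := by
    show T * T' = T' * T
    rw [hTT', hT'T]
  have hpow : ∀ k : ℕ, T ^ k * T' ^ k = b ^ k • (1 : End F V) := by
    intro k
    rw [← hcomm.mul_pow, hTT', _root_.smul_pow, one_pow]
  have hinj : Function.Injective T := by
    intro x y hxy
    have h5 : (T' * T) x = (T' * T) y := by
      rw [Module.End.mul_apply, Module.End.mul_apply, hxy]
    rw [hT'T] at h5
    exact smul_right_injective V hb h5
  have hrec' : Rec c₃ c₂ c₁ (-b ^ 2) T' := by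
    unfold Rec
    have hinj4 : Function.Injective ((T ^ 4 : End F V) : V → V) := by
      rw [Module.End.coe_pow]
      exact hinj.iterate 4
    have e4 : T ^ 4 * (T' ^ 4) = T ^ 4 * (c₃ • T' ^ 3 + c₂ • T' ^ 2 + c₁ • T' + (-b ^ 2) • 1) := by
      have f3 : T ^ 4 * T' ^ 3 = b ^ 3 • T := by
        rw [pow_succ', mul_assoc, hpow 3, mul_smul_comm, mul_one]
      have f2 : T ^ 4 * T' ^ 2 = b ^ 2 • T ^ 2 := by
        rw [show T ^ 4 = T ^ 2 * T ^ 2 by rw [← pow_add], mul_assoc, hpow 2, mul_smul_comm, mul_one]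
      have f1 : T ^ 4 * T' = b • T ^ 3 := by
        rw [pow_succ, mul_assoc, hTT', mul_smul_comm, mul_one]
      rw [hpow 4, mul_add, mul_add, mul_add, mul_smul_comm, mul_smul_comm, mul_smul_comm, mul_smul_comm, f3, f2, f1,
        mul_one, hrec]
      rw [h3, h1, h2]
      module
    ext x
    apply hinj4
    exact LinearMap.congr_fun e4 x
  -- `T` is a polynomial in `T'`
  have hp : T = aeval T' (-C b⁻¹ * X ^ 3 + C (b⁻¹ * c₃) * X ^ 2 + C (b⁻¹ * c₂) * X + C (b⁻¹ * c₁)) := by
    have e0 : aeval T' (-C b⁻¹ * X ^ 3 + C (b⁻¹ * c₃) * X ^ 2 + C (b⁻¹ * c₂) * X + C (b⁻¹ * c₁)) =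
        -(b⁻¹ • T' ^ 3) + (b⁻¹ * c₃) • T' ^ 2 + (b⁻¹ * c₂) • T' + (b⁻¹ * c₁) • 1 := by
      simp only [map_add, map_mul, map_neg, aeval_C, map_pow, aeval_X, Algebra.algebraMap_eq_smul_one,
        smul_mul_assoc, one_mul, neg_mul]
      module
    rw [e0]
    have hinj' : Function.Injective ((T' : End F V) : V → V) := by
      intro x y hxy
      have h5 : (T * T') x = (T * T') y := by
        rw [Module.End.mul_apply, Module.End.mul_apply, hxy]
      rw [hTT'] at h5
      exact smul_right_injective V hb h5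
    have e5 : T' * T = T' * (-(b⁻¹ • T' ^ 3) + (b⁻¹ * c₃) • T' ^ 2 + (b⁻¹ * c₂) • T' + (b⁻¹ * c₁) • 1) := by
      have e6 : T' * (-(b⁻¹ • T' ^ 3) + (b⁻¹ * c₃) • T' ^ 2 + (b⁻¹ * c₂) • T' + (b⁻¹ * c₁) • 1) =
          b⁻¹ • (-(T' ^ 4) + c₃ • T' ^ 3 + c₂ • T' ^ 2 + c₁ • T') := by
        simp only [mul_add, mul_neg, mul_smul_comm, mul_one, smul_add, smul_neg, ← pow_succ', mul_smul, ← pow_two]
      rw [e6, hrec', hT'T]
      have e2 : -(c₃ • T' ^ 3 + c₂ • T' ^ 2 + c₁ • T' + (-b ^ 2) • (1 : End F V)) + c₃ • T' ^ 3 + c₂ • T' ^ 2 +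
          c₁ • T' = b ^ 2 • 1 := by
        module
      rw [e2, ← mul_smul]
      congr 1
      field_simp
    ext x
    apply hinj'
    exact LinearMap.congr_fun e5 x
  obtain ⟨e, he1, he2⟩ := exists_equiv hV hφ hrec hrec' hp
  refine ⟨T', ⟨e, ?_, he2⟩, hTT'⟩
  -- the determinant
  let B : Basis (Fin 4) F V := finBasisOfFinrankEq F V hV
  let R : End F V → Matrix (Fin 4) (Fin 4) F := fun S => LinearMap.toMatrix B (Pi.basisFun F (Fin 4)) (Ph φ S)
  have hRe : R T' * LinearMap.toMatrix B B (e : V →ₗ[F] V) = R T := by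
    show LinearMap.toMatrix B (Pi.basisFun F (Fin 4)) (Ph φ T') * LinearMap.toMatrix B B (e : V →ₗ[F] V) =
      LinearMap.toMatrix B (Pi.basisFun F (Fin 4)) (Ph φ T)
    rw [← LinearMap.toMatrix_comp]
    congr 1
    exact LinearMap.ext he1
  have hdetT : (R T).det ≠ 0 := by
    have i1 : Function.Injective (Ph φ T) := Ph_injective hφ hrec (p := X) (by rw [aeval_X])
    have hd : finrank F V = finrank F (Fin 4 → F) := by rw [hV, finrank_fin_fun]
    exact ((LinearEquiv.ofInjectiveOfFinrankEq (Ph φ T) i1 hd).isUnit_det B (Pi.basisFun F (Fin 4))).ne_zero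
  have hRT : (R T').det = (R T).det := by
    -- reverse the rows
    have h6 : ((R T').submatrix (Fin.revPerm : Equiv.Perm (Fin 4)) id) * LinearMap.toMatrix B B (T ^ 3) =
        Matrix.diagonal (fun i : Fin 4 => b ^ (3 - (i : ℕ))) * R T := by
      ext i j
      rw [Matrix.diagonal_mul]
      have h7 : ((R T').submatrix (Fin.revPerm : Equiv.Perm (Fin 4)) id) * LinearMap.toMatrix B B (T ^ 3) =
          (R T' * LinearMap.toMatrix B B (T ^ 3)).submatrix (Fin.revPerm : Equiv.Perm (Fin 4)) id := by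
        rfl
      have h8 : R T' * LinearMap.toMatrix B B (T ^ 3) =
          LinearMap.toMatrix B (Pi.basisFun F (Fin 4)) (Ph φ T' ∘ₗ (T ^ 3 : End F V)) := by
        rw [LinearMap.toMatrix_comp B B]
      rw [h7, h8, Matrix.submatrix_apply, LinearMap.toMatrix_apply, id, Pi.basisFun_repr, LinearMap.comp_apply,
        Ph_apply]
      show _ = b ^ (3 - (i : ℕ)) * LinearMap.toMatrix B (Pi.basisFun F (Fin 4)) (Ph φ T) i j
      rw [LinearMap.toMatrix_apply, Pi.basisFun_repr, Ph_apply]
      have h9 : (T' ^ (3 - (i : ℕ))) * T ^ 3 = b ^ (3 - (i : ℕ)) • T ^ (i : ℕ) := by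
        have : T ^ 3 = T ^ (3 - (i : ℕ)) * T ^ (i : ℕ) := by
          rw [← pow_add]
          congr 1
          omega
        rw [this, ← mul_assoc, ← hcomm.symm.mul_pow, hT'T, _root_.smul_pow, one_pow, smul_mul_assoc, one_mul]
      have h10 : ((Fin.revPerm : Equiv.Perm (Fin 4)) i : ℕ) = 3 - (i : ℕ) := by
        rw [Fin.revPerm_apply, Fin.val_rev]
        omega
      rw [h10]
      have h11 := LinearMap.congr_fun h9 (B j)
      rw [Module.End.mul_apply, LinearMap.smul_apply] at h11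
      rw [h11, map_smul, smul_eq_mul]
    have h7 := congrArg Matrix.det h6
    rw [Matrix.det_mul, Matrix.det_mul, Matrix.det_permute, Matrix.det_diagonal, LinearMap.det_toMatrix, map_pow,
      hdet] at h7
    have h8 : Equiv.Perm.sign (Fin.revPerm : Equiv.Perm (Fin 4)) = 1 := by decide
    rw [h8] at h7
    have h9 : ∏ i : Fin 4, b ^ (3 - (i : ℕ)) = b ^ 6 := by
      rw [Fin.prod_univ_four]
      simp only [Fin.val_zero, Fin.val_one, Fin.val_two]
      norm_num
      ring
    rw [h9] at h7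
    have h10 : b ^ 6 ≠ 0 := pow_ne_zero _ hb
    apply mul_left_cancel₀ h10
    rw [← h7]
    push_cast
    ring
  have h12 := congrArg Matrix.det hRe
  rw [Matrix.det_mul, hRT, LinearMap.det_toMatrix] at h12
  exact mul_left_cancel₀ hdetT (h12.trans (mul_one _).symm)

/-- second statement -/
theorem sims_sq_zero [FiniteDimensional F V] (hV : finrank F V = 4) {N : End F V} (hN : N * N = 0)
    (hr : finrank F (LinearMap.range N) = 2) (l : F) : SimS (l • (1 + N)) (l • (1 - N)) := by
  have hrn := LinearMap.finrank_range_add_finrank_ker N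
  rw [hr, hV] at hrn
  have hk : finrank F (LinearMap.ker N) = 2 := by omega
  have hNk : ∀ x, N x ∈ LinearMap.ker N := fun x => LinearMap.mem_ker.2 (LinearMap.congr_fun hN x)
  obtain ⟨D, hD⟩ := Submodule.exists_isCompl (LinearMap.ker N)
  let f := Submodule.prodEquivOfIsCompl (LinearMap.ker N) D hD
  let e₀ : ((LinearMap.ker N) × D) ≃ₗ[F] ((LinearMap.ker N) × D) :=
    LinearEquiv.prodCongr (LinearEquiv.neg F) (LinearEquiv.refl F D)
  let e : V ≃ₗ[F] V := (f.symm.trans e₀).trans f
  have hk' : ∀ x ∈ LinearMap.ker N, e x = -x := by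
    intro x hx
    show f (e₀ (f.symm x)) = -x
    have h1 : f.symm x = (⟨x, hx⟩, 0) := Submodule.prodEquivOfIsCompl_symm_apply_left _ _ hD ⟨x, hx⟩
    rw [h1]
    show f (-⟨x, hx⟩, 0) = -x
    rw [Submodule.coe_prodEquivOfIsCompl']
    simp
  have hd' : ∀ x ∈ D, e x = x := by
    intro x hx
    show f (e₀ (f.symm x)) = x
    have h1 : f.symm x = (0, ⟨x, hx⟩) := Submodule.prodEquivOfIsCompl_symm_apply_right _ _ hD ⟨x, hx⟩
    rw [h1]
    show f (-0, ⟨x, hx⟩) = x
    rw [Submodule.coe_prodEquivOfIsCompl']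
    simp
  refine ⟨e, ?_, ?_⟩
  · have h1 : (e : V →ₗ[F] V) = ((f : ((LinearMap.ker N) × D) →ₗ[F] V) ∘ₗ
        (e₀ : ((LinearMap.ker N) × D) →ₗ[F] ((LinearMap.ker N) × D)) ∘ₗ
        (f.symm : V →ₗ[F] ((LinearMap.ker N) × D))) := rfl
    rw [h1, LinearMap.det_conj]
    have h2 : (e₀ : ((LinearMap.ker N) × D) →ₗ[F] ((LinearMap.ker N) × D)) =
        LinearMap.prodMap ((-1 : F) • LinearMap.id) LinearMap.id := by
      ext x <;> simp [e₀]
    rw [h2, LinearMap.det_prodMap, LinearMap.det_smul, hk, LinearMap.det_id, LinearMap.det_id]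
    norm_num
  · intro x
    obtain ⟨k, hkk, d, hdd, rfl⟩ : ∃ k ∈ LinearMap.ker N, ∃ d ∈ D, k + d = x := by
      have : x ∈ LinearMap.ker N ⊔ D := by rw [hD.sup_eq_top]; trivial
      exact Submodule.mem_sup.1 this
    have hk0 : N k = 0 := LinearMap.mem_ker.1 hkk
    have hN2 : e (N d) = -N d := hk' _ (hNk d)
    simp only [LinearMap.smul_apply, LinearMap.add_apply, LinearMap.sub_apply, Module.End.one_apply, map_add, map_smul,
      hk' k hkk, hd' d hdd, hk0, hN2, map_neg, map_zero]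
    module

end Cfsg.Agent.H446.CovReal
end

-- part: H446/CovPsl
section
/-!
# From the special linear group to `PSL` (task S of S2483, helper446)
-/

set_option autoImplicit false

namespace Cfsg.Agent.H446.CovPsl

open Module Polynomial Cfsg.Agent.H166.Cov

universe u

open Matrix in
theorem mk_eq_of_smul {F : Type u} [Field F] {n : ℕ} {A B : SpecialLinearGroup (Fin n) F} {z : F}
    (h : (A : Matrix (Fin n) (Fin n) F) = z • (B : Matrix (Fin n) (Fin n) F)) :
    (QuotientGroup.mk A : ProjectiveSpecialLinearGroup (Fin n) F) = QuotientGroup.mk B := by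
  symm
  rw [QuotientGroup.eq, Matrix.SpecialLinearGroup.mem_center_iff]
  have h1 : ((B⁻¹ * A : SpecialLinearGroup (Fin n) F) : Matrix (Fin n) (Fin n) F) = scalar (Fin n) z := by
    have e1 : ((B⁻¹ * A : SpecialLinearGroup (Fin n) F) : Matrix (Fin n) (Fin n) F) =
        (B⁻¹ : SpecialLinearGroup (Fin n) F).1 * A.1 := rfl
    have e2 : (B⁻¹ : SpecialLinearGroup (Fin n) F).1 * B.1 = 1 := congrArg Subtype.val (inv_mul_cancel B)
    rw [e1, h, mul_smul_comm, e2, smul_one_eq_diagonal]
    rfl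
  refine ⟨z, ?_, h1.symm⟩
  have h2 := (B⁻¹ * A).2
  change ((B⁻¹ * A : SpecialLinearGroup (Fin n) F) : Matrix (Fin n) (Fin n) F).det = 1 at h2
  rw [h1] at h2
  simpa using h2

theorem upper_of {F : Type u} [Field F] [Fintype F] (n : ℕ) (hn : 3 ≤ n)
    (H : ∀ T g : End F (Fin n → F), LinearMap.det T = 1 → NS T → LinearMap.det g = 1 →
      ∃ z : F, z ≠ 0 ∧ HPS T n (z • g)) :
    ∀ x : Matrix.ProjectiveSpecialLinearGroup (Fin n) F, x ≠ 1 → ∀ g : Matrix.ProjectiveSpecialLinearGroup (Fin n) F,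
      ∃ f : Fin n → Matrix.ProjectiveSpecialLinearGroup (Fin n) F, g = (List.ofFn fun i => f i * x * (f i)⁻¹).prod := by
  intro x hx g
  obtain ⟨X, rfl⟩ := QuotientGroup.mk_surjective x
  obtain ⟨A, rfl⟩ := QuotientGroup.mk_surjective g
  obtain ⟨z, hz, L, hL, hS, hP⟩ := H (Matrix.toLin' X.1) (Matrix.toLin' A.1) (by rw [LinearMap.det_toLin', X.2])
    (by
      intro c hc
      apply hx
      have h1 : (X : Matrix (Fin n) (Fin n) F) = c • ((1 : Matrix.SpecialLinearGroup (Fin n) F) : Matrix (Fin n) (Fin n) F) := by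
        apply Matrix.toLin'.injective
        rw [map_smul, Matrix.SpecialLinearGroup.coe_one, Matrix.toLin'_one]
        exact hc
      exact mk_eq_of_smul h1) (by rw [LinearMap.det_toLin', A.2])
  -- the conjugating matrices
  have hM : ∀ i : Fin n, ∃ M : Matrix.SpecialLinearGroup (Fin n) F,
      Matrix.toLin' (M * X * M⁻¹ : Matrix.SpecialLinearGroup (Fin n) F).1 = L.get (Fin.cast hL.symm i) := by
    intro i
    obtain ⟨e, he, hx⟩ := hS _ (L.get_mem (Fin.cast hL.symm i))
    let M : Matrix.SpecialLinearGroup (Fin n) F :=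
      ⟨LinearMap.toMatrix' (e : (Fin n → F) →ₗ[F] (Fin n → F)), by
        rw [LinearMap.det_toMatrix', he]⟩
    refine ⟨M, ?_⟩
    have h1 : Matrix.toLin' (M : Matrix (Fin n) (Fin n) F) = (e : (Fin n → F) →ₗ[F] (Fin n → F)) := by
      exact Matrix.toLin'_toMatrix' _
    have h2 : Matrix.toLin' (M * X : Matrix.SpecialLinearGroup (Fin n) F).1 = L.get (Fin.cast hL.symm i) * Matrix.toLin' M.1 := by
      have h3 : (M * X : Matrix.SpecialLinearGroup (Fin n) F).1 = M.1 * X.1 := rfl
      rw [h3, Matrix.toLin'_mul, h1]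
      exact LinearMap.ext fun v => hx v
    have h4 : (M * X * M⁻¹ : Matrix.SpecialLinearGroup (Fin n) F).1 = (M * X : Matrix.SpecialLinearGroup (Fin n) F).1 * (M⁻¹).1 := rfl
    rw [h4, Matrix.toLin'_mul, h2, ← Module.End.mul_eq_comp, mul_assoc, Module.End.mul_eq_comp (Matrix.toLin' _) (Matrix.toLin' _), ← Matrix.toLin'_mul]
    have h5 : M.1 * (M⁻¹).1 = 1 := by
      have := congrArg Subtype.val (mul_inv_cancel M)
      exact this
    rw [h5, Matrix.toLin'_one]
    rfl
  choose M hM using hM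
  refine ⟨fun i => QuotientGroup.mk (M i), ?_⟩
  have h1 : (List.ofFn fun i => (QuotientGroup.mk (M i) : Matrix.ProjectiveSpecialLinearGroup (Fin n) F) *
      QuotientGroup.mk X * (QuotientGroup.mk (M i))⁻¹).prod = QuotientGroup.mk (List.ofFn fun i => M i * X * (M i)⁻¹).prod := by
    have h2 : (List.ofFn fun i => (QuotientGroup.mk (M i) : Matrix.ProjectiveSpecialLinearGroup (Fin n) F) *
      QuotientGroup.mk X * (QuotientGroup.mk (M i))⁻¹) =
        (List.ofFn fun i => M i * X * (M i)⁻¹).map (QuotientGroup.mk' (Subgroup.center _)) := by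
      rw [List.map_ofFn]
      rfl
    rw [h2, ← map_list_prod]
    rfl
  rw [h1]
  symm
  apply mk_eq_of_smul (z := z)
  apply Matrix.toLin'.injective
  rw [map_smul, ← hP]
  -- the matrix of the product
  have key : ∀ l : List (Matrix.SpecialLinearGroup (Fin n) F),
      Matrix.toLin' l.prod.1 = (l.map fun B => Matrix.toLin' B.1).prod := by
    intro l
    induction l with
    | nil =>
      simp only [List.prod_nil, List.map_nil]
      exact Matrix.toLin'_one
    | cons B l ih =>
      rw [List.prod_cons, List.map_cons, List.prod_cons, ← ih]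
      exact Matrix.toLin'_mul _ _
  have h6 := key (List.ofFn fun i => M i * X * (M i)⁻¹)
  rw [List.map_ofFn] at h6
  have h7 : (List.ofFn ((fun B : Matrix.SpecialLinearGroup (Fin n) F => Matrix.toLin' B.1) ∘ fun i => M i * X * (M i)⁻¹)) = L := by
    have h8 : ((fun B : Matrix.SpecialLinearGroup (Fin n) F => Matrix.toLin' B.1) ∘ fun i => M i * X * (M i)⁻¹) = fun i => L.get (Fin.cast hL.symm i) :=
      funext hM
    rw [h8]
    apply List.ext_get
    · rw [List.length_ofFn, hL]
    · intro k h1 h2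
      simp
  rw [h7] at h6
  exact h6

end Cfsg.Agent.H446.CovPsl
end

-- part: H166/Cov/Leaf
section
set_option autoImplicit false

namespace Cfsg.Agent.H166.Cov

open Module Polynomial

universe u

variable {F : Type u} [Field F] {V W U : Type u} [AddCommGroup V] [Module F V]
  [AddCommGroup W] [Module F W] [AddCommGroup U] [Module F U]

-- A
theorem exists_pencil [Finite F] (hq : 4 ≤ Nat.card F) [FiniteDimensional F W] [FiniteDimensional F U]
    (hd : finrank F U = finrank F W + 1) (a b : W →ₗ[F] U) (ha : Function.Injective a)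
    (hb : Function.Injective b) :
    ∃ D : W →ₗ[F] U, (∀ S : Submodule F W, (∀ x ∈ S, ∃ y ∈ S, D x = a y) → S = ⊥) ∧
      (∀ S : Submodule F W, (∀ x ∈ S, ∃ y ∈ S, D x = b y) → S = ⊥) :=
  Cfsg.Agent.H158.Pencil.exists_pencil hq hd a b ha hb

-- B
theorem exists_charpoly_add [FiniteDimensional F V] {φ : V →ₗ[F] F} {T : End F V} (h : Obs φ T)
    {f : F[X]} (hf : f.Monic) (hd : f.natDegree = finrank F V) :
    ∃ b : V, LinearMap.charpoly (T + φ.smulRight b) = f :=
  Cfsg.Agent.H216.Pole.exists_charpoly_add h hf hd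

-- C
theorem coc_iff [FiniteDimensional F V] (T : End F V) :
    Coc T ↔ ∃ v : V, ∀ w : V, ∃ p : F[X], aeval T p v = w :=
  Cfsg.Agent.H560.CovC.coc_iff T

theorem Sim.of_coc [FiniteDimensional F V] [FiniteDimensional F W] {S : End F V} {T : End F W}
    (hS : Coc S) (hT : Coc T) (h : LinearMap.charpoly S = LinearMap.charpoly T) : Sim S T :=
  Cfsg.Agent.H560.CovC.Sim.of_coc hS hT h

theorem exists_coc [FiniteDimensional F V] {f : F[X]} (hf : f.Monic) (hd : f.natDegree = finrank F V) :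
    ∃ T : End F V, Coc T ∧ LinearMap.charpoly T = f :=
  Cfsg.Agent.H560.CovC.exists_coc hf hd

-- D
theorem charpoly_up [FiniteDimensional F U] [FiniteDimensional F W] (P : End F U) (R : W →ₗ[F] U)
    (T : End F W) : LinearMap.charpoly (up P R T) = LinearMap.charpoly P * LinearMap.charpoly T :=
  Cfsg.Agent.H560.CovD.charpoly_up P R T

theorem Coc.up [FiniteDimensional F U] [FiniteDimensional F W] {P : End F U} (R : W →ₗ[F] U)
    {T : End F W} (hP : Coc P) (hT : Coc T) (h : IsCoprime (LinearMap.charpoly P) (LinearMap.charpoly T)) :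
    Coc (up P R T) :=
  Cfsg.Agent.H560.CovD.Coc.up R hP hT h

-- C2
theorem exists_up [FiniteDimensional F V] {T : End F V} (hT : Coc T) {f g : F[X]} (hf : f.Monic)
    (hg : g.Monic) (h : LinearMap.charpoly T = f * g) :
    ∃ (P : End F (Fin f.natDegree → F)) (R : (Fin g.natDegree → F) →ₗ[F] (Fin f.natDegree → F))
      (T' : End F (Fin g.natDegree → F)), Sim T (Cov.up P R T') ∧ Coc P ∧ LinearMap.charpoly P = f ∧
        Coc T' ∧ LinearMap.charpoly T' = g :=
  Cfsg.Agent.H560.CovD.exists_up hT hf hg h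

-- E
theorem exists_rootless [Finite F] {d : ℕ} (hd : 2 ≤ d) {e : F} (he : e ≠ 0) :
    ∃ p : F[X], p.Monic ∧ p.natDegree = d ∧ p.coeff 0 = e ∧ ∀ x, p.eval x ≠ 0 :=
  Cfsg.Agent.H151.Cov.Poly.exists_rootless hd he

theorem exists_nice [Finite F] (hq : 4 ≤ Nat.card F) {n : ℕ} (hn : 2 ≤ n) {δ : F} (hδ : δ ≠ 0) (ξ : F) :
    ∃ (ν : F) (p : F[X]), ν ≠ 0 ∧ ν ≠ ξ ∧ p.Monic ∧ p.natDegree = n - 1 ∧ p.eval ν ≠ 0 ∧
      ((X - C ν) * p).coeff 0 = (-1) ^ n * δ ∧
      ∀ r : F[X], (∀ x, r.eval x ≠ 0) → IsCoprime ((X - C ν) * p) r :=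
  Cfsg.Agent.H151.Cov.Poly.exists_nice hq hn hδ ξ

theorem exists_pair [Finite F] (hq : 4 ≤ Nat.card F) {n₁ n₂ : ℕ} (h₁ : 2 ≤ n₁) (h₂ : 2 ≤ n₂)
    (h : ¬ (n₁ = 2 ∧ n₂ = 2)) {δ₁ δ₂ : F} (hδ₁ : δ₁ ≠ 0) (hδ₂ : δ₂ ≠ 0) :
    ∃ (ν₁ ν₂ : F) (p₁ p₂ : F[X]), ν₁ ≠ ν₂ ∧ p₁.Monic ∧ p₁.natDegree = n₁ - 1 ∧ p₁.eval ν₁ ≠ 0 ∧
      ((X - C ν₁) * p₁).coeff 0 = (-1) ^ n₁ * δ₁ ∧ p₂.Monic ∧ p₂.natDegree = n₂ - 1 ∧ p₂.eval ν₂ ≠ 0 ∧
      ((X - C ν₂) * p₂).coeff 0 = (-1) ^ n₂ * δ₂ ∧ IsCoprime ((X - C ν₁) * p₁) ((X - C ν₂) * p₂) :=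
  Cfsg.Agent.H151.Cov.Poly.exists_pair hq h₁ h₂ h hδ₁ hδ₂

-- F
theorem elliptic [Finite F] [FiniteDimensional F V] (hV : finrank F V = 2) {M T : End F V}
    (hM : ∀ x, (LinearMap.charpoly M).eval x ≠ 0) (hT : NS T)
    (hdet : LinearMap.det M = LinearMap.det T ^ 2) : HP T 2 M :=
  Cfsg.Agent.H131.CovElliptic.elliptic hV hM hT hdet

-- G
theorem transvections [Finite F] (hq : 4 ≤ Nat.card F) [FiniteDimensional F V] (hn : 3 ≤ finrank F V)
    {φ : V →ₗ[F] F} {z : V} (hφ : φ ≠ 0) (hz : z ≠ 0) (hφz : φ z = 0) {g : End F V} (hg : NS g)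
    (hdet : LinearMap.det g = 1) : HP (1 + φ.smulRight z) (finrank F V) g :=
  Cfsg.Agent.H783.CovG.transvections hq hn hφ hz hφz hg hdet

-- I
theorem Dec.perm {L L' : List F[X]} (h : L.Perm L') {m : ℕ} {T : End F (Fin m → F)} (hT : Dec L T) :
    Dec L' T :=
  Cfsg.Agent.H269.CovDec.Dec.perm h hT

theorem Dec.sim {L : List F[X]} {m : ℕ} {S T : End F (Fin m → F)} (h : Sim S T) (hS : Dec L S) :
    Dec L T :=
  Cfsg.Agent.H269.CovDec.Dec.sim h hS

theorem exists_dec {m : ℕ} (T : End F (Fin m → F)) : ∃ L : List F[X], Dec L T ∧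
    (∀ f ∈ L, f.Monic ∧ 1 ≤ f.natDegree) ∧ L.Pairwise (fun f g => ¬ IsCoprime f g) ∧
    (∀ f ∈ L, ∀ g ∈ L, f.natDegree = 2 → g.natDegree = 2 → f = g) :=
  Cfsg.Agent.H269.CovDec.exists_dec T

-- J
theorem Full.of_nice [FiniteDimensional F V] {ν : F} {T : End F V} (h : Nice ν T) : Full T :=
  Cfsg.Agent.H71.CovFull.Full.of_nice h

theorem Full.of_irreducible [Finite F] [FiniteDimensional F V] {T : End F V}
    (h : Irreducible (LinearMap.charpoly T)) : Full T :=
  Cfsg.Agent.H71.CovFull.Full.of_irreducible h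

theorem Full.prodMap_left [FiniteDimensional F U] [FiniteDimensional F W] {P : End F U} (T : End F W)
    (h : Full P) : Full (P.prodMap T) :=
  Cfsg.Agent.H71.CovFull.Full.prodMap_left T h

theorem Full.of_coprime_finrank [FiniteDimensional F U] [FiniteDimensional F W] (P : End F U)
    (T : End F W) (h : (finrank F U).Coprime (finrank F W)) : Full (P.prodMap T) :=
  Cfsg.Agent.H71.CovFull.Full.of_coprime_finrank P T h

theorem Full.sim {S : End F V} {T : End F W} (h : Sim S T) (hS : Full S) : Full T :=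
  Cfsg.Agent.H71.CovFull.Full.sim h hS

theorem Full.hps {T g : End F V} {k : ℕ} (hT : Full T) (h : HP T k g) : HPS T k g :=
  Cfsg.Agent.H71.CovFull.Full.hps hT h

-- K
theorem sim_sub_of_quadratic [Finite F] [FiniteDimensional F V] {T : End F V} {a b : F}
    (hirr : Irreducible (X ^ 2 - C a * X + C b : F[X])) (hT : T * T = a • T - b • 1) :
    Sim T (a • 1 - T) :=
  Cfsg.Agent.H71.CovScal.sim_sub_of_quadratic hirr hT

-- L
theorem scalar_of_diag {n : ℕ} (b : Basis (Fin n) F V) (α : Fin n → F) (T : End F V)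
    (h : ∀ i, T (b i) = α i • b i) : HP T n ((∏ i, α i) • (1 : End F V)) :=
  Cfsg.Agent.H71.CovScal.scalar_of_diag b α T h

-- M
theorem scalar_of_nilp [Finite F] (hq : 4 ≤ Nat.card F) [FiniteDimensional F V] {N : End F V}
    (hN : IsNilpotent N) {n : ℕ} (hn : 2 ≤ n) : HP (1 + N) n (1 : End F V) :=
  Cfsg.Agent.H151.Cov.Nilp.scalar_of_nilp hq hN hn

-- N
theorem scalar_of_irreducible [Finite F] [FiniteDimensional F V] {T : End F V}
    (hirr : Irreducible (LinearMap.charpoly T)) :
    HP T (finrank F V) (LinearMap.det T • (1 : End F V)) :=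
  Cfsg.Agent.H71.CovScal.scalar_of_irreducible hirr

-- O
theorem scalar_of_two {B : End F (Fin 2 → F)} {l : F} 
    (h3 : HP ((l • (1 : End F (Fin 1 → F))).prodMap B) 3 ((l * LinearMap.det B) • (1 : End F ((Fin 1 → F) × (Fin 2 → F)))))
    (m : ℕ) : HP ((l • (1 : End F (Fin m → F))).prodMap B) (m + 2)
      ((l ^ m * LinearMap.det B) • (1 : End F ((Fin m → F) × (Fin 2 → F)))) :=
  Cfsg.Agent.H71.CovScal.scalar_of_two h3 m

end Cfsg.Agent.H166.Cov
namespace Cfsg.Agent.H166.Cov
open Module Polynomial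
universe u
variable {F : Type u} [Field F] {V W U : Type u} [AddCommGroup V] [Module F V]
  [AddCommGroup W] [Module F W] [AddCommGroup U] [Module F U]

theorem lower {F : Type*} [Field F] [Fintype F] (n : ℕ) (hn : 3 ≤ n) : ∃ x : Matrix.ProjectiveSpecialLinearGroup (Fin n) F, x ≠ 1 ∧ ∃ g : Matrix.ProjectiveSpecialLinearGroup (Fin n) F, ∀ f : Fin (n - 1) → Matrix.ProjectiveSpecialLinearGroup (Fin n) F, g ≠ (List.ofFn fun i => f i * x * (f i)⁻¹).prod :=
  Cfsg.Agent.H956.CovLower.lower n hn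
theorem exists_nice_sq_zero [Finite F] (hq : 4 ≤ Nat.card F) [FiniteDimensional F V] {b : ℕ} (hb : 2 ≤ b) (hV : finrank F V = 2 * b) {N : End F V} (hN : N * N = 0) (hr : finrank F (LinearMap.range N) = b) {l : F} (hl : l ≠ 0) : ∃ (M : End F V) (ν : F), Nice ν M ∧ HPS (l • (1 + N)) 2 M :=
  Cfsg.Agent.H12.CovP.exists_nice_sq_zero hq hb hV hN hr hl
theorem hps_three [Finite F] (hq : 4 ≤ Nat.card F) [FiniteDimensional F V] (hV : finrank F V = 3) {T : End F V} {l : F} (hl : l ≠ 0) (hT : Coc T) (hc : LinearMap.charpoly T = (X - C l) ^ 3) {g : End F V} (hg : NS g) (hdet : LinearMap.det g = LinearMap.det T ^ 3) : HPS T 3 g :=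
  Cfsg.Agent.H12.CovQ.hps_three hq hV hl hT hc hg hdet
theorem hps_three_scalar [Finite F] (hq : 4 ≤ Nat.card F) [FiniteDimensional F V] (hV : finrank F V = 3) {T : End F V} {l : F} (hl : l ≠ 0) (hT : Coc T) (hc : LinearMap.charpoly T = (X - C l) ^ 3) : HPS T 3 (l ^ 3 • (1 : End F V)) :=
  Cfsg.Agent.H12.CovQ.hps_three_scalar hq hV hl hT hc
theorem sims_real [FiniteDimensional F V] (hV : finrank F V = 4) {T : End F V} (hT : Coc T) {a b : F} (hb : b ≠ 0) (hc : LinearMap.charpoly T = (X ^ 2 - C a * X + C b) ^ 2) : ∃ T' : End F V, SimS T T' ∧ T * T' = b • (1 : End F V) :=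
  Cfsg.Agent.H446.CovReal.sims_real hV hT hb hc
theorem sims_sq_zero [FiniteDimensional F V] (hV : finrank F V = 4) {N : End F V} (hN : N * N = 0) (hr : finrank F (LinearMap.range N) = 2) (l : F) : SimS (l • (1 + N)) (l • (1 - N)) :=
  Cfsg.Agent.H446.CovReal.sims_sq_zero hV hN hr l
theorem upper_of {F : Type u} [Field F] [Fintype F] (n : ℕ) (hn : 3 ≤ n) (H : ∀ T g : End F (Fin n → F), LinearMap.det T = 1 → NS T → LinearMap.det g = 1 → ∃ z : F, z ≠ 0 ∧ HPS T n (z • g)) : ∀ x : Matrix.ProjectiveSpecialLinearGroup (Fin n) F, x ≠ 1 → ∀ g : Matrix.ProjectiveSpecialLinearGroup (Fin n) F, ∃ f : Fin n → Matrix.ProjectiveSpecialLinearGroup (Fin n) F, g = (List.ofFn fun i => f i * x * (f i)⁻¹).prod :=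
  Cfsg.Agent.H446.CovPsl.upper_of n hn H
end Cfsg.Agent.H166.Cov
end

-- part: H166/Cov/ThmH
section
/-!
# The main factorization theorem
-/

set_option autoImplicit false

namespace Cfsg.Agent.H166.Cov

open Module Polynomial

universe u

variable {F : Type u} [Field F] {V W U : Type u} [AddCommGroup V] [Module F V]
  [AddCommGroup W] [Module F W] [AddCommGroup U] [Module F U]

theorem NS.exists_vec {g : End F V} (hg : NS g) : ∃ v, ∀ c : F, g v ≠ c • v := by
  by_contra hcon
  push Not at hcon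
  obtain ⟨a, ha⟩ := LinearMap.exists_eq_smul_id_of_forall_notLinearIndependent (f := g) (by
    intro v hv
    obtain ⟨c, hc⟩ := hcon v
    have h1 := (LinearIndependent.pair_iff.1 hv) (-c) 1 (by rw [hc, one_smul, neg_smul, neg_add_cancel])
    exact one_ne_zero h1.2)
  exact hg a ha

theorem NS.exists_dual {g : End F V} (hg : NS g) :
    ∃ φ : V →ₗ[F] F, ∀ c : F, φ ∘ₗ g ≠ c • φ := by
  obtain ⟨v, hv⟩ := hg.exists_vec
  have hv0 : v ≠ 0 := by
    rintro rfl
    exact hv 0 (by simp)
  -- a functional vanishing at `v` and not at `g v`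
  have h1 : g v ∉ Submodule.span F {v} := by
    intro h
    obtain ⟨c, hc⟩ := Submodule.mem_span_singleton.1 h
    exact hv c hc.symm
  obtain ⟨φ, hφ1, hφ2⟩ := Submodule.exists_le_ker_of_notMem h1
  refine ⟨φ, fun c hc => hφ1 ?_⟩
  have h2 := LinearMap.congr_fun hc v
  have h3 : φ v = 0 := hφ2 (Submodule.mem_span_singleton_self v)
  rw [LinearMap.comp_apply, LinearMap.smul_apply, h3, smul_zero] at h2
  exact h2

theorem Obs.congr {φ : V →ₗ[F] F} {S T : End F V} (h : Obs φ S) (hST : ∀ x, φ x = 0 → S x = T x) :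
    Obs φ T := fun P h1 h2 => h P h1 fun x hx => by rw [hST x (h1 x hx)]; exact h2 x hx


/-- extension of a partially defined map to an endomorphism with a given characteristic polynomial -/
theorem exists_extend [FiniteDimensional F U] {φ : U →ₗ[F] F} {a D : W →ₗ[F] U}
    (ha : Function.Injective a) (hφ : ∀ x, φ x = 0 ↔ ∃ w, a w = x)
    (hD : ∀ S : Submodule F W, (∀ x ∈ S, ∃ y ∈ S, D x = a y) → S = ⊥) {p : F[X]} (hp : p.Monic)
    (hpd : p.natDegree = finrank F U) :
    ∃ Z : End F U, (∀ w, Z (a w) = D w) ∧ Obs φ Z ∧ LinearMap.charpoly Z = p := by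
  obtain ⟨l, hl⟩ := LinearMap.exists_leftInverse_of_injective a (LinearMap.ker_eq_bot.2 ha)
  have hl' : ∀ w, l (a w) = w := fun w => LinearMap.congr_fun hl w
  have hO : Obs φ (D ∘ₗ l : End F U) := by
    intro S h1 h2
    have h3 := hD (S.comap a) (by
      intro x hx
      have h4 := h2 (a x) hx
      rw [LinearMap.comp_apply, hl'] at h4
      obtain ⟨w, hw⟩ := (hφ _).1 (h1 _ h4)
      exact ⟨w, by rw [Submodule.mem_comap, hw]; exact h4, hw.symm⟩)
    rw [Submodule.eq_bot_iff] at h3 ⊢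
    intro x hx
    obtain ⟨w, rfl⟩ := (hφ _).1 (h1 _ hx)
    rw [h3 w hx, map_zero]
  obtain ⟨b, hb⟩ := exists_charpoly_add hO hp hpd
  refine ⟨_, fun w => ?_, hO.congr (T := D ∘ₗ l + φ.smulRight b) fun x hx => ?_, hb⟩
  · rw [LinearMap.add_apply, LinearMap.comp_apply, hl', LinearMap.smulRight_apply,
      (hφ (a w)).2 ⟨w, rfl⟩, zero_smul, add_zero]
  · rw [LinearMap.add_apply, LinearMap.smulRight_apply, hx, zero_smul, add_zero]

theorem coc_smul_one (c : F) : Coc (c • (1 : End F F)) :=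
  ⟨LinearMap.id, fun S h1 _ => by
    rw [Submodule.eq_bot_iff]
    exact fun x hx => h1 x hx⟩

theorem charpoly_smul_one (c : F) : LinearMap.charpoly (c • (1 : End F F)) = X - C c := by
  rw [← LinearMap.charpoly_toMatrix _ (Basis.singleton Unit F), Matrix.charpoly]
  simp [Matrix.charmatrix, Matrix.det_unique]


theorem det_eq_charpoly [FiniteDimensional F V] (T : End F V) :
    LinearMap.det T = (-1) ^ finrank F V * (LinearMap.charpoly T).coeff 0 :=
  LinearMap.det_eq_sign_charpoly_coeff T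

/-- **The main factorization theorem.** -/
theorem thmH [Finite F] (hq : 4 ≤ Nat.card F) [FiniteDimensional F V] (hn : 2 ≤ finrank F V)
    {g : End F V} (hg : NS g) (hg0 : LinearMap.det g ≠ 0) {ν : F} {p f : F[X]} (hp : p.Monic)
    (hpd : p.natDegree + 1 = finrank F V) (hp0 : p.coeff 0 ≠ 0) (hpν : p.eval ν ≠ 0) (hf : f.Monic)
    (hfd : f.natDegree = finrank F V)
    (hc : (-1) ^ finrank F V * f.coeff 0 =
      LinearMap.det g * ((-1) ^ finrank F V * ((X - C ν) * p).coeff 0)) :
    ∃ (M Y : End F V) (φ : V →ₗ[F] F), Coc M ∧ LinearMap.charpoly M = (X - C ν) * p ∧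
      LinearMap.charpoly Y = f ∧ g * M = Y ∧ Obs φ Y ∧ ∀ x, φ (M x) = ν * φ x := by
  obtain ⟨φ, hφ⟩ := hg.exists_dual
  let e : V ≃ₗ[F] V := LinearMap.equivOfDetNeZero g hg0
  have he : ∀ x, e x = g x := fun x => rfl
  -- the hyperplane
  let H : Submodule F V := LinearMap.ker φ
  have hφ0 : φ ≠ 0 := by
    rintro rfl
    exact hφ 0 (by ext; simp)
  obtain ⟨v, hv⟩ : ∃ v, φ v = 1 := by
    obtain ⟨w, hw⟩ : ∃ w, φ w ≠ 0 := by
      by_contra h
      push Not at h
      exact hφ0 (LinearMap.ext h)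
    exact ⟨(φ w)⁻¹ • w, by rw [map_smul, smul_eq_mul, inv_mul_cancel₀ hw]⟩
  have hHd : finrank F H + 1 = finrank F V := by
    have h1 := LinearMap.finrank_range_add_finrank_ker φ
    have h2 : LinearMap.range φ = ⊤ := LinearMap.range_eq_top.2 fun c => ⟨c • v, by simp [hv]⟩
    rw [h2, finrank_top, finrank_self] at h1
    change 1 + finrank F H = finrank F V at h1
    omega
  let χ : H →ₗ[F] F := (φ ∘ₗ g) ∘ₗ H.subtype
  have hχ : ∀ h : H, χ h = φ (g h) := fun h => rfl
  have hχ0 : χ ≠ 0 := by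
    intro h
    apply hφ (φ (g v))
    ext x
    have h1 : χ ⟨x - φ x • v, by simp [H, hv]⟩ = 0 := by rw [h]; rfl
    rw [hχ] at h1
    simp only [map_sub, map_smul, smul_eq_mul] at h1
    rw [LinearMap.comp_apply, LinearMap.smul_apply, smul_eq_mul, sub_eq_zero.1 h1, mul_comm]
  let K : Submodule F H := LinearMap.ker χ
  have hKd : finrank F H = finrank F K + 1 := by
    have h1 := LinearMap.finrank_range_add_finrank_ker χ
    have h2 : LinearMap.range χ = ⊤ := by
      rw [LinearMap.range_eq_top]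
      exact LinearMap.surjective hχ0
    rw [h2, finrank_top, finrank_self] at h1
    change 1 + finrank F K = finrank F H at h1
    omega
  let b : K →ₗ[F] H := K.subtype
  let a : K →ₗ[F] H := LinearMap.codRestrict H (g ∘ₗ H.subtype ∘ₗ K.subtype) fun k => k.2
  have ha : ∀ k : K, ((a k : H) : V) = g (k : H) := fun k => rfl
  have hainj : Function.Injective a := by
    intro x y h
    have h1 := congrArg (fun z : H => (z : V)) h
    simp only [ha, ← he] at h1
    exact Subtype.ext (Subtype.ext (e.injective h1))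
  obtain ⟨D, hDa, hDb⟩ := exists_pencil hq hKd a b hainj Subtype.val_injective
  -- the map on the hyperplane
  let φ' : H →ₗ[F] F := (φ ∘ₗ (e.symm : V →ₗ[F] V)) ∘ₗ H.subtype
  have hφ' : ∀ h : H, φ' h = φ (e.symm h) := fun h => rfl
  have hker : ∀ x, φ' x = 0 ↔ ∃ w, a w = x := by
    intro x
    constructor
    · intro h
      rw [hφ'] at h
      refine ⟨⟨⟨e.symm x, h⟩, ?_⟩, ?_⟩
      · change φ (g (e.symm x)) = 0
        rw [← he, e.apply_symm_apply]; exact x.2
      · apply Subtype.ext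
        rw [ha]
        change g (e.symm x) = x
        rw [← he, e.apply_symm_apply]
    · rintro ⟨w, rfl⟩
      rw [hφ', ha, ← he, e.symm_apply_apply]
      exact w.1.2
  obtain ⟨Z, hZa, hZO, hZc⟩ := exists_extend (p := p) hainj hker hDa hp (by omega)
  have hZinj : Function.Injective Z := by
    have h1 : LinearMap.det Z ≠ 0 := by
      rw [det_eq_charpoly, hZc]
      exact mul_ne_zero (pow_ne_zero _ (by simp)) hp0
    exact (LinearMap.equivOfDetNeZero Z h1).injective
  -- the projection onto the hyperplane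
  let π : V →ₗ[F] H := LinearMap.codRestrict H (LinearMap.id - φ.smulRight v) fun x => by
    simp [H, hv]
  have hπ : ∀ x, ((π x : H) : V) = x - φ x • v := fun x => rfl
  have hπH : ∀ x : H, π x = x := by
    intro x
    apply Subtype.ext
    rw [hπ, show φ (x : V) = 0 from x.2, zero_smul, sub_zero]
  let Y0 : End F V := g ∘ₗ H.subtype ∘ₗ Z ∘ₗ π
  have hY0 : ∀ x, Y0 x = g (Z (π x) : H) := fun x => rfl
  have hO : Obs φ Y0 := by
    intro S h1 h2
    have h3 := hDb (((S.comap H.subtype).map Z).comap b) (by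
      intro w hw
      obtain ⟨h, hh, hw⟩ := hw
      -- `a w ∈ S`
      have h4 : ((a w : H) : V) ∈ S := by
        rw [ha]
        have h5 := h2 h hh
        rw [hY0, hπH, hw] at h5
        exact h5
      have h5 : χ (D w) = 0 := by
        rw [hχ, ← hZa]
        have h6 := h1 _ (h2 _ h4)
        rw [hY0, hπH] at h6
        exact h6
      refine ⟨⟨D w, h5⟩, ?_, rfl⟩
      exact ⟨a w, h4, hZa w⟩)
    rw [Submodule.eq_bot_iff] at h3 ⊢
    intro x hx
    have hxH : x ∈ H := h1 x hx
    have h4 : χ (Z ⟨x, hxH⟩) = 0 := by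
      rw [hχ]
      have h6 := h1 _ (h2 _ hx)
      rw [hY0] at h6
      have h7 := hπH ⟨x, hxH⟩
      rw [show π x = ⟨x, hxH⟩ from h7] at h6
      exact h6
    have h5 := h3 ⟨Z ⟨x, hxH⟩, h4⟩ ⟨⟨x, hxH⟩, hx, rfl⟩
    have h6 : Z ⟨x, hxH⟩ = 0 := congrArg Subtype.val h5
    rw [← map_zero Z] at h6
    exact congrArg Subtype.val (hZinj h6)
  obtain ⟨c, hYc⟩ := exists_charpoly_add hO hf hfd
  set Y : End F V := Y0 + φ.smulRight c with hYdef
  let M : End F V := (e.symm : V →ₗ[F] V) ∘ₗ Y
  have hgM : g * M = Y := by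
    ext x
    change g (e.symm (Y x)) = Y x
    rw [← he, e.apply_symm_apply]
  have hM : ∀ x, M x = (Z (π x) : H) + φ x • e.symm c := by
    intro x
    change e.symm (Y x) = _
    rw [hYdef, LinearMap.add_apply, map_add, hY0, ← he, e.symm_apply_apply, LinearMap.smulRight_apply,
      map_smul]
  have hφM : ∀ x, φ (M x) = φ (e.symm c) * φ x := by
    intro x
    rw [hM, map_add, show φ ((Z (π x) : H) : V) = 0 from (Z (π x)).2, zero_add, map_smul, smul_eq_mul,
      mul_comm]
  have hOY : Obs φ Y := hO.congr fun x hx => by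
    rw [hYdef, LinearMap.add_apply, LinearMap.smulRight_apply, hx, zero_smul, add_zero]
  -- `M` in block form
  have hsim : ∃ R : F →ₗ[F] H, Sim (up Z R (φ (e.symm c) • (1 : End F F))) M := by
    let E : (H × F) ≃ₗ[F] V :=
      { toFun := fun x => (x.1 : V) + x.2 • v
        map_add' := fun x y => by simp only [Prod.fst_add, Prod.snd_add, Submodule.coe_add]; module
        map_smul' := fun r x => by
          simp only [Prod.smul_fst, Prod.smul_snd, Submodule.coe_smul, RingHom.id_apply, smul_eq_mul]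
          module
        invFun := fun x => (π x, φ x)
        left_inv := fun x => by
          have h1 : φ ((x.1 : V) + x.2 • v) = x.2 := by
            rw [map_add, map_smul, hv, show φ (x.1 : V) = 0 from x.1.2, zero_add, smul_eq_mul, mul_one]
          refine Prod.ext (Subtype.ext ?_) h1
          rw [hπ, h1, add_sub_cancel_right]
        right_inv := fun x => by
          change ((π x : H) : V) + φ x • v = x
          rw [hπ, sub_add_cancel] }
    have hE : ∀ x, E x = (x.1 : V) + x.2 • v := fun x => rfl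
    refine ⟨LinearMap.toSpanSingleton F H (π (e.symm c)), E, fun x => ?_⟩
    have h1 : φ ((x.1 : V) + x.2 • v) = x.2 := by
      rw [map_add, map_smul, hv, show φ (x.1 : V) = 0 from x.1.2, zero_add, smul_eq_mul, mul_one]
    have h2 : π ((x.1 : V) + x.2 • v) = x.1 := by
      apply Subtype.ext
      rw [hπ, h1, add_sub_cancel_right]
    rw [hE, hE, hM, h1, h2, up_apply]
    simp only [Submodule.coe_add, LinearMap.toSpanSingleton_apply, Submodule.coe_smul,
      LinearMap.smul_apply, Module.End.one_apply, hπ, smul_eq_mul]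
    module
  obtain ⟨R, hR⟩ := hsim
  have hMc : LinearMap.charpoly M = (X - C (φ (e.symm c))) * p := by
    rw [← hR.charpoly, charpoly_up, hZc, charpoly_smul_one, mul_comm]
  -- the eigenvalue
  have hνeq : φ (e.symm c) = ν := by
    have h1 : LinearMap.det Y = LinearMap.det g * LinearMap.det M := by rw [← hgM, map_mul]
    rw [det_eq_charpoly Y, det_eq_charpoly M, hYc, hMc, hc] at h1
    have h2 := mul_left_cancel₀ hg0 h1
    have h3 := mul_left_cancel₀ (pow_ne_zero _ (by simp : (-1 : F) ≠ 0)) h2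
    rw [mul_coeff_zero, mul_coeff_zero] at h3
    have h4 := mul_right_cancel₀ hp0 h3
    simpa using h4.symm
  rw [hνeq] at hMc hφM hR
  refine ⟨M, Y, φ, ?_, hMc, hYc, hgM, hOY, hφM⟩
  refine Coc.sim hR (Coc.up R ⟨φ', hZO⟩ (coc_smul_one ν) ?_)
  rw [hZc, charpoly_smul_one]
  have h5 : IsCoprime (X - C ν) p := by
    rw [(Polynomial.irreducible_X_sub_C ν).coprime_iff_not_dvd, Polynomial.dvd_iff_isRoot]
    exact hpν
  exact h5.symm

end Cfsg.Agent.H166.Cov
end

-- part: H166/Cov/Core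
section
/-!
# Consequences of the main factorization theorem
-/

set_option autoImplicit false

namespace Cfsg.Agent.H166.Cov

open Module Polynomial

universe u

variable {F : Type u} [Field F] {V W U : Type u} [AddCommGroup V] [Module F V]
  [AddCommGroup W] [Module F W] [AddCommGroup U] [Module F U]

/-- the inverse of an endomorphism with nonzero determinant -/
theorem exists_inv [FiniteDimensional F V] {g : End F V} (hg : LinearMap.det g ≠ 0) :
    ∃ h : End F V, g * h = 1 ∧ h * g = 1 := by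
  let e := LinearMap.equivOfDetNeZero g hg
  have he : ∀ x, e x = g x := fun _ => rfl
  refine ⟨(e.symm : V →ₗ[F] V), ?_, ?_⟩
  · ext x
    change g (e.symm x) = x
    rw [← he, e.apply_symm_apply]
  · ext x
    change e.symm (g x) = x
    rw [← he, e.symm_apply_apply]

theorem NS.inv {g h : End F V} (hg : NS g) (h1 : g * h = 1) : NS h := by
  intro c hc
  rw [hc, mul_smul_comm, mul_one] at h1
  by_cases hc0 : c = 0
  · rw [hc0, zero_smul] at h1
    -- `V` is trivial
    exact hg 0 (by rw [← mul_one g, ← h1, mul_zero, zero_smul])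
  · exact hg c⁻¹ (by rw [← h1, smul_smul, inv_mul_cancel₀ hc0, one_smul])

theorem NS.smul {g : End F V} (hg : NS g) {c : F} (hc : c ≠ 0) : NS (c • g) := by
  intro d hd
  exact hg (c⁻¹ * d) (by rw [mul_smul, ← hd, smul_smul, inv_mul_cancel₀ hc, one_smul])

theorem Obs.inv [FiniteDimensional F V] {φ : V →ₗ[F] F} {S T : End F V} (h : Obs φ S)
    (h2 : S * T = 1) : Obs φ T := by
  intro P hP hT
  refine h P hP fun x hx => ?_
  have hT2 : P.map T ≤ P := by
    rintro _ ⟨y, hy, rfl⟩
    exact hT y hy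
  have hinj : Function.Injective T := fun x y hxy => by
    have h3 : (S * T) x = (S * T) y := congrArg S hxy
    rwa [h2] at h3
  have hfin : finrank F (P.map T) = finrank F P :=
    ((Submodule.equivMapOfInjective T hinj P).finrank_eq).symm
  have heq := Submodule.eq_of_le_of_finrank_eq hT2 hfin
  rw [← heq] at hx
  obtain ⟨y, hy, rfl⟩ := hx
  have h3 : S (T y) = y := LinearMap.congr_fun h2 y
  rw [h3]; exact hy

theorem Sim.inv {S S' : End F V} {T' : End F W} (h : Sim S T') {R : End F W} (h1 : S * S' = 1)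
    (h2 : R * T' = 1) : Sim S' R := by
  obtain ⟨e, he⟩ := h
  refine ⟨e, fun x => ?_⟩
  have h3 : e (S (S' x)) = T' (e (S' x)) := he (S' x)
  have h4 : S (S' x) = x := LinearMap.congr_fun h1 x
  rw [h4] at h3
  rw [h3]
  exact (LinearMap.congr_fun h2 (e (S' x))).symm

/-- Theorem H in terms of similarity classes -/
theorem exists_fac [Finite F] (hq : 4 ≤ Nat.card F) [FiniteDimensional F V] (hn : 2 ≤ finrank F V)
    {g : End F V} (hg : NS g) {ν : F} {M₀ X₀ : End F V} (hM : Nice ν M₀) (hX : Coc X₀)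
    (hM0 : LinearMap.det M₀ ≠ 0) (hX0 : LinearMap.det X₀ ≠ 0)
    (hdet : LinearMap.det g * LinearMap.det M₀ = LinearMap.det X₀) :
    ∃ (M Y : End F V) (φ : V →ₗ[F] F), Sim M₀ M ∧ Sim X₀ Y ∧ g * M = Y ∧ Obs φ Y ∧
      ∀ x, φ (M x) = ν * φ x := by
  obtain ⟨hMc, p, hp, hpν⟩ := hM
  have hpm : p.Monic := (monic_X_sub_C ν).of_mul_monic_left (hp ▸ M₀.charpoly_monic)
  have hd : p.natDegree + 1 = finrank F V := by
    rw [← M₀.charpoly_natDegree, hp, (monic_X_sub_C ν).natDegree_mul hpm, natDegree_X_sub_C, add_comm]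
  have hg0 : LinearMap.det g ≠ 0 := by
    rintro h
    rw [h, zero_mul] at hdet
    exact hX0 hdet.symm
  have hp0 : p.coeff 0 ≠ 0 := by
    intro h
    apply hM0
    rw [det_eq_charpoly, hp, mul_coeff_zero, h, mul_zero, mul_zero]
  obtain ⟨M, Y, φ, h1, h2, h3, h4, h5, h6⟩ := thmH hq hn hg hg0 hpm hd hp0 hpν X₀.charpoly_monic
    X₀.charpoly_natDegree (by rw [← hp, ← det_eq_charpoly, ← det_eq_charpoly, hdet])
  exact ⟨M, Y, φ, Sim.of_coc hMc h1 (by rw [h2, hp]), Sim.of_coc hX ⟨φ, h5⟩ h3.symm, h4, h5, h6⟩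

/-- every nonscalar `g` is a product of a given nice and a given cyclic class -/
theorem exists_fac' [Finite F] (hq : 4 ≤ Nat.card F) [FiniteDimensional F V] (hn : 2 ≤ finrank F V)
    {g : End F V} (hg : NS g) {ν : F} {M₀ X₀ : End F V} (hM : Nice ν M₀) (hX : Coc X₀)
    (hg0 : LinearMap.det g ≠ 0) (hdet : LinearMap.det g = LinearMap.det M₀ * LinearMap.det X₀) :
    ∃ (M X : End F V) (φ : V →ₗ[F] F), Sim M₀ M ∧ Sim X₀ X ∧ g = M * X ∧ Obs φ X ∧
      ∀ x, φ (M x) = ν * φ x := by
  have hM0 : LinearMap.det M₀ ≠ 0 := fun h => hg0 (by rw [hdet, h, zero_mul])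
  have hX0 : LinearMap.det X₀ ≠ 0 := fun h => hg0 (by rw [hdet, h, mul_zero])
  obtain ⟨g', hg1, hg2⟩ := exists_inv hg0
  obtain ⟨X', hX1, hX2⟩ := exists_inv hX0
  obtain ⟨φ₀, hφ₀⟩ := hX
  have hd1 : LinearMap.det g * LinearMap.det g' = 1 := by rw [← map_mul, hg1, map_one]
  have hd2 : LinearMap.det X₀ * LinearMap.det X' = 1 := by rw [← map_mul, hX1, map_one]
  obtain ⟨M, Y, φ, h1, h2, h3, h4, h5⟩ := exists_fac hq hn (hg.inv hg1) hM (X₀ := X')
    ⟨φ₀, hφ₀.inv hX1⟩ hM0 (fun h => by rw [h, mul_zero] at hd2; exact zero_ne_one hd2) (by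
      rw [hdet] at hd1
      have h0 : LinearMap.det X₀ * (LinearMap.det g' * LinearMap.det M₀) =
        LinearMap.det X₀ * LinearMap.det X' := by rw [hd2, ← hd1]; ring
      exact mul_left_cancel₀ hX0 h0)
  have hY0 : LinearMap.det Y ≠ 0 := by
    rw [← h2.det]
    exact fun h => by rw [h, mul_zero] at hd2; exact zero_ne_one hd2
  obtain ⟨X, hY1, hY2⟩ := exists_inv hY0
  refine ⟨M, X, φ, h1, ?_, ?_, h4.inv hY1, h5⟩
  · exact Sim.inv h2 hX2 hY2
  · have h6 : g * Y = M := by rw [← h3, ← mul_assoc, hg1, one_mul]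
    rw [← h6, mul_assoc, hY1, mul_one]

/-- from some cyclic class to all nice classes, at the cost of one factor -/
theorem HP.step [Finite F] (hq : 4 ≤ Nat.card F) [FiniteDimensional F V] (hn : 2 ≤ finrank F V)
    {T : End F V} (hT : NS T) (hT0 : LinearMap.det T ≠ 0) {k : ℕ} {X : End F V} (hX : Coc X)
    (h : HP T k X) {ν : F} {M : End F V} (hM : Nice ν M)
    (hd : LinearMap.det M = LinearMap.det T ^ (k + 1)) : HP T (k + 1) M := by
  obtain ⟨T', hT1, hT2⟩ := exists_inv hT0
  have hd1 : LinearMap.det T * LinearMap.det T' = 1 := by rw [← map_mul, hT1, map_one]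
  obtain ⟨M', Y, φ, h1, h2, h3, -, -⟩ := exists_fac hq hn (hT.inv hT1) hM hX
    (by rw [hd]; exact pow_ne_zero _ hT0) (by rw [h.det]; exact pow_ne_zero _ hT0) (by
      rw [hd, h.det, pow_succ', ← mul_assoc, mul_comm (LinearMap.det T'), hd1, one_mul])
  have h4 : T * Y = M' := by rw [← h3, ← mul_assoc, hT1, one_mul]
  have h5 : HP T (1 + k) (T * Y) := (HP.one (Sim.refl T)).mul (h.conj h2)
  rw [h4, add_comm] at h5
  exact h5.conj h1.symm

theorem common_pow {μ : F} {u : V} {L : List (End F V)} (h : ∀ A ∈ L, A u = μ • u) :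
    L.prod u = μ ^ L.length • u := by
  induction L with
  | nil => simp
  | cons A L ih =>
    rw [List.prod_cons, Module.End.mul_apply, ih fun B hB => h B (List.mem_cons_of_mem _ hB), map_smul,
      h A List.mem_cons_self, smul_smul, List.length_cons, pow_succ]

/-- generation from a nice class and a cyclic class -/
theorem Gen.of_nice [Finite F] (hq : 4 ≤ Nat.card F) [FiniteDimensional F V] (hn : 2 ≤ finrank F V)
    {T : End F V} (hT0 : LinearMap.det T ≠ 0) {a b : ℕ} {μ ν : F} {M X : End F V} (hM : Nice ν M)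
    (hν : ν ≠ μ ^ a) (h : HP T a M) (hX : Coc X) (h' : HP T b X) : Gen T (a + b) μ := by
  intro g hg hd
  obtain ⟨M', X', φ, h1, h2, h3, h4, h5⟩ := exists_fac' hq hn hg hM hX
    (by rw [hd]; exact pow_ne_zero _ hT0) (by rw [hd, h.det, h'.det, pow_add])
  obtain ⟨L₁, hL1, hL2, hL3⟩ := h.conj h1
  obtain ⟨L₂, hL1', hL2', hL3'⟩ := h'.conj h2
  refine ⟨L₁ ++ L₂, by simp [hL1, hL1'], ?_, by simp [hL3, hL3', h3], ?_⟩
  · intro A hA
    rcases List.mem_append.1 hA with h | h
    · exact hL2 A h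
    · exact hL2' A h
  · intro u hu
    have e1 : M' u = μ ^ a • u := by
      rw [← hL3, common_pow fun A hA => hu A (List.mem_append_left _ hA), hL1]
    have e2 : X' u = μ ^ b • u := by
      rw [← hL3', common_pow fun A hA => hu A (List.mem_append_right _ hA), hL1']
    have e3 : φ u = 0 := by
      by_contra hne
      have := h5 u
      rw [e1, map_smul, smul_eq_mul] at this
      exact hν (mul_right_cancel₀ hne this).symm
    have e4 := h4 (Submodule.span F {u}) (fun x hx => by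
      obtain ⟨c, rfl⟩ := Submodule.mem_span_singleton.1 hx
      rw [map_smul, e3, smul_zero]) (fun x hx => by
      obtain ⟨c, rfl⟩ := Submodule.mem_span_singleton.1 hx
      rw [map_smul, e2]
      exact Submodule.smul_mem _ _ (Submodule.smul_mem _ _ (Submodule.mem_span_singleton_self u)))
    exact Submodule.span_singleton_eq_bot.1 e4

theorem Coc.ns [FiniteDimensional F V] (hn : 2 ≤ finrank F V) {T : End F V} (hT : Coc T) : NS T := by
  intro c hc
  obtain ⟨φ, hφ⟩ := hT
  have h1 := hφ (LinearMap.ker φ) (fun x hx => hx) (fun x hx => by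
    rw [hc, LinearMap.smul_apply, Module.End.one_apply]
    exact Submodule.smul_mem _ _ hx)
  have h2 := LinearMap.finrank_range_add_finrank_ker φ
  rw [h1, finrank_bot] at h2
  have h3 := Submodule.finrank_le (LinearMap.range φ)
  rw [finrank_self] at h3
  omega

theorem exists_nice_end [Finite F] (hq : 4 ≤ Nat.card F) [FiniteDimensional F V]
    (hn : 2 ≤ finrank F V) {δ : F} (hδ : δ ≠ 0) (ξ : F) :
    ∃ (ν : F) (M : End F V), ν ≠ ξ ∧ Nice ν M ∧ LinearMap.det M = δ ∧
      ∀ r : F[X], (∀ x, r.eval x ≠ 0) → IsCoprime (LinearMap.charpoly M) r := by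
  obtain ⟨ν, p, h1, h2, h3, h4, h5, h6, h7⟩ := exists_nice hq hn hδ ξ
  obtain ⟨M, hM, hMc⟩ := exists_coc (F := F) (V := V) (f := (X - C ν) * p) ((monic_X_sub_C ν).mul h3)
    (by rw [(monic_X_sub_C ν).natDegree_mul h3, natDegree_X_sub_C, h4]; omega)
  refine ⟨ν, M, h2, ⟨hM, p, hMc, h5⟩, ?_, by rw [hMc]; exact h7⟩
  rw [det_eq_charpoly, hMc, h6, ← mul_assoc, ← mul_pow]
  simp

theorem exists_rootless_end [Finite F] [FiniteDimensional F V]
    (hn : 2 ≤ finrank F V) {δ : F} (hδ : δ ≠ 0) :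
    ∃ (X : End F V), Coc X ∧ LinearMap.det X = δ ∧ ∀ x, (LinearMap.charpoly X).eval x ≠ 0 := by
  obtain ⟨p, h1, h2, h3, h4⟩ := exists_rootless (F := F) hn
    (e := (-1) ^ finrank F V * δ) (mul_ne_zero (pow_ne_zero _ (by simp)) hδ)
  obtain ⟨M, hM, hMc⟩ := exists_coc (F := F) (V := V) h1 h2
  refine ⟨M, hM, ?_, by rw [hMc]; exact h4⟩
  rw [det_eq_charpoly, hMc, h3, ← mul_assoc, ← mul_pow]
  simp

theorem Nice.coc [FiniteDimensional F V] {ν : F} {M : End F V} (h : Nice ν M) : Coc M := h.1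

/-- cyclic classes: every nice class is a product of `k ≥ 2` -/
theorem Coc.hp_nice [Finite F] (hq : 4 ≤ Nat.card F) [FiniteDimensional F V] (hn : 2 ≤ finrank F V)
    {T : End F V} (hT : Coc T) (hT0 : LinearMap.det T ≠ 0) {k : ℕ} (hk : 2 ≤ k) {ν : F} {M : End F V}
    (hM : Nice ν M) (hd : LinearMap.det M = LinearMap.det T ^ k) : HP T k M := by
  obtain ⟨k, rfl⟩ := Nat.exists_eq_add_of_le' hk
  clear hk
  induction k generalizing ν M with
  | zero => exact HP.step hq hn (hT.ns hn) hT0 hT (HP.one (Sim.refl T)) hM hd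
  | succ k ih =>
    obtain ⟨ν', M', -, h2, h3, -⟩ := exists_nice_end (V := V) hq hn (δ := LinearMap.det T ^ (k + 2))
      (pow_ne_zero _ hT0) 0
    exact HP.step hq hn (hT.ns hn) hT0 h2.coc (ih h2 h3) hM hd

theorem Coc.gen [Finite F] (hq : 4 ≤ Nat.card F) [FiniteDimensional F V] (hn : 2 ≤ finrank F V)
    {T : End F V} (hT : Coc T) (hT0 : LinearMap.det T ≠ 0) {k : ℕ} (hk : 3 ≤ k) (μ : F) :
    Gen T k μ := by
  obtain ⟨k, rfl⟩ := Nat.exists_eq_add_of_le' hk
  obtain ⟨ν', M', h1, h2, h3, -⟩ := exists_nice_end (V := V) hq hn (δ := LinearMap.det T ^ (k + 2))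
      (pow_ne_zero _ hT0) (μ ^ (k + 2))
  have h4 := Gen.of_nice (μ := μ) hq hn hT0 h2 h1 (hT.hp_nice hq hn hT0 (by omega) h2 h3) hT
    (HP.one (Sim.refl T))
  exact h4

theorem Nice.gen [Finite F] (hq : 4 ≤ Nat.card F) [FiniteDimensional F V] (hn : 2 ≤ finrank F V)
    {T : End F V} {ν : F} (hT : Nice ν T) (hT0 : LinearMap.det T ≠ 0) {μ : F} (hν : ν ≠ μ) :
    Gen T 2 μ :=
  Gen.of_nice (a := 1) (b := 1) hq hn hT0 hT (by rwa [pow_one]) (HP.one (Sim.refl T)) hT.coc
    (HP.one (Sim.refl T))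

end Cfsg.Agent.H166.Cov
end
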