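import Cfsg.Agent.H166.Cov.Core
import Cfsg.Agent.H166.Cov.SLMap
set_option linter.all false

-- part: H166/Cov/Merge
section
/-!
# Direct sums
-/

set_option autoImplicit false

namespace Cfsg.Agent.H166.Cov

open Module Polynomial

universe u

variable {F : Type u} [Field F] {V W U : Type u} [AddCommGroup V] [Module F V]
  [AddCommGroup W] [Module F W] [AddCommGroup U] [Module F U]

theorem prodMap_eq_up (P : End F U) (T : End F W) : P.prodMap T = up P 0 T := by
  ext x <;> simp [up]

theorem Nice.up_left [FiniteDimensional F U] [FiniteDimensional F W] {P : End F U} (R : W →ₗ[F] U)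
    {T : End F W} {ν : F} (hP : Nice ν P) (hT : Coc T)
    (h : IsCoprime (LinearMap.charpoly P) (LinearMap.charpoly T)) : Nice ν (up P R T) := by
  obtain ⟨hPc, p, hp, hpν⟩ := hP
  refine ⟨hPc.up R hT h, p * LinearMap.charpoly T, by rw [charpoly_up, hp, mul_assoc], ?_⟩
  rw [eval_mul]
  refine mul_ne_zero hpν fun h0 => ?_
  obtain ⟨a, b, hab⟩ := h
  have h1 := congrArg (eval ν) hab
  rw [eval_add, eval_mul, eval_mul, h0, hp, eval_mul, eval_sub, eval_X, eval_C, sub_self, eval_one] at h1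
  simp at h1

theorem Nice.up_right [FiniteDimensional F U] [FiniteDimensional F W] {P : End F U} (R : W →ₗ[F] U)
    {T : End F W} {ν : F} (hP : Coc P) (hT : Nice ν T)
    (h : IsCoprime (LinearMap.charpoly P) (LinearMap.charpoly T)) : Nice ν (up P R T) := by
  obtain ⟨hTc, p, hp, hpν⟩ := hT
  refine ⟨hP.up R hTc h, LinearMap.charpoly P * p, by rw [charpoly_up, hp]; ring, ?_⟩
  rw [eval_mul]
  refine mul_ne_zero (fun h0 => ?_) hpν
  obtain ⟨a, b, hab⟩ := h
  have h1 := congrArg (eval ν) hab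
  rw [eval_add, eval_mul, eval_mul, h0, hp, eval_mul, eval_sub, eval_X, eval_C, sub_self, eval_one] at h1
  simp at h1

theorem Sim.prodMap {V' W' : Type u} [AddCommGroup V'] [Module F V'] [AddCommGroup W'] [Module F W']
    {S : End F V} {S' : End F V'} {T : End F W} {T' : End F W'} (h : Sim S S') (h' : Sim T T') :
    Sim (S.prodMap T) (S'.prodMap T') := by
  obtain ⟨e, he⟩ := h
  obtain ⟨f, hf⟩ := h'
  exact ⟨e.prodCongr f, fun x => Prod.ext (he x.1) (hf x.2)⟩

theorem Sim.prod_comm (S : End F V) (T : End F W) : Sim (S.prodMap T) (T.prodMap S) :=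
  ⟨LinearEquiv.prodComm F V W, fun _ => rfl⟩

theorem HP.prodMap {V' W' : Type u} [AddCommGroup V'] [Module F V'] [AddCommGroup W'] [Module F W']
    {S : End F V} {T : End F W} {k : ℕ} {A : End F V'} {B : End F W'} (h : HP S k A)
    (h' : HP T k B) : HP (S.prodMap T) k (A.prodMap B) := by
  induction k generalizing A B with
  | zero =>
    obtain ⟨L, h1, h2, rfl⟩ := h
    obtain ⟨L', h1', h2', rfl⟩ := h'
    rw [List.length_eq_zero_iff] at h1 h1'
    subst h1 h1'
    exact ⟨[], rfl, by simp, by ext x <;> rfl⟩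
  | succ k ih =>
    obtain ⟨L, h1, h2, rfl⟩ := h
    obtain ⟨L', h1', h2', rfl⟩ := h'
    obtain ⟨A, L, rfl⟩ := List.exists_cons_of_length_eq_add_one h1
    obtain ⟨B, L', rfl⟩ := List.exists_cons_of_length_eq_add_one h1'
    have h3 := ih (A := L.prod) (B := L'.prod)
      ⟨L, by simpa using h1, fun C hC => h2 C (List.mem_cons_of_mem _ hC), rfl⟩
      ⟨L', by simpa using h1', fun C hC => h2' C (List.mem_cons_of_mem _ hC), rfl⟩
    have h4 := (HP.one ((h2 A List.mem_cons_self).prodMap (h2' B List.mem_cons_self))).mul h3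
    rw [add_comm] at h4
    rw [List.prod_cons, List.prod_cons]
    exact h4

theorem det_up [FiniteDimensional F U] [FiniteDimensional F W] (P : End F U) (R : W →ₗ[F] U)
    (T : End F W) : LinearMap.det (up P R T) = LinearMap.det P * LinearMap.det T := by
  rw [det_eq_charpoly, charpoly_up, det_eq_charpoly P, det_eq_charpoly T, mul_coeff_zero,
    finrank_prod, pow_add]
  ring

theorem NS.prodMap_left {S : End F V} (hS : NS S) (T : End F W) : NS (S.prodMap T) := by
  intro c hc
  apply hS c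
  ext x
  have h1 := congrArg Prod.fst (LinearMap.congr_fun hc (x, 0))
  simpa using h1

theorem NS.prodMap_right (S : End F V) {T : End F W} (hT : NS T) : NS (S.prodMap T) := by
  intro c hc
  apply hT c
  ext x
  have h1 := congrArg Prod.snd (LinearMap.congr_fun hc (0, x))
  simpa using h1

/-- nice products of `a` elements, with an eigenvalue different from a given one -/
def SN [FiniteDimensional F V] (T : End F V) (a : ℕ) : Prop :=
  ∀ ξ : F, ∃ (ν : F) (M : End F V), ν ≠ ξ ∧ Nice ν M ∧ HP T a M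

theorem SN.sim [FiniteDimensional F V] [FiniteDimensional F W] {S : End F V} {T : End F W}
    {a : ℕ} (h : Sim S T) (hS : SN S a) : SN T a := by
  intro ξ
  obtain ⟨ν, M, h1, h2, h3⟩ := hS ξ
  obtain ⟨e, he⟩ := h
  refine ⟨ν, e.conj M, h1, h2.sim (Sim.conj M e), ?_⟩
  exact (h3.left ⟨e, he⟩).conj (Sim.conj M e)

theorem SN.all [Finite F] (hq : 4 ≤ Nat.card F) [FiniteDimensional F V] (hn : 2 ≤ finrank F V)
    {T : End F V} (hT : NS T) (hT0 : LinearMap.det T ≠ 0) {a : ℕ} (h : SN T a) {ν : F} {M : End F V}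
    (hM : Nice ν M) (hd : LinearMap.det M = LinearMap.det T ^ (a + 1)) : HP T (a + 1) M := by
  obtain ⟨ν', M', -, h2, h3⟩ := h 0
  exact h3.step hq hn hT hT0 h2.coc hM hd

theorem SN.gen [Finite F] (hq : 4 ≤ Nat.card F) [FiniteDimensional F V] (hn : 2 ≤ finrank F V)
    {T : End F V} (hT0 : LinearMap.det T ≠ 0) {a b : ℕ} (h : SN T a) (h' : SN T b) (μ : F) :
    Gen T (a + b) μ := by
  obtain ⟨ν, M, h1, h2, h3⟩ := h (μ ^ a)
  obtain ⟨ν', M', -, h2', h3'⟩ := h' 0
  exact Gen.of_nice hq hn hT0 h2 h1 h3 h2'.coc h3'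

theorem Coc.sn [Finite F] (hq : 4 ≤ Nat.card F) [FiniteDimensional F V] (hn : 2 ≤ finrank F V)
    {T : End F V} (hT : Coc T) (hT0 : LinearMap.det T ≠ 0) {a : ℕ} (ha : 2 ≤ a) : SN T a := by
  intro ξ
  obtain ⟨ν', M', h1, h2, h3, -⟩ := exists_nice_end (V := V) hq hn (δ := LinearMap.det T ^ a)
    (pow_ne_zero _ hT0) ξ
  exact ⟨ν', M', h1, h2, hT.hp_nice hq hn hT0 ha h2 h3⟩

/-- adding a cyclic summand, `a ≥ 3` -/
theorem SN.add [Finite F] (hq : 4 ≤ Nat.card F) [FiniteDimensional F V] [FiniteDimensional F W]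
    (hn : 2 ≤ finrank F V) (hm : 2 ≤ finrank F W) {T : End F V} {S : End F W} (hT : Coc T)
    (hT0 : LinearMap.det T ≠ 0) (hS : NS S) (hS0 : LinearMap.det S ≠ 0) {a : ℕ} (ha : 2 ≤ a)
    (h : SN S a) : SN (T.prodMap S) (a + 1) := by
  intro ξ
  obtain ⟨X, h1, h2, h3⟩ := exists_rootless_end (V := V) hn (δ := LinearMap.det T ^ (a + 1))
    (pow_ne_zero _ hT0)
  obtain ⟨ν, M, h1', h2', h3', h4'⟩ := exists_nice_end (V := W) hq hm
    (δ := LinearMap.det S ^ (a + 1)) (pow_ne_zero _ hS0) ξ
  refine ⟨ν, X.prodMap M, h1', ?_, ?_⟩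
  · rw [prodMap_eq_up]
    exact h2'.up_right 0 h1 (h4' _ h3).symm
  · exact (hT.gen hq hn hT0 (by omega) 0 X (h1.ns hn) h2).hp.prodMap
      (h.all hq hm hS hS0 h2' h3')

/-- two cyclic summands, two factors -/
theorem SN.two [Finite F] (hq : 4 ≤ Nat.card F) [FiniteDimensional F V] [FiniteDimensional F W]
    (hn : 2 ≤ finrank F V) (hm : 2 ≤ finrank F W) {T : End F V} {S : End F W} (hT : Coc T)
    (hT0 : LinearMap.det T ≠ 0) (hS : Coc S) (hS0 : LinearMap.det S ≠ 0) :
    SN (T.prodMap S) 2 := by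
  intro ξ
  by_cases h : finrank F V = 2 ∧ finrank F W = 2
  · obtain ⟨X, h1, h2, h3⟩ := exists_rootless_end (V := V) hn (δ := LinearMap.det T ^ 2)
      (pow_ne_zero _ hT0)
    obtain ⟨ν, M, h1', h2', h3', h4'⟩ := exists_nice_end (V := W) hq hm
      (δ := LinearMap.det S ^ 2) (pow_ne_zero _ hS0) ξ
    refine ⟨ν, X.prodMap M, h1', ?_, ?_⟩
    · rw [prodMap_eq_up]
      exact h2'.up_right 0 h1 (h4' _ h3).symm
    · exact (elliptic h.1 h3 (hT.ns hn) h2).prodMap (hS.hp_nice hq hm hS0 le_rfl h2' h3')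
  · obtain ⟨ν₁, ν₂, p₁, p₂, hν, h1, h2, h3, h4, h1', h2', h3', h4', h5⟩ := exists_pair hq hn hm h
      (pow_ne_zero 2 hT0) (pow_ne_zero 2 hS0)
    obtain ⟨M, hM, hMc⟩ := exists_coc (F := F) (V := V) (f := (X - C ν₁) * p₁)
      ((monic_X_sub_C ν₁).mul h1)
      (by rw [(monic_X_sub_C ν₁).natDegree_mul h1, natDegree_X_sub_C, h2]; omega)
    obtain ⟨M', hM', hMc'⟩ := exists_coc (F := F) (V := W) (f := (X - C ν₂) * p₂)
      ((monic_X_sub_C ν₂).mul h1')
      (by rw [(monic_X_sub_C ν₂).natDegree_mul h1', natDegree_X_sub_C, h2']; omega)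
    have hN : Nice ν₁ M := ⟨hM, p₁, hMc, h3⟩
    have hN' : Nice ν₂ M' := ⟨hM', p₂, hMc', h3'⟩
    have hd : LinearMap.det M = LinearMap.det T ^ 2 := by
      rw [det_eq_charpoly, hMc, h4, ← mul_assoc, ← mul_pow]
      simp
    have hd' : LinearMap.det M' = LinearMap.det S ^ 2 := by
      rw [det_eq_charpoly, hMc', h4', ← mul_assoc, ← mul_pow]
      simp
    have hP : HP (T.prodMap S) 2 (M.prodMap M') :=
      (hT.hp_nice hq hn hT0 le_rfl hN hd).prodMap (hS.hp_nice hq hm hS0 le_rfl hN' hd')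
    have hco : IsCoprime (LinearMap.charpoly M) (LinearMap.charpoly M') := by rw [hMc, hMc']; exact h5
    by_cases h6 : ν₁ = ξ
    · refine ⟨ν₂, M.prodMap M', fun h => hν (h6.trans h.symm), ?_, hP⟩
      rw [prodMap_eq_up]
      exact hN'.up_right 0 hM hco
    · refine ⟨ν₁, M.prodMap M', h6, ?_, hP⟩
      rw [prodMap_eq_up]
      exact hN.up_left 0 hM' hco

theorem dec_cons {f : F[X]} {L : List F[X]} {m : ℕ} {T : End F (Fin m → F)} (h : Dec (f :: L) T) :
    ∃ (m₂ : ℕ) (T₁ : End F (Fin f.natDegree → F)) (T₂ : End F (Fin m₂ → F)),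
      Coc T₁ ∧ LinearMap.charpoly T₁ = f ∧ Dec L T₂ ∧ Sim T (T₁.prodMap T₂) := by
  obtain ⟨m₁, m₂, T₁, T₂, h1, h2, h3, h4⟩ := h
  obtain rfl : m₁ = f.natDegree := by
    rw [← h2, LinearMap.charpoly_natDegree, finrank_fin_fun]
  exact ⟨m₂, T₁, T₂, h1, h2, h3, h4⟩

theorem sim_prod_zero {V₀ : Type u} [AddCommGroup V₀] [Module F V₀] [Subsingleton V₀] (T : End F V)
    (S : End F V₀) : Sim (T.prodMap S) T :=
  ⟨{ toFun := fun x => x.1
     map_add' := fun _ _ => rfl
     map_smul' := fun _ _ => rfl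
     invFun := fun x => (x, 0)
     left_inv := fun x => Prod.ext rfl (Subsingleton.elim _ _)
     right_inv := fun _ => rfl }, fun _ => rfl⟩

theorem dec_single {f : F[X]} {m : ℕ} {T : End F (Fin m → F)} (h : Dec [f] T) :
    Coc T ∧ LinearMap.charpoly T = f := by
  obtain ⟨m₂, T₁, T₂, h1, h2, h3, h4⟩ := dec_cons h
  obtain rfl : m₂ = 0 := h3
  have h5 := (h4.trans (sim_prod_zero T₁ T₂)).symm
  exact ⟨h1.sim h5, by rw [← h5.charpoly, h2]⟩

theorem Dec.le {L : List F[X]} : ∀ {m : ℕ} {T : End F (Fin m → F)}, Dec L T →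
    (∀ f ∈ L, 2 ≤ f.natDegree) → 2 * L.length ≤ m := by
  induction L with
  | nil => intro m T h _; simp
  | cons f L ih =>
    intro m T h hd
    obtain ⟨m₂, T₁, T₂, h1, h2, h3, h4⟩ := dec_cons h
    have h5 := ih h3 (fun g hg => hd g (List.mem_cons_of_mem _ hg))
    have h6 := h4.finrank
    rw [finrank_prod, finrank_fin_fun, finrank_fin_fun, finrank_fin_fun] at h6
    have h7 := hd f List.mem_cons_self
    rw [List.length_cons]
    omega

theorem Dec.ns {L : List F[X]} (hL : L ≠ []) {m : ℕ} {T : End F (Fin m → F)} (h : Dec L T)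
    (hd : ∀ f ∈ L, 2 ≤ f.natDegree) : NS T := by
  obtain ⟨f, L, rfl⟩ := List.exists_cons_of_ne_nil hL
  obtain ⟨m₂, T₁, T₂, h1, h2, h3, h4⟩ := dec_cons h
  exact h4.symm.ns ((h1.ns (by rw [finrank_fin_fun]; exact hd f List.mem_cons_self)).prodMap_left T₂)

theorem Dec.sn [Finite F] (hq : 4 ≤ Nat.card F) {L : List F[X]} (hL : L ≠ [])
    (hd : ∀ f ∈ L, 2 ≤ f.natDegree) : ∀ {m : ℕ} {T : End F (Fin m → F)}, Dec L T →
    LinearMap.det T ≠ 0 → ∀ {a : ℕ}, 2 ≤ a → L.length ≤ a → SN T a := by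
  induction L with
  | nil => exact absurd rfl hL
  | cons f L ih =>
    intro m T h hT0 a ha hLa
    have hf := hd f List.mem_cons_self
    by_cases hL' : L = []
    · subst hL'
      obtain ⟨h1, h2⟩ := dec_single h
      exact h1.sn hq (by rw [← LinearMap.charpoly_natDegree T, h2]; exact hf) hT0 ha
    · obtain ⟨m₂, T₁, T₂, h1, h2, h3, h4⟩ := dec_cons h
      have hd' := fun g hg => hd g (List.mem_cons_of_mem _ hg)
      rw [h4.det, LinearMap.det_prodMap] at hT0
      have h5 := h3.le hd'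
      have h6 := List.length_pos_iff.2 hL'
      rw [List.length_cons] at hLa
      refine SN.sim h4.symm ?_
      by_cases ha3 : 3 ≤ a
      · obtain ⟨a, rfl⟩ : ∃ a', a = a' + 1 := ⟨a - 1, by omega⟩
        exact SN.add hq (by rw [finrank_fin_fun]; exact hf) (by rw [finrank_fin_fun]; omega) h1
          (left_ne_zero_of_mul hT0) (h3.ns hL' hd') (right_ne_zero_of_mul hT0) (by omega)
          (ih hL' hd' h3 (right_ne_zero_of_mul hT0) (by omega) (by omega))
      · obtain rfl : a = 2 := by omega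
        obtain ⟨g, rfl⟩ : ∃ g, L = [g] := List.length_eq_one_iff.1 (by omega)
        obtain ⟨h1', h2'⟩ := dec_single h3
        exact SN.two hq (by rw [finrank_fin_fun]; exact hf) (by rw [finrank_fin_fun]; simpa using h5) h1
          (left_ne_zero_of_mul hT0) h1' (right_ne_zero_of_mul hT0)

theorem Dec.gen [Finite F] (hq : 4 ≤ Nat.card F) {L : List F[X]} (hL : L ≠ [])
    (hd : ∀ f ∈ L, 2 ≤ f.natDegree) {m : ℕ} {T : End F (Fin m → F)} (h : Dec L T)
    (hT0 : LinearMap.det T ≠ 0) {k : ℕ} (hk : 3 ≤ k) (hk' : 2 ≤ L.length → 2 * L.length ≤ k)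
    (μ : F) : Gen T k μ := by
  have h5 := h.le hd
  have h6 := List.length_pos_iff.2 hL
  by_cases hL1 : L.length = 1
  · obtain ⟨f, rfl⟩ := List.length_eq_one_iff.1 hL1
    obtain ⟨h1, h2⟩ := dec_single h
    exact h1.gen hq (by rw [finrank_fin_fun]; simpa using h5) hT0 hk μ
  · have h7 := hk' (by omega)
    obtain ⟨b, rfl⟩ : ∃ b, k = L.length + b := ⟨k - L.length, by omega⟩
    exact SN.gen hq (by rw [finrank_fin_fun]; omega) hT0 (h.sn hq hL hd hT0 (by omega) le_rfl)
      (h.sn hq hL hd hT0 (by omega) (by omega)) μ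

end Cfsg.Agent.H166.Cov
end

-- part: H166/Cov/Peel
section
/-!
# The peel lemma
-/

set_option autoImplicit false

namespace Cfsg.Agent.H166.Cov

open Module Polynomial

universe u

variable {F : Type u} [Field F] {V W U : Type u} [AddCommGroup V] [Module F V]
  [AddCommGroup W] [Module F W] [AddCommGroup U] [Module F U]

/-- `g` is a product of `k` conjugates of `T` under the special linear group, without a common
eigenvector for `μ` -/
def HPSN (T : End F V) (k : ℕ) (μ : F) (g : End F V) : Prop :=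
  ∃ L : List (End F V), L.length = k ∧ (∀ A ∈ L, SimS T A) ∧ L.prod = g ∧
    ∀ u, (∀ A ∈ L, A u = μ • u) → u = 0

theorem HPSN.hps {T : End F V} {k : ℕ} {μ : F} {g : End F V} (h : HPSN T k μ g) : HPS T k g := by
  obtain ⟨L, h1, h2, h3, -⟩ := h
  exact ⟨L, h1, h2, h3⟩

theorem HPSN.hpn {T : End F V} {k : ℕ} {μ : F} {g : End F V} (h : HPSN T k μ g) : HPN T k μ g := by
  obtain ⟨L, h1, h2, h3, h4⟩ := h
  exact ⟨L, h1, fun A hA => (h2 A hA).sim, h3, h4⟩

theorem HPSN.conj {T : End F V} {k : ℕ} {μ : F} {g g' : End F V} (h : HPSN T k μ g)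
    (hg : SimS g g') : HPSN T k μ g' := by
  obtain ⟨L, h1, h2, h3, h4⟩ := h
  obtain ⟨e, hd, he⟩ := hg
  refine ⟨L.map fun A => e.conj A, by simpa using h1, ?_, ?_, ?_⟩
  · intro A hA
    obtain ⟨B, hB, rfl⟩ := List.mem_map.1 hA
    exact (h2 B hB).trans ⟨e, hd, fun x => by simp [LinearEquiv.conj_apply]⟩
  · rw [prod_map_conj, h3, Sim.eq_conj he]
  · intro x hx
    have := h4 (e.symm x) (fun A hA => by
      have h5 := hx _ (List.mem_map.2 ⟨A, hA, rfl⟩)
      rw [LinearEquiv.conj_apply] at h5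
      simp only [LinearMap.comp_apply, LinearEquiv.coe_coe] at h5
      rw [← e.symm_apply_apply (A (e.symm x)), h5, map_smul])
    simpa using this

theorem up_mul (P P' : End F U) (R R' : W →ₗ[F] U) (T T' : End F W) :
    up P R T * up P' R' T' = up (P * P') (P ∘ₗ R' + R ∘ₗ T') (T * T') := by
  refine LinearMap.ext fun x => ?_
  rw [Module.End.mul_apply, up_apply, up_apply, up_apply]
  simp only [Module.End.mul_apply, map_add, LinearMap.add_apply, LinearMap.comp_apply, add_assoc]

theorem det_smul_one (c : F) : LinearMap.det (c • (1 : End F F)) = c := by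
  rw [LinearMap.det_smul, map_one, finrank_self, pow_one, mul_one]

/-- one lift -/
theorem lift_one [FiniteDimensional F W] {l : F} (ρ : W →ₗ[F] F) {T A : End F W} (h : Sim T A) :
    ∃ R₀ : W →ₗ[F] F, ∀ σ : W →ₗ[F] F, SimS (up (l • (1 : End F F)) ρ T)
      (up (l • (1 : End F F)) (R₀ + σ ∘ₗ (A - l • (1 : End F W))) A) := by
  obtain ⟨x, hx⟩ := h
  have hd0 : LinearMap.det (x : W →ₗ[F] W) ≠ 0 := (LinearEquiv.isUnit_det' x).ne_zero
  set c : F := (LinearMap.det (x : W →ₗ[F] W))⁻¹ with hc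
  have hc0 : c ≠ 0 := inv_ne_zero hd0
  refine ⟨c • (ρ ∘ₗ (x.symm : W →ₗ[F] W)), fun σ => ?_⟩
  let h : (F × W) ≃ₗ[F] (F × W) :=
    { toFun := fun y => (c * y.1 + σ (x y.2), x y.2)
      map_add' := fun y z => by
        refine Prod.ext ?_ (map_add x _ _)
        simp only [Prod.fst_add, Prod.snd_add, map_add]
        ring
      map_smul' := fun r y => by
        refine Prod.ext ?_ (map_smul x _ _)
        simp only [Prod.smul_fst, Prod.smul_snd, map_smul, smul_eq_mul, RingHom.id_apply]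
        ring
      invFun := fun y => (c⁻¹ * (y.1 - σ y.2), x.symm y.2)
      left_inv := fun y => by
        refine Prod.ext ?_ (x.symm_apply_apply _)
        simp only [add_sub_cancel_right]
        rw [← mul_assoc, inv_mul_cancel₀ hc0, one_mul]
      right_inv := fun y => by
        refine Prod.ext ?_ (x.apply_symm_apply _)
        simp only [LinearEquiv.apply_symm_apply]
        rw [← mul_assoc, mul_inv_cancel₀ hc0, one_mul, sub_add_cancel] }
  have hh : ∀ y, h y = (c * y.1 + σ (x y.2), x y.2) := fun _ => rfl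
  refine ⟨h, ?_, fun y => ?_⟩
  · have h1 : (h : (F × W) →ₗ[F] (F × W)) = up (c • (1 : End F F)) (σ ∘ₗ (x : W →ₗ[F] W)) (x : W →ₗ[F] W) :=
      LinearMap.ext fun y => rfl
    rw [h1, det_up, det_smul_one, hc, inv_mul_cancel₀ hd0]
  · rw [hh, hh, up_apply, up_apply]
    refine Prod.ext ?_ (hx _)
    simp only [LinearMap.smul_apply, Module.End.one_apply, LinearMap.add_apply, LinearMap.comp_apply,
      LinearEquiv.coe_coe, LinearEquiv.symm_apply_apply, LinearMap.sub_apply, map_sub, map_smul,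
      smul_eq_mul, hx]
    ring

/-- lift of a list -/
theorem lift_list [FiniteDimensional F W] {l : F} (hl : l ≠ 0) (ρ : W →ₗ[F] F) {T : End F W}
    (L : List (End F W)) (hL : ∀ A ∈ L, Sim T A) :
    ∃ R₀ : W →ₗ[F] F, ∀ τ : W →ₗ[F] F, (∀ w, (∀ A ∈ L, A w = l • w) → τ w = 0) →
      ∃ L' : List (End F (F × W)), L'.length = L.length ∧
        (∀ B ∈ L', SimS (up (l • (1 : End F F)) ρ T) B) ∧
        L'.prod = up (l ^ L.length • (1 : End F F)) (R₀ + τ) L.prod ∧
        ∀ A ∈ L, ∃ B ∈ L', ∀ x, (B x).2 = A x.2 := by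
  induction L with
  | nil =>
    refine ⟨0, fun τ hτ => ⟨[], rfl, by simp, ?_, by simp⟩⟩
    have h1 : τ = 0 := LinearMap.ext fun w => hτ w (by simp)
    subst h1
    refine LinearMap.ext fun x => ?_
    rw [up_apply]
    simp
  | cons A L ih =>
    obtain ⟨R₀, hR⟩ := ih fun B hB => hL B (List.mem_cons_of_mem _ hB)
    obtain ⟨R₁, hR₁⟩ := lift_one (l := l) ρ (hL A List.mem_cons_self)
    refine ⟨l • R₀ + R₁ ∘ₗ L.prod, fun τ hτ => ?_⟩
    -- decompose `τ`
    let E : Submodule F W :=
      { carrier := {w | ∀ B ∈ L, B w = l • w}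
        add_mem' := fun {a b} ha hb B hB => by rw [map_add, ha B hB, hb B hB, smul_add]
        zero_mem' := fun B _ => by simp
        smul_mem' := fun c x hx B hB => by rw [map_smul, hx B hB, smul_comm] }
    have hE : ∀ w, w ∈ E ↔ ∀ B ∈ L, B w = l • w := fun _ => Iff.rfl
    have h1 : (τ : Dual F W) ∈ (LinearMap.ker (A - l • (1 : End F W)) ⊓ E).dualAnnihilator := by
      rw [Submodule.mem_dualAnnihilator]
      intro w hw
      obtain ⟨hw1, hw2⟩ := Submodule.mem_inf.1 hw
      refine hτ w fun B hB => ?_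
      rcases List.mem_cons.1 hB with rfl | hB
      · have h2 := LinearMap.mem_ker.1 hw1
        rw [LinearMap.sub_apply, sub_eq_zero] at h2
        simpa using h2
      · exact hw2 B hB
    rw [Subspace.dualAnnihilator_inf_eq, Submodule.mem_sup] at h1
    obtain ⟨τ₁, h2, τ₂, h3, h4⟩ := h1
    rw [← LinearMap.range_dualMap_eq_dualAnnihilator_ker] at h2
    obtain ⟨σ, hσ⟩ := h2
    have hσ' : ∀ w, τ₁ w = σ ((A - l • (1 : End F W)) w) := fun w => by rw [← hσ]; rfl
    set k := L.length with hk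
    have hlk : l ^ k ≠ 0 := pow_ne_zero _ hl
    let σ' : W →ₗ[F] F := (l ^ k)⁻¹ • σ
    let τ' : W →ₗ[F] F := l⁻¹ • (τ - (σ' ∘ₗ (A - l • (1 : End F W))) ∘ₗ L.prod)
    obtain ⟨L', g1, g2, g3, g4⟩ := hR τ' (by
      intro w hw
      have h5 : τ₂ w = 0 := (Submodule.mem_dualAnnihilator τ₂).1 h3 w ((hE w).2 hw)
      have h6 : τ w = τ₁ w + τ₂ w := by rw [← h4]; rfl
      have h7 : L.prod w = l ^ k • w := common_pow hw
      change l⁻¹ * (τ w - (l ^ k)⁻¹ * σ ((A - l • (1 : End F W)) (L.prod w))) = 0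
      rw [h7, map_smul, map_smul, ← hσ', h6, h5, smul_eq_mul, ← mul_assoc, inv_mul_cancel₀ hlk, one_mul,
        add_zero, sub_self, mul_zero])
    refine ⟨up (l • (1 : End F F)) (R₁ + σ' ∘ₗ (A - l • (1 : End F W))) A :: L',
      by rw [List.length_cons, List.length_cons, g1], ?_, ?_, ?_⟩
    · intro B hB
      rcases List.mem_cons.1 hB with rfl | hB
      · exact hR₁ σ'
      · exact g2 B hB
    · rw [List.prod_cons, g3, up_mul, List.length_cons, List.prod_cons, ← hk]
      congr 1
      · rw [smul_mul_smul_comm, mul_one, pow_succ']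
      · refine LinearMap.ext fun w => ?_
        simp only [LinearMap.add_apply, LinearMap.comp_apply, LinearMap.smul_apply, Module.End.one_apply,
          smul_eq_mul, τ', LinearMap.sub_apply]
        field_simp
        ring
    · intro B hB
      rcases List.mem_cons.1 hB with rfl | hB
      · exact ⟨_, List.mem_cons_self, fun x => rfl⟩
      · obtain ⟨C, hC, hC'⟩ := g4 B hB
        exact ⟨C, List.mem_cons_of_mem _ hC, hC'⟩

theorem eq_up {G : End F (F × W)} {c : F} (h : G (1, 0) = c • (1, 0)) :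
    ∃ (ρ : W →ₗ[F] F) (G₁ : End F W), G = up (c • (1 : End F F)) ρ G₁ := by
  refine ⟨LinearMap.fst F F W ∘ₗ G ∘ₗ LinearMap.inr F F W,
    LinearMap.snd F F W ∘ₗ G ∘ₗ LinearMap.inr F F W, LinearMap.ext fun x => ?_⟩
  have h1 : x = x.1 • ((1, 0) : F × W) + (0, x.2) := by
    refine Prod.ext ?_ ?_ <;> simp
  have h2 : G x = x.1 • c • ((1, 0) : F × W) + G (0, x.2) := by
    conv_lhs => rw [h1]
    rw [map_add, map_smul, h]
  rw [h2, up_apply]
  refine Prod.ext ?_ ?_
  · simp only [Prod.fst_add, Prod.smul_fst, LinearMap.smul_apply, Module.End.one_apply,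
      LinearMap.comp_apply, LinearMap.inr_apply, LinearMap.fst_apply, smul_eq_mul]
    ring
  · simp

theorem det_ne_zero_surj [FiniteDimensional F V] {g : End F V} (h : LinearMap.det g ≠ 0) :
    Function.Surjective g := (LinearMap.equivOfDetNeZero g h).surjective

theorem peel [FiniteDimensional F W] (hW : 2 ≤ finrank F W) {T' : End F W} (hT' : NS T') {l : F}
    (hl : l ≠ 0) (hT0 : LinearMap.det T' ≠ 0) {k : ℕ} (hgen : Gen T' k l) (ρ : W →ₗ[F] F)
    {g : End F (F × W)} (hg : NS g)
    (hd : LinearMap.det g = LinearMap.det (up (l • (1 : End F F)) ρ T') ^ (k + 1)) :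
    HPSN (up (l • (1 : End F F)) ρ T') (k + 1) l g := by
  set T := up (l • (1 : End F F)) ρ T' with hTdef
  have hfr : finrank F (F × W) = finrank F W + 1 := by rw [finrank_prod, finrank_self, add_comm]
  have hdT : LinearMap.det T = l * LinearMap.det T' := by rw [hTdef, det_up, det_smul_one]
  have hdT0 : LinearMap.det T ≠ 0 := by rw [hdT]; exact mul_ne_zero hl hT0
  have hgd0 : LinearMap.det g ≠ 0 := by rw [hd]; exact pow_ne_zero _ hdT0
  -- reduction to `g e₀ ∉ F e₀`
  suffices H : ∀ g : End F (F × W), LinearMap.det g = LinearMap.det T ^ (k + 1) →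
      (∀ c : F, g (1, 0) ≠ c • (1, 0)) → HPSN T (k + 1) l g by
    obtain ⟨v, hv⟩ := hg.exists_vec
    have hv0 : v ≠ 0 := by
      rintro rfl
      exact hv 0 (by simp)
    obtain ⟨E, hE, hE'⟩ := exists_sl_map (F := F) (ι := Unit) (u := fun _ => v)
      (u' := fun _ => ((1, 0) : F × W)) (LinearIndependent.of_subsingleton () hv0)
      (LinearIndependent.of_subsingleton () (by simp)) (by
        rw [hfr, Nat.card_eq_fintype_card, Fintype.card_unit]; omega)
    have hs : SimS g (E.conj g) := ⟨E, hE, fun x => by simp [LinearEquiv.conj_apply]⟩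
    have hs' : SimS (E.conj g) g := hs.symm
    refine (H (E.conj g) (by rw [← hs.sim.det, hd]) fun c hc => hv c ?_).conj hs'
    have h1 : E v = (1, 0) := hE' ()
    rw [← h1, LinearEquiv.conj_apply] at hc
    simp only [LinearMap.comp_apply, LinearEquiv.coe_coe, LinearEquiv.symm_apply_apply] at hc
    rw [← map_smul] at hc
    exact E.injective hc
  clear hg hd hgd0 g
  intro g hd hg
  have hgd0 : LinearMap.det g ≠ 0 := by rw [hd]; exact pow_ne_zero _ hdT0
  set e₀ : F × W := (1, 0) with he₀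
  have he₀0 : e₀ ≠ 0 := by simp [he₀]
  obtain ⟨w, hw⟩ : ∃ w : F × W, w = (l ^ k)⁻¹ • g e₀ := ⟨_, rfl⟩
  have hlk : l ^ k ≠ 0 := pow_ne_zero _ hl
  have hwc : ∀ c : F, w ≠ c • e₀ := by
    intro c hc
    apply hg (l ^ k * c)
    rw [mul_smul, ← hc, hw, smul_smul, mul_inv_cancel₀ hlk, one_smul]
  have hgw : g e₀ = l ^ k • w := by rw [hw, smul_smul, mul_inv_cancel₀ hlk, one_smul]
  -- it suffices to find `A` with `G₁` nonscalar
  suffices H : ∃ A B : End F (F × W), SimS T A ∧ A e₀ = w ∧ A * B = 1 ∧ B * A = 1 ∧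
      ∀ c : F, ∃ y : W, (B (g (0, y))).2 ≠ c • y by
    obtain ⟨A, B, hTA, hAe, hAB, hBA, hns⟩ := H
    have h1 : (B * g) e₀ = l ^ k • e₀ := by
      rw [Module.End.mul_apply, hgw, ← hAe, map_smul, ← Module.End.mul_apply, hBA, Module.End.one_apply]
    obtain ⟨ρ', G₁, hG⟩ := eq_up h1
    have hG1 : NS G₁ := by
      intro c hc
      obtain ⟨y, hy⟩ := hns c
      apply hy
      have h2 := LinearMap.congr_fun hG (0, y)
      rw [Module.End.mul_apply, up_apply] at h2
      rw [h2, hc]
      simp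
    have hGd : LinearMap.det G₁ = LinearMap.det T' ^ k := by
      have h2 : LinearMap.det (B * g) = l ^ k * LinearMap.det G₁ := by rw [hG, det_up, det_smul_one]
      have h3 : LinearMap.det A * LinearMap.det B = 1 := by rw [← map_mul, hAB, map_one]
      rw [← hTA.sim.det, hdT] at h3
      rw [map_mul, hd, hdT] at h2
      have h4 : l ^ k * LinearMap.det G₁ = l ^ k * LinearMap.det T' ^ k := by
        rw [← h2, pow_succ', ← mul_assoc, mul_comm (LinearMap.det B), h3, one_mul, mul_pow]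
      exact mul_left_cancel₀ hlk h4
    obtain ⟨L, g1, g2, g3, g4⟩ := hgen G₁ hG1 hGd
    obtain ⟨R₀, hR⟩ := lift_list hl ρ L g2
    obtain ⟨L', f1, f2, f3, f4⟩ := hR (ρ' - R₀) fun w hw => by rw [g4 w hw, map_zero]
    refine ⟨A :: L', by rw [List.length_cons, f1, g1], ?_, ?_, ?_⟩
    · intro C hC
      rcases List.mem_cons.1 hC with rfl | hC
      · exact hTA
      · exact f2 C hC
    · rw [List.prod_cons, f3, g1, g3, add_sub_cancel, ← hG, ← mul_assoc, hAB, one_mul]
    · intro u hu
      have h2 : u.2 = 0 := g4 u.2 fun C hC => by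
        obtain ⟨D, hD, hD'⟩ := f4 C hC
        rw [← hD' u, hu D (List.mem_cons_of_mem _ hD)]
        rfl
      have h3 : u = u.1 • e₀ := by
        refine Prod.ext ?_ ?_ <;> simp [he₀, h2]
      have h4 := hu A List.mem_cons_self
      rw [h3, map_smul, hAe] at h4
      by_contra hne
      have h5 : u.1 ≠ 0 := fun h => hne (by rw [h3, h, zero_smul])
      exact hwc l (by
        rw [smul_comm] at h4
        exact smul_right_injective _ h5 h4)
  -- construction of `A`
  have hTns : NS T := by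
    intro c hc
    apply hT' c
    refine LinearMap.ext fun y => ?_
    have h1 := congrArg Prod.snd (LinearMap.congr_fun hc (0, y))
    rw [hTdef, up_apply] at h1
    simpa using h1
  obtain ⟨x, hx⟩ := hTns.exists_vec
  have hx0 : x ≠ 0 := by
    rintro rfl
    exact hx 0 (by simp)
  have hli : ∀ a b : F × W, a ≠ 0 → (∀ c : F, b ≠ c • a) → LinearIndependent F ![a, b] := by
    intro a b ha hb
    rw [LinearIndependent.pair_iff]
    intro s t hst
    have ht : t = 0 := by
      by_contra ht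
      apply hb (-(t⁻¹ * s))
      have h1 : t • b = -(s • a) := by
        rw [eq_neg_iff_add_eq_zero, add_comm]; exact hst
      rw [neg_smul, mul_smul, ← smul_neg, ← h1, smul_smul, inv_mul_cancel₀ ht, one_smul]
    rw [ht, zero_smul, add_zero] at hst
    exact ⟨(smul_eq_zero.1 hst).resolve_right ha, ht⟩
  obtain ⟨h, hh1, hh2⟩ := exists_sl_map (hli x (T x) hx0 hx) (hli e₀ w he₀0 hwc) (by
    rw [hfr, Nat.card_eq_fintype_card, Fintype.card_fin]; omega)
  have hh3 : h x = e₀ := hh2 0
  have hh4 : h (T x) = w := hh2 1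
  have hA1 : SimS T (h.conj T) := ⟨h, hh1, fun y => by simp [LinearEquiv.conj_apply]⟩
  set A := h.conj T with hA
  have hAe : A e₀ = w := by
    rw [← hh3, ← hh4, hA, LinearEquiv.conj_apply]
    simp
  obtain ⟨B, hAB, hBA⟩ := exists_inv (g := A) (by rw [← hA1.sim.det]; exact hdT0)
  by_cases hns : ∀ c : F, ∃ y : W, (B (g (0, y))).2 ≠ c • y
  · exact ⟨A, B, hA1, hAe, hAB, hBA, hns⟩
  push Not at hns
  obtain ⟨s, hs⟩ := hns
  -- the transvection
  have hlt : Submodule.span F {e₀, w} < ⊤ := by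
    rw [lt_top_iff_ne_top]
    intro htop
    classical
    have h1 := finrank_span_finset_le_card (R := F) ({e₀, w} : Finset (F × W))
    rw [Set.finrank, Finset.coe_insert, Finset.coe_singleton, htop, finrank_top, hfr] at h1
    have h2 : ({e₀, w} : Finset (F × W)).card ≤ 2 := Finset.card_le_two
    omega
  obtain ⟨η, hη0, hη⟩ := Submodule.exists_le_ker_of_lt_top _ hlt
  have hη1 : η e₀ = 0 := hη (Submodule.subset_span (by simp))
  have hη2 : η w = 0 := hη (Submodule.subset_span (by simp))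
  let t : (F × W) ≃ₗ[F] (F × W) := LinearEquiv.transvection (f := η) (v := e₀) hη1
  have ht : ∀ y, t y = y + η y • e₀ := fun y => by
    simp [t, LinearMap.transvection.apply]
  have htd : LinearMap.det (t : (F × W) →ₗ[F] (F × W)) = 1 := by
    rw [← LinearEquiv.coe_det, LinearEquiv.transvection.det_eq_one, Units.val_one]
  have hts : ∀ y, t.symm y = y - η y • e₀ := by
    intro y
    rw [LinearEquiv.symm_apply_eq, ht, map_sub, map_smul, hη1, smul_zero, sub_zero, sub_add_cancel]
  have hA2 : SimS A (t.conj A) := ⟨t, htd, fun y => by simp [LinearEquiv.conj_apply]⟩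
  have hAB' : t.conj A * t.conj B = 1 := by
    refine LinearMap.ext fun y => ?_
    have h1 : A (B (t.symm y)) = t.symm y := LinearMap.congr_fun hAB _
    simp [LinearEquiv.conj_apply, h1]
  have hBA' : t.conj B * t.conj A = 1 := by
    refine LinearMap.ext fun y => ?_
    have h1 : B (A (t.symm y)) = t.symm y := LinearMap.congr_fun hBA _
    simp [LinearEquiv.conj_apply, h1]
  refine ⟨t.conj A, t.conj B, hA1.trans hA2, ?_, hAB', hBA', fun c => ?_⟩
  · rw [LinearEquiv.conj_apply]
    simp only [LinearMap.comp_apply, LinearEquiv.coe_coe]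
    rw [hts, hη1, zero_smul, sub_zero, hAe, ht, hη2, zero_smul, add_zero]
  · by_contra hcon
    push Not at hcon
    set z : W := (B e₀).2 with hz
    have hz0 : z ≠ 0 := by
      intro hz0
      have h1 : B e₀ = (B e₀).1 • e₀ := by
        refine Prod.ext ?_ ?_
        · simp [he₀]
        · rw [← hz, hz0]; simp [he₀]
      have h2 : A (B e₀) = e₀ := LinearMap.congr_fun hAB _
      rw [h1, map_smul, hAe] at h2
      have h3 : (B e₀).1 ≠ 0 := by
        intro h
        rw [h, zero_smul] at h2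
        exact he₀0 h2.symm
      exact hwc ((B e₀).1)⁻¹ ((eq_inv_smul_iff₀ h3).2 h2)
    -- the two scalars
    have h1 : ∀ y : W, (s - c) • y = η (g (0, y)) • z := by
      intro y
      have h2 := hcon y
      have h3 := hs y
      rw [LinearEquiv.conj_apply] at h2
      simp only [LinearMap.comp_apply, LinearEquiv.coe_coe] at h2
      rw [hts, ht, map_sub, map_smul] at h2
      have h4 : ∀ (a : F × W) (r : F), (a + r • e₀).2 = a.2 := fun a r => by simp [he₀]
      rw [h4] at h2
      simp only [Prod.snd_sub, Prod.smul_snd] at h2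
      rw [h3, ← hz] at h2
      rw [sub_smul, ← h2, sub_sub_cancel]
    have hsc : s = c := by
      by_contra hne
      have hsc : s - c ≠ 0 := sub_ne_zero.2 hne
      have h2 : Submodule.span F {z} = ⊤ := by
        rw [eq_top_iff]
        intro y _
        rw [Submodule.mem_span_singleton]
        exact ⟨(s - c)⁻¹ * η (g (0, y)), by
          rw [mul_smul, ← h1, smul_smul, inv_mul_cancel₀ hsc, one_smul]⟩
      have h3 := finrank_span_singleton (K := F) hz0
      rw [h2, finrank_top] at h3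
      omega
    have h2 : ∀ y : W, η (g (0, y)) = 0 := by
      intro y
      have h3 := h1 y
      rw [hsc, sub_self, zero_smul] at h3
      exact (smul_eq_zero.1 h3.symm).resolve_right hz0
    apply hη0
    refine LinearMap.ext fun y => ?_
    obtain ⟨a, rfl⟩ := det_ne_zero_surj hgd0 y
    have h3 : a = a.1 • e₀ + (0, a.2) := by
      refine Prod.ext ?_ ?_ <;> simp [he₀]
    rw [h3, map_add, map_add, h2, map_smul, map_smul, hgw, map_smul, hη2]
    simp

end Cfsg.Agent.H166.Cov
end

-- part: H166/Cov/SL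
section
/-!
# Products of conjugates under the special linear group
-/

set_option autoImplicit false

namespace Cfsg.Agent.H166.Cov

open Module Polynomial

universe u

variable {F : Type u} [Field F] {V W U : Type u} [AddCommGroup V] [Module F V]
  [AddCommGroup W] [Module F W] [AddCommGroup U] [Module F U]

theorem Full.sims {T S : End F V} (hT : Full T) (h : Sim T S) : SimS T S := by
  obtain ⟨e, he⟩ := h
  have hd0 : LinearMap.det (e : V →ₗ[F] V) ≠ 0 := (LinearEquiv.isUnit_det' e).ne_zero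
  obtain ⟨c, hc, hc'⟩ := hT _ (inv_ne_zero hd0)
  refine ⟨c.trans e, ?_, fun x => ?_⟩
  · rw [LinearEquiv.coe_trans, LinearMap.det_comp, hc, mul_inv_cancel₀ hd0]
  · rw [LinearEquiv.trans_apply, LinearEquiv.trans_apply, hc', he]

theorem HPS.sim {T M M' : End F V} {k : ℕ} (h : HPS T k M) (hM : Full M) (hs : Sim M M') :
    HPS T k M' := h.conj (hM.sims hs)

/-- nonscalar elements from nice elements -/
theorem HPS.of_nice [Finite F] (hq : 4 ≤ Nat.card F) [FiniteDimensional F V] (hn : 2 ≤ finrank F V)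
    {T : End F V} (hT0 : LinearMap.det T ≠ 0) {a b : ℕ} {ν ν' : F} {M X : End F V} (hM : Nice ν M)
    (h : HPS T a M) (hX : Nice ν' X) (h' : HPS T b X) {g : End F V} (hg : NS g)
    (hd : LinearMap.det g = LinearMap.det T ^ (a + b)) : HPS T (a + b) g := by
  obtain ⟨M', X', φ, h1, h2, h3, -, -⟩ := exists_fac' hq hn hg hM hX.coc
    (by rw [hd]; exact pow_ne_zero _ hT0) (by rw [hd, h.hp.det, h'.hp.det, pow_add])
  rw [h3]
  exact (h.sim (Full.of_nice hM) h1).mul (h'.sim (Full.of_nice hX) h2)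

theorem HPS.step [Finite F] (hq : 4 ≤ Nat.card F) [FiniteDimensional F V] (hn : 2 ≤ finrank F V)
    {T : End F V} (hT : NS T) (hT0 : LinearMap.det T ≠ 0) {k : ℕ} {ν' : F} {X : End F V}
    (hX : Nice ν' X) (h : HPS T k X) {ν : F} {M : End F V} (hM : Nice ν M)
    (hd : LinearMap.det M = LinearMap.det T ^ (k + 1)) : HPS T (k + 1) M := by
  obtain ⟨T', hT1, hT2⟩ := exists_inv hT0
  have hd1 : LinearMap.det T * LinearMap.det T' = 1 := by rw [← map_mul, hT1, map_one]
  obtain ⟨M', Y, φ, h1, h2, h3, -, -⟩ := exists_fac hq hn (hT.inv hT1) hM hX.coc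
    (by rw [hd]; exact pow_ne_zero _ hT0) (by rw [h.hp.det]; exact pow_ne_zero _ hT0) (by
      rw [hd, h.hp.det, pow_succ', ← mul_assoc, mul_comm (LinearMap.det T'), hd1, one_mul])
  have h4 : T * Y = M' := by rw [← h3, ← mul_assoc, hT1, one_mul]
  have h5 : HPS T (1 + k) (T * Y) := (HPS.one (SimS.refl T)).mul (h.sim (Full.of_nice hX) h2)
  rw [h4, add_comm] at h5
  exact h5.sim (Full.of_nice (hM.sim h1)) h1.symm

/-- some nice element is a product of `a` conjugates under the special linear group -/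
def SNS [FiniteDimensional F V] (T : End F V) (a : ℕ) : Prop :=
  ∃ (ν : F) (M : End F V), Nice ν M ∧ HPS T a M

theorem SNS.mono [Finite F] (hq : 4 ≤ Nat.card F) [FiniteDimensional F V] (hn : 2 ≤ finrank F V)
    {T : End F V} (hT : NS T) (hT0 : LinearMap.det T ≠ 0) {a b : ℕ} (h : SNS T a) (hab : a ≤ b) :
    SNS T b := by
  obtain ⟨b, rfl⟩ := Nat.exists_eq_add_of_le hab
  clear hab
  induction b with
  | zero => exact h
  | succ b ih =>
    obtain ⟨ν', X, h1, h2⟩ := ih
    obtain ⟨ν, M, -, h3, h4, -⟩ := exists_nice_end (V := V) hq hn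
      (δ := LinearMap.det T ^ (a + b + 1)) (pow_ne_zero _ hT0) 0
    exact ⟨ν, M, h3, h2.step hq hn hT hT0 h1 h3 h4⟩

theorem SNS.ns [Finite F] (hq : 4 ≤ Nat.card F) [FiniteDimensional F V] (hn : 2 ≤ finrank F V)
    {T : End F V} (hT : NS T) (hT0 : LinearMap.det T ≠ 0) {a k : ℕ} (h : SNS T a) (hk : 2 * a ≤ k)
    {g : End F V} (hg : NS g) (hd : LinearMap.det g = LinearMap.det T ^ k) : HPS T k g := by
  obtain ⟨ν, M, h1, h2⟩ := h
  obtain ⟨b, rfl⟩ : ∃ b, k = a + b := ⟨k - a, by omega⟩
  obtain ⟨ν', X, h1', h2'⟩ := SNS.mono hq hn hT hT0 ⟨ν, M, h1, h2⟩ (show a ≤ b by omega)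
  exact HPS.of_nice hq hn hT0 h1 h2 h1' h2' hg hd

/-- a scalar from the nonscalar elements -/
theorem scalar_of_ns [FiniteDimensional F V] {T : End F V} (hT : NS T)
    (hT0 : LinearMap.det T ≠ 0) {k : ℕ}
    (h : ∀ g : End F V, NS g → LinearMap.det g = LinearMap.det T ^ k → HPS T k g) {z : F}
    (hz : z ≠ 0) (hd : z ^ finrank F V = LinearMap.det T ^ (k + 1)) :
    HPS T (k + 1) (z • (1 : End F V)) := by
  obtain ⟨T', hT1, hT2⟩ := exists_inv hT0
  have hd1 : LinearMap.det T * LinearMap.det T' = 1 := by rw [← map_mul, hT1, map_one]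
  have h1 := h (z • T') ((hT.inv hT1).smul hz) (by
    rw [LinearMap.det_smul, hd, pow_succ, mul_assoc, hd1, mul_one])
  have h2 := (HPS.one (SimS.refl T)).mul h1
  rw [mul_smul_comm, hT1, add_comm] at h2
  exact h2

theorem scalar_of_ns' [FiniteDimensional F V] {T : End F V} (hT : NS T)
    (hT0 : LinearMap.det T ≠ 0) {k : ℕ}
    (h : ∀ g : End F V, NS g → LinearMap.det g = LinearMap.det T ^ k → HP T k g) {z : F}
    (hz : z ≠ 0) (hd : z ^ finrank F V = LinearMap.det T ^ (k + 1)) :
    HP T (k + 1) (z • (1 : End F V)) := by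
  obtain ⟨T', hT1, hT2⟩ := exists_inv hT0
  have hd1 : LinearMap.det T * LinearMap.det T' = 1 := by rw [← map_mul, hT1, map_one]
  have h1 := h (z • T') ((hT.inv hT1).smul hz) (by
    rw [LinearMap.det_smul, hd, pow_succ, mul_assoc, hd1, mul_one])
  have h2 := (HP.one (Sim.refl T)).mul h1
  rw [mul_smul_comm, hT1, add_comm] at h2
  exact h2

/-- lift along a block with full centralizer -/
theorem plift_one [FiniteDimensional F U] [FiniteDimensional F W] {P A : End F U} (hP : Full P)
    (R : W →ₗ[F] U) {T B : End F W} (hA : Sim P A) (hB : Sim T B) :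
    ∃ R' : W →ₗ[F] U, SimS (up P R T) (up A R' B) := by
  obtain ⟨y, hy⟩ := hA
  obtain ⟨x, hx⟩ := hB
  have hd0 : LinearMap.det (y : U →ₗ[F] U) * LinearMap.det (x : W →ₗ[F] W) ≠ 0 :=
    mul_ne_zero (LinearEquiv.isUnit_det' y).ne_zero (LinearEquiv.isUnit_det' x).ne_zero
  obtain ⟨c, hc, hc'⟩ := hP _ (inv_ne_zero hd0)
  refine ⟨((c.trans y : U ≃ₗ[F] U) : U →ₗ[F] U) ∘ₗ R ∘ₗ (x.symm : W →ₗ[F] W),
    (c.trans y).prodCongr x, ?_, fun v => ?_⟩
  · have h1 : (((c.trans y).prodCongr x : (U × W) ≃ₗ[F] (U × W)) : (U × W) →ₗ[F] (U × W)) =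
      LinearMap.prodMap ((c.trans y : U ≃ₗ[F] U) : U →ₗ[F] U) (x : W →ₗ[F] W) := rfl
    rw [h1]
    refine (LinearMap.det_prodMap _ _).trans ?_
    rw [LinearEquiv.coe_trans, LinearMap.det_comp, hc, mul_inv]
    have h2 := left_ne_zero_of_mul hd0
    have h3 := right_ne_zero_of_mul hd0
    field_simp
  · rw [up_apply, up_apply]
    refine Prod.ext ?_ (hx _)
    change y (c (P v.1 + R v.2)) = A (y (c v.1)) + y (c (R (x.symm (x v.2))))
    rw [map_add, map_add, hc', hy, LinearEquiv.symm_apply_apply]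

theorem plift [FiniteDimensional F U] [FiniteDimensional F W] {P : End F U} (hP : Full P)
    (R : W →ₗ[F] U) {T : End F W} {k : ℕ} {A : End F U} {B : End F W} (hA : HP P k A)
    (hB : HP T k B) : ∃ R' : W →ₗ[F] U, HPS (up P R T) k (up A R' B) := by
  induction k generalizing A B with
  | zero =>
    obtain ⟨L, h1, h2, rfl⟩ := hA
    obtain ⟨L', h1', h2', rfl⟩ := hB
    rw [List.length_eq_zero_iff] at h1 h1'
    subst h1 h1'
    refine ⟨0, [], rfl, by simp, ?_⟩
    refine LinearMap.ext fun x => ?_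
    rw [up_apply]
    simp
  | succ k ih =>
    obtain ⟨L, h1, h2, rfl⟩ := hA
    obtain ⟨L', h1', h2', rfl⟩ := hB
    obtain ⟨A, L, rfl⟩ := List.exists_cons_of_length_eq_add_one h1
    obtain ⟨B, L', rfl⟩ := List.exists_cons_of_length_eq_add_one h1'
    obtain ⟨R₁, h3⟩ := ih (A := L.prod) (B := L'.prod)
      ⟨L, by simpa using h1, fun C hC => h2 C (List.mem_cons_of_mem _ hC), rfl⟩
      ⟨L', by simpa using h1', fun C hC => h2' C (List.mem_cons_of_mem _ hC), rfl⟩
    obtain ⟨R₂, h4⟩ := plift_one hP R (h2 A List.mem_cons_self) (h2' B List.mem_cons_self)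
    have h5 := (HPS.one h4).mul h3
    rw [add_comm, up_mul] at h5
    rw [List.prod_cons, List.prod_cons]
    exact ⟨_, h5⟩

end Cfsg.Agent.H166.Cov
end

-- part: H166/Cov/Lin
section
/-!
# Scalar summands
-/

set_option autoImplicit false

namespace Cfsg.Agent.H166.Cov

open Module Polynomial

universe u

variable {F : Type u} [Field F] {V W U : Type u} [AddCommGroup V] [Module F V]
  [AddCommGroup W] [Module F W] [AddCommGroup U] [Module F U]

theorem sim_smul_one [FiniteDimensional F V] [FiniteDimensional F W] (l : F)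
    (h : finrank F V = finrank F W) : Sim (l • (1 : End F V)) (l • (1 : End F W)) :=
  Cfsg.Agent.H71.CovScal.sim_smul_one l h

theorem Sim.prod_assoc (S : End F V) (T : End F W) (R : End F U) :
    Sim ((S.prodMap T).prodMap R) (S.prodMap (T.prodMap R)) :=
  Cfsg.Agent.H269.CovDec.sim_prodAssoc S T R

theorem smul_one_prodMap (c : F) :
    (c • (1 : End F V)).prodMap (c • (1 : End F W)) = c • (1 : End F (V × W)) :=
  Cfsg.Agent.H71.CovScal.smul_prodMap c

theorem eq_smul_one_of_charpoly [FiniteDimensional F V] {T : End F V} {l : F}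
    (h : LinearMap.charpoly T = X - C l) : T = l • (1 : End F V) := by
  have h1 := LinearMap.aeval_self_charpoly T
  rw [h, map_sub, aeval_X, aeval_C, sub_eq_zero] at h1
  rw [h1, Algebra.algebraMap_eq_smul_one]

theorem dec_replicate {l : F} {L : List F[X]} (c : ℕ) : ∀ {m : ℕ} {T : End F (Fin m → F)},
    Dec (List.replicate c (X - C l) ++ L) T → ∃ (m₀ : ℕ) (T₀ : End F (Fin m₀ → F)), Dec L T₀ ∧
      m = c + m₀ ∧ Sim T ((l • (1 : End F (Fin c → F))).prodMap T₀) := by
  induction c with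
  | zero =>
    intro m T h
    refine ⟨m, T, h, by omega, ?_⟩
    exact ((Sim.prod_comm _ _).trans (sim_prod_zero T (l • (1 : End F (Fin 0 → F))))).symm
  | succ c ih =>
    intro m T h
    rw [List.replicate_succ, List.cons_append] at h
    obtain ⟨m₁, m₂, T₁, T₂, h1, h2, h3, h4⟩ := h
    obtain rfl : m₁ = 1 := by
      have := LinearMap.charpoly_natDegree T₁
      rw [h2, natDegree_X_sub_C, finrank_fin_fun] at this
      exact this.symm
    obtain ⟨m₀, T₀, g1, rfl, g2⟩ := ih h3
    have hm := h4.finrank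
    rw [finrank_prod, finrank_fin_fun, finrank_fin_fun, finrank_fin_fun] at hm
    refine ⟨m₀, T₀, g1, by omega, ?_⟩
    rw [eq_smul_one_of_charpoly h2] at h4
    refine h4.trans (((Sim.refl _).prodMap g2).trans ((Sim.prod_assoc _ _ _).symm.trans ?_))
    rw [smul_one_prodMap]
    refine (sim_smul_one l ?_).prodMap (Sim.refl _)
    rw [finrank_prod, finrank_fin_fun, finrank_fin_fun, finrank_fin_fun, add_comm]

theorem gen_lin [FiniteDimensional F W] (hW : 2 ≤ finrank F W) {T : End F W} (hT : NS T)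
    (hT0 : LinearMap.det T ≠ 0) {l : F} (hl : l ≠ 0) {k : ℕ} (h : Gen T k l) (c : ℕ) :
    Gen ((l • (1 : End F (Fin c → F))).prodMap T) (c + k) l := by
  induction c with
  | zero =>
    rw [zero_add]
    exact h.sim ((Sim.prod_comm _ _).trans (sim_prod_zero T (l • (1 : End F (Fin 0 → F))))).symm
  | succ c ih =>
    have h1 : Sim (up (l • (1 : End F F)) 0 ((l • (1 : End F (Fin c → F))).prodMap T))
        ((l • (1 : End F (Fin (c + 1) → F))).prodMap T) := by
      rw [← prodMap_eq_up]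
      refine (Sim.prod_assoc _ _ _).symm.trans ?_
      rw [smul_one_prodMap]
      refine (sim_smul_one l ?_).prodMap (Sim.refl _)
      rw [finrank_prod, finrank_fin_fun, finrank_fin_fun, finrank_self, add_comm]
    have h2 := fun g hg hd => (peel (W := (Fin c → F) × W) (by
      rw [finrank_prod]; omega) (hT.prodMap_right _) hl (by
        rw [LinearMap.det_prodMap, LinearMap.det_smul, map_one, mul_one]
        exact mul_ne_zero (pow_ne_zero _ hl) hT0) ih 0 (g := g) hg hd).hpn
    rw [show c + 1 + k = c + k + 1 by ring]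
    exact Gen.sim h1 h2

theorem full_smul_one [FiniteDimensional F V] (hV : 0 < finrank F V) (l : F) :
    Full (l • (1 : End F V)) := by
  intro c hc
  obtain ⟨e, he⟩ := exists_det (F := F) (V := V) hV hc
  exact ⟨e, he, fun x => by simp⟩

end Cfsg.Agent.H166.Cov
end

-- part: H166/Cov/Scal
section
/-!
# Scalars as products: special classes
-/

set_option autoImplicit false

namespace Cfsg.Agent.H166.Cov

open Module Polynomial

universe u

variable {F : Type u} [Field F] {V W U : Type u} [AddCommGroup V] [Module F V]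
  [AddCommGroup W] [Module F W] [AddCommGroup U] [Module F U]

theorem charpoly_dec {L : List F[X]} : ∀ {m : ℕ} {T : End F (Fin m → F)}, Dec L T →
    LinearMap.charpoly T = L.prod := by
  induction L with
  | nil =>
    intro m T h
    obtain rfl : m = 0 := h
    refine (LinearMap.charpoly_monic T).natDegree_eq_zero.1 ?_
    rw [LinearMap.charpoly_natDegree, finrank_fin_fun]
  | cons f L ih =>
    intro m T h
    obtain ⟨m₂, T₁, T₂, h1, h2, h3, h4⟩ := dec_cons h
    rw [h4.charpoly, LinearMap.charpoly_prodMap, h2, ih h3, List.prod_cons]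

theorem Sim.aeval_zero {S : End F V} {T : End F W} (h : Sim S T) {q : F[X]} (hq : aeval S q = 0) :
    aeval T q = 0 := by
  obtain ⟨e, he⟩ := h
  refine LinearMap.ext fun y => ?_
  have h1 := Cfsg.Agent.H560.CovC.aeval_apply_of_comm (e : V →ₗ[F] W) he q (e.symm y)
  rw [hq, LinearMap.zero_apply, map_zero] at h1
  simpa using h1.symm

theorem aeval_dec {q : F[X]} {L : List F[X]} : ∀ {m : ℕ} {T : End F (Fin m → F)}, Dec L T →
    (∀ f ∈ L, f ∣ q) → aeval T q = 0 := by
  induction L with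
  | nil =>
    intro m T h _
    obtain rfl : m = 0 := h
    exact Subsingleton.elim _ _
  | cons f L ih =>
    intro m T h hd
    obtain ⟨m₂, T₁, T₂, h1, h2, h3, h4⟩ := dec_cons h
    refine h4.symm.aeval_zero (LinearMap.ext fun x => ?_)
    rw [Cfsg.Agent.H269.CovDec.aeval_prodMap, ih h3 fun g hg => hd g (List.mem_cons_of_mem _ hg)]
    obtain ⟨r, hr⟩ := hd f List.mem_cons_self
    have h5 : aeval T₁ q = 0 := by
      have h6 := LinearMap.aeval_self_charpoly T₁
      rw [h2] at h6
      rw [hr, map_mul, h6, zero_mul]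
    rw [h5]
    rfl

theorem HP.smul {T : End F V} {g : End F W} {k : ℕ} (h : HP T k g) (c : F) :
    HP (c • T) k (c ^ k • g) := by
  obtain ⟨L, rfl, h2, rfl⟩ := h
  refine ⟨L.map fun A => c • A, by simp, ?_, ?_⟩
  · intro A hA
    obtain ⟨B, hB, rfl⟩ := List.mem_map.1 hA
    exact (h2 B hB).smul c
  · clear h2
    induction L with
    | nil => simp
    | cons A L ih =>
      rw [List.map_cons, List.prod_cons, ih, List.prod_cons, List.length_cons,
        smul_mul_smul_comm, pow_succ']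

theorem HPS.smul {T : End F V} {g : End F V} {k : ℕ} (h : HPS T k g) (c : F) :
    HPS (c • T) k (c ^ k • g) := Cfsg.Agent.H12.CovQ.hps_smul h c

theorem HP.scal_mul {T : End F V} {a b : ℕ} {x y : F} (h : HP T a (x • (1 : End F W)))
    (h' : HP T b (y • (1 : End F W))) : HP T (a + b) ((x * y) • (1 : End F W)) := by
  have h1 := h.mul h'
  rwa [smul_mul_smul_comm, mul_one] at h1

theorem HP.scal_pow {T : End F V} {a : ℕ} {x : F} (h : HP T a (x • (1 : End F W))) (m : ℕ) :
    HP T (a * m) (x ^ m • (1 : End F W)) := by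
  induction m with
  | zero => exact ⟨[], by simp, by simp, by simp⟩
  | succ m ih =>
    rw [mul_add, mul_one, pow_succ]
    exact ih.scal_mul h

theorem HPS.scal_mul {T : End F V} {a b : ℕ} {x y : F} (h : HPS T a (x • (1 : End F V)))
    (h' : HPS T b (y • (1 : End F V))) : HPS T (a + b) ((x * y) • (1 : End F V)) := by
  have h1 := h.mul h'
  rwa [smul_mul_smul_comm, mul_one] at h1

/-- unipotent times scalar -/
theorem scalar_unip [Finite F] (hq : 4 ≤ Nat.card F) [FiniteDimensional F V] {T : End F V} {l : F}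
    (hl : l ≠ 0) {m : ℕ} (hT : aeval T ((X - C l) ^ m) = 0) {n : ℕ} (hn : 2 ≤ n) :
    HP T n (l ^ n • (1 : End F V)) := by
  rw [map_pow, map_sub, aeval_X, aeval_C, Algebra.algebraMap_eq_smul_one] at hT
  have h1 : IsNilpotent (l⁻¹ • (T - l • (1 : End F V))) :=
    ⟨m, by rw [_root_.smul_pow, hT, smul_zero]⟩
  have h2 := (scalar_of_nilp hq h1 hn).smul l
  have h3 : l • (1 + l⁻¹ • (T - l • (1 : End F V))) = T := by
    rw [smul_add, smul_smul, mul_inv_cancel₀ hl, one_smul, add_sub_cancel]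
  rwa [h3] at h2

/-- the quadratic irreducible case -/
theorem scalar_quad [Finite F] [FiniteDimensional F V] {T : End F V} {a b : F}
    (hirr : Irreducible (X ^ 2 - C a * X + C b : F[X]))
    (hT : aeval T (X ^ 2 - C a * X + C b : F[X]) = 0) (m : ℕ) :
    HP T (2 * m) (b ^ m • (1 : End F V)) := by
  have h1 : T * T = a • T - b • 1 := by
    rw [map_add, map_sub, map_pow, map_mul, aeval_X, aeval_C, aeval_C,
      Algebra.algebraMap_eq_smul_one, Algebra.algebraMap_eq_smul_one, smul_one_mul, pow_two] at hT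
    rw [← sub_eq_zero, ← hT]
    abel
  have h2 := sim_sub_of_quadratic hirr h1
  have h3 := (HP.one (Sim.refl T)).mul (HP.one h2)
  have h4 : T * (a • 1 - T) = b • (1 : End F V) := by
    rw [mul_sub, h1, mul_smul_comm, mul_one, sub_sub_cancel]
  rw [h4] at h3
  exact h3.scal_pow m

/-- the diagonalizable case with two eigenvalues -/
theorem scalar_diag2 [FiniteDimensional F V] {T : End F V} (hT0 : LinearMap.det T ≠ 0) {α β : F}
    (hαβ : α ≠ β) (hT : aeval T ((X - C α) * (X - C β)) = 0) :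
    ∃ z : F, z ≠ 0 ∧ HP T (finrank F V) (z • (1 : End F V)) := by
  have hco : IsCoprime (X - C α) (X - C β) := isCoprime_X_sub_C_of_isUnit_sub (sub_ne_zero.2 hαβ).isUnit
  have h1 := Polynomial.disjoint_ker_aeval_of_isCoprime T hco
  have h2 := Polynomial.sup_ker_aeval_eq_ker_aeval_mul_of_coprime T hco
  rw [hT, LinearMap.ker_zero] at h2
  have hc : IsCompl (LinearMap.ker (aeval T (X - C α))) (LinearMap.ker (aeval T (X - C β))) :=
    ⟨h1, codisjoint_iff.2 h2⟩
  have hker : ∀ {γ : F} {x : V}, x ∈ LinearMap.ker (aeval T (X - C γ)) → T x = γ • x := by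
    intro γ x hx
    rw [LinearMap.mem_ker, map_sub, aeval_X, aeval_C, Algebra.algebraMap_eq_smul_one] at hx
    rw [LinearMap.sub_apply, sub_eq_zero] at hx
    simpa using hx
  let b₁ := finBasis F (LinearMap.ker (aeval T (X - C α)))
  let b₂ := finBasis F (LinearMap.ker (aeval T (X - C β)))
  let b := ((b₁.prod b₂).map (Submodule.prodEquivOfIsCompl _ _ hc)).reindex finSumFinEquiv
  let s : Fin (finrank F (LinearMap.ker (aeval T (X - C α)))) ⊕
    Fin (finrank F (LinearMap.ker (aeval T (X - C β)))) → F := Sum.elim (fun _ => α) (fun _ => β)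
  have hb : ∀ i, T (b i) = (s (finSumFinEquiv.symm i)) • b i := by
    intro i
    obtain ⟨j, rfl⟩ := finSumFinEquiv.surjective i
    rw [Equiv.symm_apply_apply]
    have h3 : b (finSumFinEquiv j) = Submodule.prodEquivOfIsCompl _ _ hc ((b₁.prod b₂) j) := by
      simp [b]
    rw [h3]
    rcases j with j | j
    · have h4 : Submodule.prodEquivOfIsCompl _ _ hc ((b₁.prod b₂) (Sum.inl j)) = (b₁ j : V) := by
        rw [Submodule.coe_prodEquivOfIsCompl']
        simp
      rw [h4]
      exact hker (b₁ j).2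
    · have h4 : Submodule.prodEquivOfIsCompl _ _ hc ((b₁.prod b₂) (Sum.inr j)) = (b₂ j : V) := by
        rw [Submodule.coe_prodEquivOfIsCompl']
        simp
      rw [h4]
      exact hker (b₂ j).2
  have h3 := scalar_of_diag b _ T hb
  have h4 := finrank_eq_card_basis b
  rw [Fintype.card_fin] at h4
  refine ⟨∏ i, s (finSumFinEquiv.symm i), ?_, by rw [h4]; exact h3⟩
  refine Finset.prod_ne_zero_iff.2 fun i _ h5 => ?_
  have h6 := hb i
  rw [h5, zero_smul] at h6
  have h7 : b i = 0 := (LinearMap.equivOfDetNeZero T hT0).injective (h6.trans (map_zero T).symm)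
  exact b.ne_zero i h7

end Cfsg.Agent.H166.Cov
end
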